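import Cfsg.Agent.Lib.SmallSylow.PredTwo.Perfect

/-!
# A faithful irreducible character of degree `p - 2`
-/

namespace CfsgLib.SmallSylow.PredTwo

open Cfsg CfsgLib.Blocks CfsgLib.Blocks.DefectOne CfsgLib.CharTheory CfsgLib.CharTheory.SmallDegree
open scoped ComplexConjugate commutatorElement

set_option linter.unusedVariables false
set_option linter.style.haveILetI false
set_option linter.unusedSectionVars false

universe u

variable {p : ℕ} [Fact p.Prime]

/-- Without fusion the Sylow subgroup is normal. -/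
theorem normal_of_normalizer_le {L : Type u} [Group L] [Finite L] {f : ℕ}
    {R : Representation ℂ L (Fin f → ℂ)} (hR : Function.Injective R) (hf : f + 1 < p) (P : Sylow p L)
    (hP : Nat.card P = p)
    (hNC : Subgroup.normalizer ((P : Subgroup L) : Set L) ≤ Subgroup.centralizer ((P : Subgroup L) : Set L)) :
    (P : Subgroup L).Normal := by
  classical
  have := Fintype.ofFinite L
  have hp : p.Prime := Fact.out
  have h := setup_sylow P hP
  obtain ⟨x₀, hx₀, hx₀1⟩ := exists_mem_ne P hP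
  haveI : IsCyclic (P : Subgroup L) := isCyclic_of_prime_card (show Nat.card (P : Subgroup L) = p from hP)
  have hc := MonoidHom.ker_transferSylow_isComplement' P hNC
  set K := (MonoidHom.transferSylow P hNC).ker
  have hKc : Nat.card K * p = Nat.card L := by
    rw [← hP]; exact hc.card_mul_card
  have hKp : ¬ p ∣ Nat.card K := fun hd0 => by
    have := sq_not_dvd h hP
    refine this ?_
    rw [sq, ← hKc]
    exact Nat.mul_dvd_mul_right hd0 p
  have hcomm := SmallRep.commute_of_small hR (show x₀ ^ p = 1 by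
      rw [← orderOf_mem P hP hx₀ hx₀1, pow_orderOf_eq_one]) hf _ K rfl hKp
    (fun k hk => (inferInstance : K.Normal).conj_mem k hk x₀)
  refine Subgroup.normalizer_eq_top_iff.1 (eq_top_iff.2 fun g _ => ?_)
  obtain ⟨⟨k', y⟩, hky⟩ := hc.surjective g
  have hky' : (k' : L) * (y : L) = g := hky
  rw [← hky']
  refine mul_mem ?_ (Subgroup.le_normalizer y.2)
  refine h.norm_eq hx₀ hx₀1 ?_
  rw [show (k' : L) * x₀ * (k' : L)⁻¹ = x₀ by rw [← hcomm k' k'.2, mul_inv_cancel_right]]
  exact hx₀

/-- The theorem. -/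
theorem exists_sl {G : Type u} [Group G] [Fintype G] (hp5 : 5 < p) (P : Sylow p G) (hP : Nat.card P = p)
    (hnn : ¬ (P : Subgroup G).Normal) {ζ : IrrCharacter G}
    (hfaith : ∀ g : G, (ζ : G → ℂ) g = (ζ : G → ℂ) 1 → g = 1)
    (hdeg : charDegree (ζ : G → ℂ) = p - 2) :
    ∃ (a : ℕ) (F : Type) (_ : Field F) (_ : Fintype F), p = 2 ^ a + 1 ∧ Fintype.card F = 2 ^ a ∧
      Nonempty (G ≃* Matrix.SpecialLinearGroup (Fin 2) F × Subgroup.center G) := by
  classical
  have hp : p.Prime := Fact.out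
  obtain ⟨hq, H, hH, hHZ⟩ := local_structure hp5 P hP hnn ζ.2 hfaith hdeg
  have hs := setup_sylow P hP
  set C := Subgroup.centralizer ((P : Subgroup G) : Set G)
  set N := Subgroup.normalizer ((P : Subgroup G) : Set G)
  obtain ⟨x₀, hx₀, hx₀1⟩ := exists_mem_ne P hP
  -- the Sylow subgroup lies in the derived group
  have hPle : (P : Subgroup G) ≤ commutator G := by
    obtain ⟨n, hn, hnC⟩ : ∃ n ∈ N, n ∉ C := by
      by_contra hcon
      push Not at hcon
      have h1 : inIdx P = 1 := Subgroup.relIndex_eq_one.2 hcon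
      omega
    have hm : n * x₀ * n⁻¹ * x₀⁻¹ ∈ (P : Subgroup G) :=
      mul_mem ((Subgroup.mem_normalizer_iff.1 hn x₀).1 hx₀) (inv_mem hx₀)
    have hm1 : n * x₀ * n⁻¹ * x₀⁻¹ ≠ 1 := fun e =>
      hnC (hs.free hx₀ hx₀1 (mul_inv_eq_one.1 e))
    have hmc : n * x₀ * n⁻¹ * x₀⁻¹ ∈ commutator G :=
      Subgroup.commutator_mem_commutator (Subgroup.mem_top n) (Subgroup.mem_top x₀)
    haveI : Fact (Nat.card (P : Subgroup G)).Prime := ⟨by rw [show Nat.card (P : Subgroup G) = p from hP]; exact hp⟩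
    rcases Subgroup.eq_bot_or_eq_top_of_prime_card ((commutator G).subgroupOf (P : Subgroup G)) with e | e
    · have h2 : (⟨_, hm⟩ : (P : Subgroup G)) ∈ (commutator G).subgroupOf (P : Subgroup G) := hmc
      rw [e, Subgroup.mem_bot] at h2
      exact absurd (congrArg Subtype.val h2) hm1
    · exact Subgroup.subgroupOf_eq_top.1 e
  -- the derived group and the center generate
  set L := commutator G ⊔ Subgroup.center G
  obtain ⟨R, hR⟩ := exists_rep_faithful hfaith hdeg
  have hPL : (P : Subgroup G) ≤ L := hPle.trans le_sup_left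
  have hCL : C ≤ L := by
    intro c hc
    obtain ⟨x, hx, w, hw, e⟩ := hH.prod _ hc
    rw [e]
    exact mul_mem (hPL hx) ((le_sup_right : Subgroup.center G ≤ L) (hHZ hw))
  have hNL : N ≤ L := by
    by_contra hcon
    have hCN : C ≤ N := Subgroup.centralizer_le_normalizer _
    have hLN : L ⊓ N = C := by
      refine le_antisymm (fun g hg => ?_) (le_inf hCL hCN)
      by_contra hgC
      refine hcon fun n hn => ?_
      by_cases hnC : n ∈ C
      · exact hCL hnC
      · have h1 : (⟨g, hg.2⟩ : N)⁻¹ * ⟨n, hn⟩ ∈ C.subgroupOf N := by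
          rw [Subgroup.mul_mem_iff_of_index_two (show (C.subgroupOf N).index = 2 from hq), inv_mem_iff,
            Subgroup.mem_subgroupOf, Subgroup.mem_subgroupOf]
          exact iff_of_false hgC hnC
        have h2 : g * (g⁻¹ * n) ∈ L := mul_mem hg.1 (hCL h1)
        rwa [show g * (g⁻¹ * n) = n from mul_inv_cancel_left g n] at h2
    let P' : Sylow p L := P.subtype hPL
    have hP' : Nat.card P' = p := by
      exact (Nat.card_congr (Subgroup.subgroupOfEquivOfLe hPL).toEquiv).trans hP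
    have hn := normal_of_normalizer_le (R := R.comp L.subtype) (hR.comp Subtype.val_injective) (by omega)
      P' hP' (fun g hg => by
        have hgN : (g : G) ∈ N := by
          rw [Subgroup.mem_normalizer_iff]
          intro x
          by_cases hxL : x ∈ L
          · exact (Subgroup.mem_normalizer_iff.1 hg ⟨x, hxL⟩)
          · refine iff_of_false (fun h' => hxL (hPL h')) fun h' => hxL ?_
            have h2 := mul_mem (mul_mem (inv_mem g.2) (hPL h')) g.2
            rwa [show (g : G)⁻¹ * ((g : G) * x * (g : G)⁻¹) * g = x by group] at h2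
        have hgC : (g : G) ∈ C := hLN ▸ ⟨g.2, hgN⟩
        rw [Subgroup.mem_centralizer_iff]
        intro x hx
        exact Subtype.ext (Subgroup.mem_centralizer_iff.1 hgC x.1 hx))
    haveI : L.Normal := inferInstance
    haveI := hn
    refine hnn ⟨fun x hx g => ?_⟩
    have hmem : g * x * g⁻¹ ∈ L := (inferInstance : L.Normal).conj_mem x (hPL hx) g
    have hpg : IsPGroup p (Subgroup.zpowers (⟨g * x * g⁻¹, hmem⟩ : L)) := by
      refine (IsPGroup.iff_card).2 ?_
      rw [Nat.card_zpowers, ← Subgroup.orderOf_coe]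
      show ∃ n, orderOf (MulAut.conj g x) = p ^ n
      rw [MulEquiv.orderOf_eq]
      obtain ⟨k, hk⟩ := (IsPGroup.iff_orderOf.1 P.isPGroup') ⟨x, hx⟩
      exact ⟨k, by rw [← hk, ← Subgroup.orderOf_coe]⟩
    obtain ⟨Q, hQ⟩ := hpg.exists_le_sylow
    haveI := Sylow.unique_of_normal P' hn
    rw [Subsingleton.elim Q P'] at hQ
    exact hQ (Subgroup.mem_zpowers _)
  have hgen : ∀ g : G, ∃ a ∈ commutator G, ∃ w ∈ Subgroup.center G, a * w = g := by
    intro g
    have htop : L = ⊤ := by
      have h1 := Sylow.normalizer_sup_eq_top' P hPL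
      exact (sup_eq_right.2 hNL).symm.trans h1
    have hg : g ∈ commutator G ⊔ Subgroup.center G := by
      show g ∈ L
      rw [htop]; exact Subgroup.mem_top g
    exact Subgroup.mem_sup_of_normal_right.1 hg
  set D := commutator G
  haveI : Fintype D := Fintype.ofFinite _
  have hperf : commutator D = ⊤ := by
    apply Subgroup.map_injective D.subtype_injective
    rw [map_commutator_eq, Subgroup.range_subtype, ← MonoidHom.range_eq_map, Subgroup.range_subtype]
    refine le_antisymm (Subgroup.commutator_le_self D) ?_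
    show commutator G ≤ _
    rw [commutator_eq_closure, Subgroup.closure_le]
    rintro _ ⟨g₁, g₂, rfl⟩
    obtain ⟨a₁, ha₁, w₁, hw₁, rfl⟩ := hgen g₁
    obtain ⟨a₂, ha₂, w₂, hw₂, rfl⟩ := hgen g₂
    have hc := fun (t : G) => Subgroup.mem_center_iff.1 hw₁ t
    have hc' := fun (t : G) => Subgroup.mem_center_iff.1 hw₂ t
    have e : ⁅a₁ * w₁, a₂ * w₂⁆ = ⁅a₁, a₂⁆ := by
      simp only [commutatorElement_def, mul_inv_rev]
      calc a₁ * w₁ * (a₂ * w₂) * (w₁⁻¹ * a₁⁻¹) * (w₂⁻¹ * a₂⁻¹)
          = a₁ * (w₁ * (a₂ * w₂)) * (w₁⁻¹ * a₁⁻¹) * (w₂⁻¹ * a₂⁻¹) := by group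
        _ = a₁ * (a₂ * w₂ * w₁) * (w₁⁻¹ * a₁⁻¹) * (w₂⁻¹ * a₂⁻¹) := by rw [hc]
        _ = a₁ * a₂ * (w₂ * a₁⁻¹) * (w₂⁻¹ * a₂⁻¹) := by group
        _ = a₁ * a₂ * (a₁⁻¹ * w₂) * (w₂⁻¹ * a₂⁻¹) := by rw [hc']
        _ = _ := by group
    rw [e]
    exact Subgroup.commutator_mem_commutator ha₁ ha₂
  -- the restriction
  obtain ⟨n₀, R₀, hR₀, hR₀χ⟩ := ζ.2
  have hirr : IsIrrCharacter D (fun d : D => (ζ : G → ℂ) d) := by
    haveI := hR₀
    refine ⟨n₀, R₀.comp D.subtype, ?_, by rw [← hR₀χ]; rfl⟩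
    let e : Subrepresentation R₀ ≃o Subrepresentation (R₀.comp D.subtype) :=
      { toFun := fun q => ⟨q.toSubmodule, fun x _ hv => q.apply_mem_toSubmodule (x : G) hv⟩
        invFun := fun q => ⟨q.toSubmodule, fun g v hv => by
          obtain ⟨a, ha, w, hw, rfl⟩ := hgen g
          obtain ⟨t, ht⟩ := exists_scalar_of_mem_center R₀ hw
          rw [map_mul, Module.End.mul_apply, ht]
          exact q.apply_mem_toSubmodule (⟨a, ha⟩ : D) (q.toSubmodule.smul_mem t hv)⟩
        left_inv := fun _ => rfl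
        right_inv := fun _ => rfl
        map_rel_iff' := Iff.rfl }
    exact (OrderIso.isSimpleOrder_iff e).mp hR₀
  let ζ' : IrrCharacter D := ⟨_, hirr⟩
  have hfaith' : ∀ d : D, (ζ' : D → ℂ) d = (ζ' : D → ℂ) 1 → d = 1 := fun d e =>
    Subtype.ext (hfaith d (e.trans (congrArg (ζ : G → ℂ) D.coe_one)))
  have hdeg' : charDegree (ζ' : D → ℂ) = p - 2 := by
    apply Nat.cast_injective (R := ℂ)
    rw [irr_charDegree_cast, ← hdeg, irr_charDegree_cast]
    exact congrArg (ζ : G → ℂ) D.coe_one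
  let P' : Sylow p D := P.subtype hPle
  have hP' : Nat.card P' = p := by
    exact (Nat.card_congr (Subgroup.subgroupOfEquivOfLe hPle).toEquiv).trans hP
  obtain ⟨hq', H', hH', hHZ'⟩ :=
    local_structure hp5 P' hP' (not_normal_of_perfect hperf P' hP') ζ'.2 hfaith' hdeg'
  have hodd : Odd (Nat.card H') := by
    rw [Nat.odd_iff, ← Nat.not_even_iff, even_iff_two_dvd]
    intro h2
    haveI : Fact (Nat.Prime 2) := ⟨Nat.prime_two⟩
    obtain ⟨w, hw⟩ := exists_prime_orderOf_dvd_card' (G := H') 2 h2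
    obtain ⟨R', hR'⟩ := exists_rep_faithful hfaith' hdeg'
    obtain ⟨n₁, R₁, hR₁, hR₁χ⟩ := ζ'.2
    haveI := hR₁
    obtain ⟨t, ht⟩ := exists_scalar_of_mem_center R₁ (hHZ' w.2)
    have hn₁ : n₁ = p - 2 := by
      rw [← hdeg']
      apply Nat.cast_injective (R := ℂ)
      rw [irr_charDegree_cast, ← hR₁χ, Representation.char_one, Module.finrank_fin_fun]
    let φ : D →* ℂ := (LinearMap.det : Module.End ℂ (Fin n₁ → ℂ) →* ℂ).comp R₁
    have hdet : φ (w : D) = 1 := by
      have h1 := Abelianization.commutator_subset_ker φ.toHomUnits (hperf ▸ Subgroup.mem_top (w : D))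
      exact congrArg Units.val (MonoidHom.mem_ker.1 h1)
    have hdet' : t ^ (p - 2) = 1 := by
      rw [← hdet]
      show _ = LinearMap.det (R₁ (w : D))
      rw [ht, LinearMap.det_smul, Module.finrank_fin_fun, hn₁, LinearMap.det_id, mul_one]
    have hw2 : (w : D) * (w : D) = 1 := by
      rw [← Subgroup.coe_mul, ← sq, ← hw, pow_orderOf_eq_one, Subgroup.coe_one]
    have ht2 : t = 1 := by
      have h1 : t * t = 1 := by
        have h2 := congrArg (fun T : Module.End ℂ (Fin n₁ → ℂ) => LinearMap.trace ℂ _ T)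
          (show R₁ (w : D) * R₁ (w : D) = 1 by rw [← map_mul, hw2, map_one])
        simp only [ht] at h2
        rw [smul_mul_smul_comm, ← Module.End.one_eq_id, one_mul, map_smul, LinearMap.trace_one,
          Module.finrank_fin_fun, smul_eq_mul] at h2
        exact mul_right_cancel₀ (Nat.cast_ne_zero.2 (show n₁ ≠ 0 by omega)) (by rw [one_mul]; exact h2)
      rcases mul_self_eq_one_iff.1 h1 with e | e
      · exact e
      · obtain ⟨m, hm⟩ := hp.odd_of_ne_two (by omega)
        rw [e, show p - 2 = 2 * (m - 1) + 1 by omega, pow_succ, pow_mul, neg_one_sq, one_pow, one_mul] at hdet'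
        norm_num at hdet'
    have hw1 : (w : D) = 1 := hfaith' _ (by
      rw [← hR₁χ, Representation.character, Representation.character, ht, ht2, one_smul, map_one]
      rfl)
    rw [← Subgroup.orderOf_coe, hw1, orderOf_one] at hw
    exact absurd hw (by norm_num)
  have K : Ctx p P' H' := ⟨hp5, hP', hH', hHZ', hq', hodd⟩
  obtain ⟨m, F, hF, hF', hcF, hpm, ⟨e⟩⟩ := K.perfect_case hperf hfaith' hdeg'
  have hZD : ∀ d : D, (d : G) ∈ Subgroup.center G → d = 1 := by
    intro d hd
    have h1 : e d ∈ Subgroup.center (Matrix.SpecialLinearGroup (Fin 2) F) := by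
      rw [Subgroup.mem_center_iff]
      intro s
      obtain ⟨d', rfl⟩ := e.surjective s
      rw [← map_mul, ← map_mul]
      exact congrArg e (Subtype.ext (Subgroup.mem_center_iff.1 hd d'))
    have hbot : Subgroup.center (Matrix.SpecialLinearGroup (Fin 2) F) = ⊥ := by
      apply Subgroup.eq_bot_of_card_eq
      rw [SLCard.card_SL_center (by norm_num), hcF]
      have h3 : 1 ≤ m := Nat.one_le_iff_ne_zero.2 fun h0 => by rw [h0] at hpm; omega
      have h4 : ¬ 2 ∣ 2 ^ m - 1 := by
        obtain ⟨j, rfl⟩ := Nat.exists_eq_succ_of_ne_zero (show m ≠ 0 by omega)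
        have : 1 ≤ 2 ^ j := Nat.one_le_two_pow
        rw [pow_succ]
        omega
      exact (Nat.prime_two.coprime_iff_not_dvd).2 h4
    rw [hbot, Subgroup.mem_bot] at h1
    exact e.injective (h1.trans (map_one e).symm)
  let ψ : D × Subgroup.center G →* G :=
    { toFun := fun q => (q.1 : G) * q.2
      map_one' := by simp
      map_mul' := fun q q' => by
        show (q.1 : G) * q'.1 * ((q.2 : G) * q'.2) = (q.1 : G) * q.2 * ((q'.1 : G) * q'.2)
        calc (q.1 : G) * q'.1 * ((q.2 : G) * q'.2) = q.1 * (q'.1 * q.2) * q'.2 := by group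
          _ = q.1 * (q.2 * q'.1) * q'.2 := by rw [Subgroup.mem_center_iff.1 q.2.2]
          _ = _ := by group }
  have hψ : Function.Bijective ψ := by
    refine ⟨(injective_iff_map_eq_one ψ).2 fun q hq => ?_, fun g => ?_⟩
    · have hq' : (q.1 : G) * q.2 = 1 := hq
      have h1 : q.1 = 1 := hZD q.1 (by rw [eq_inv_of_mul_eq_one_left hq']; exact inv_mem q.2.2)
      rw [h1, Subgroup.coe_one, one_mul] at hq'
      exact Prod.ext h1 (Subtype.ext hq')
    · obtain ⟨a, ha, w, hw, rfl⟩ := hgen g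
      exact ⟨(⟨a, ha⟩, ⟨w, hw⟩), rfl⟩
  exact ⟨m, F, hF, hF', hpm, hcF,
    ⟨((MulEquiv.ofBijective ψ hψ).symm).trans (e.prodCongr (MulEquiv.refl _))⟩⟩

end CfsgLib.SmallSylow.PredTwo
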