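import Cfsg.Agent.Lib.SmallSylow.PredTwo.Pairs
import Cfsg.Agent.Lib.CharTheory.PowerMap

/-!
# The value at an inverting involution
-/

namespace CfsgLib.SmallSylow.PredTwo

open Cfsg CfsgLib.Blocks CfsgLib.Blocks.DefectOne CfsgLib.CharTheory CfsgLib.CharTheory.SmallDegree
open scoped ComplexConjugate

set_option linter.unusedVariables false
set_option linter.style.haveILetI false
set_option linter.unusedSectionVars false

universe u

variable {G : Type u} [Group G] [Fintype G] {p : ℕ} [Fact p.Prime] {P : Sylow p G} {H : Subgroup G}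

theorem involution_value {F : G → ℂ} (hF : IsCharacter G F) {z : G} (hz : orderOf z = 2) :
    ∃ g : ℤ, F z = g := by
  refine rational_int_of_invariant hF z fun m hm => ?_
  have h2 : 2 ∣ Nat.card G := hz ▸ orderOf_dvd_natCard z
  have hodd : m % 2 = 1 := by
    rcases Nat.mod_two_eq_zero_or_one m with h | h
    · have : 2 ∣ Nat.gcd m (Nat.card G) := Nat.dvd_gcd (Nat.dvd_of_mod_eq_zero h) h2
      rw [hm] at this
      omega
    · exact h
  rw [show z ^ m = z ^ (m % orderOf z) from (pow_mod_orderOf z m).symm, hz, hodd, pow_one]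

/-- The multiplicities of the two linear characters of the dihedral group. -/
theorem Ctx.dihedral_sum (K : Ctx p P H) [Fintype (P : Subgroup G)] {z : G} (hz : orderOf z = 2)
    (hinv : ∀ x ∈ (P : Subgroup G), z * x * z⁻¹ = x⁻¹) {F : G → ℂ} (hF : IsCharacter G F) :
    (∃ m : ℕ, (∑ x : (P : Subgroup G), F x) + (p : ℂ) * F z = ((2 * p * m : ℕ) : ℂ)) ∧
      (∃ m : ℕ, (∑ x : (P : Subgroup G), F x) - (p : ℂ) * F z = ((2 * p * m : ℕ) : ℂ)) := by
  classical
  have hz2 : z * z = 1 := by rw [← sq]; exact hz ▸ pow_orderOf_eq_one z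
  have hzi : z⁻¹ = z := inv_eq_of_mul_eq_one_right hz2
  have hzP : z ∉ (P : Subgroup G) := fun h => by
    have h1 := Subgroup.orderOf_dvd_natCard (P : Subgroup G) h
    rw [hz, show Nat.card (P : Subgroup G) = p from K.hP] at h1
    have := (Nat.prime_dvd_prime_iff_eq Nat.prime_two (Fact.out : p.Prime)).1 h1
    have := K.hp5
    omega
  have hswap : ∀ x ∈ (P : Subgroup G), x * z = z * x⁻¹ := fun x hx => by
    rw [← hinv x hx, hzi, ← mul_assoc, ← mul_assoc, hz2, one_mul]
  let D : Subgroup G :=
    { carrier := {g | g ∈ (P : Subgroup G) ∨ z * g ∈ (P : Subgroup G)}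
      one_mem' := Or.inl (one_mem _)
      mul_mem' := by
        rintro a b (ha | ha) (hb | hb)
        · exact Or.inl (mul_mem ha hb)
        · refine Or.inr ?_
          have e : z * (a * b) = a⁻¹ * (z * b) := by
            have := hswap _ (inv_mem ha)
            rw [inv_inv] at this
            rw [← mul_assoc, ← this, mul_assoc]
          rw [e]
          exact mul_mem (inv_mem ha) hb
        · refine Or.inr ?_
          rw [← mul_assoc]
          exact mul_mem ha hb
        · refine Or.inl ?_
          have e : a * b = (z * a)⁻¹ * (z * b) := by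
            have h1 := hswap _ ha
            calc a * b = (z * z) * a * (z * z) * b := by rw [hz2, one_mul, mul_one]
              _ = z * ((z * a) * z) * (z * b) := by group
              _ = z * (z * (z * a)⁻¹) * (z * b) := by rw [h1]
              _ = (z * a)⁻¹ * (z * b) := by rw [← mul_assoc z z, hz2, one_mul]
          rw [e]
          exact mul_mem (inv_mem ha) hb
      inv_mem' := by
        rintro a (ha | ha)
        · exact Or.inl (inv_mem ha)
        · refine Or.inr ?_
          have h3 : z * a⁻¹ = z * a := by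
            have e : (z * a) * z = z * (z * a)⁻¹ := hswap _ ha
            rw [mul_inv_rev, hzi] at e
            calc z * a⁻¹ = (z * (a⁻¹ * z)) * z := by rw [mul_assoc, mul_assoc, hz2, mul_one]
              _ = ((z * a) * z) * z := by rw [e]
              _ = z * a := by rw [mul_assoc, hz2, mul_one]
          rw [h3]
          exact ha }
  haveI : Fintype D := Fintype.ofFinite _
  have hdisj : ∀ g : G, g ∈ (P : Subgroup G) → z * g ∉ (P : Subgroup G) := fun g hg h => by
    have := mul_mem h (inv_mem hg)
    rw [mul_inv_cancel_right] at this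
    exact hzP this
  let e : (P : Subgroup G) ⊕ (P : Subgroup G) ≃ D :=
    { toFun := Sum.elim (fun x => ⟨x, Or.inl x.2⟩) (fun x => ⟨z * x, Or.inr (by
        show z * (z * (x : G)) ∈ (P : Subgroup G)
        rw [← mul_assoc, hz2, one_mul]; exact x.2)⟩)
      invFun := fun d => if h : (d : G) ∈ (P : Subgroup G) then Sum.inl ⟨d, h⟩
        else Sum.inr ⟨z * d, d.2.resolve_left h⟩
      left_inv := by
        rintro (x | x)
        · exact (dif_pos x.2)
        · refine (dif_neg (hdisj x x.2)).trans ?_
          exact congrArg Sum.inr (Subtype.ext (show z * (z * (x : G)) = x by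
            rw [← mul_assoc, hz2, one_mul]))
      right_inv := fun d => by
        by_cases h : (d : G) ∈ (P : Subgroup G)
        · exact (congrArg _ (dif_pos h)).trans (Subtype.ext rfl)
        · refine (congrArg _ (dif_neg h)).trans ?_
          exact Subtype.ext (show z * (z * (d : G)) = d by rw [← mul_assoc, hz2, one_mul]) }
  have hFz : ∀ x : (P : Subgroup G), F (z * x) = F z := fun x => by
    obtain ⟨c, hc⟩ := isConj_iff.1 (K.isConj_reflection hinv x.2)
    obtain ⟨n, R, rfl⟩ := hF
    rw [← hc, Representation.char_conj]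
  let s : D →* ℂ :=
    { toFun := fun d => if (d : G) ∈ (P : Subgroup G) then 1 else -1
      map_one' := if_pos (one_mem _)
      map_mul' := fun a b => by
        show (if ((a : G) * b) ∈ (P : Subgroup G) then (1 : ℂ) else -1) = _ * _
        by_cases ha : (a : G) ∈ (P : Subgroup G)
        · rw [if_pos ha, one_mul]
          exact if_congr (Subgroup.mul_mem_cancel_left _ ha) rfl rfl
        · rw [if_neg ha]
          by_cases hb : (b : G) ∈ (P : Subgroup G)
          · rw [if_neg (fun h => ha ((Subgroup.mul_mem_cancel_right _ hb).1 h)), if_pos hb, mul_one]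
          · rw [if_pos, if_neg hb, neg_mul_neg, one_mul]
            have h1 := (a * b).2
            rcases h1 with h1 | h1
            · exact h1
            · have e1 : z * ((a : G) * b) = (z * a) * b := (mul_assoc _ _ _).symm
              rw [Subgroup.coe_mul, e1, Subgroup.mul_mem_cancel_left _ (a.2.resolve_left ha)] at h1
              exact absurd h1 hb }
  have hres := isCharacter_restrict hF D
  have hcard : (Nat.card D : ℂ) = ((2 * p : ℕ) : ℂ) := by
    rw [← Nat.card_congr e, Nat.card_sum, show Nat.card (P : Subgroup G) = p from K.hP, two_mul]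
  have key : ∀ ψ : D → ℂ, IsCharacter D ψ → ∃ m : ℕ,
      ∑ x : (P : Subgroup G), F x * conj (ψ (e (Sum.inl x))) +
        ∑ x : (P : Subgroup G), F z * conj (ψ (e (Sum.inr x))) = ((2 * p * m : ℕ) : ℂ) := by
    intro ψ hψ
    obtain ⟨m, hm⟩ := classInner_char_nat hres hψ
    refine ⟨m, ?_⟩
    rw [classInner, inv_mul_eq_iff_eq_mul₀ (Nat.cast_ne_zero.2 Nat.card_pos.ne'), hcard,
      ← e.sum_comp, Fintype.sum_sum_type] at hm
    rw [Nat.cast_mul (2 * p) m, ← hm]
    exact congrArg₂ (· + ·) rfl (Finset.sum_congr rfl fun x _ => by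
      show _ = F (z * (x : G)) * _
      rw [hFz])
  constructor
  · obtain ⟨m, hm⟩ := key _ (isCharacter_one (G := D))
    refine ⟨m, ?_⟩
    rw [← hm]
    simp only [map_one, mul_one, Finset.sum_const, Finset.card_univ, ← Nat.card_eq_fintype_card,
      nsmul_eq_mul, show Nat.card (P : Subgroup G) = p from K.hP]
  · obtain ⟨m, hm⟩ := key _ (isCharacter_of_irr (isIrrCharacter_linear s.toHomUnits))
    refine ⟨m, ?_⟩
    rw [← hm]
    have h1 : ∀ x : (P : Subgroup G), (s.toHomUnits (e (Sum.inl x)) : ℂ) = 1 := fun x => if_pos x.2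
    have h2 : ∀ x : (P : Subgroup G), (s.toHomUnits (e (Sum.inr x)) : ℂ) = -1 := fun x =>
      if_neg (hdisj x x.2)
    simp only [h1, h2, map_one, map_neg, mul_one, mul_neg, Finset.sum_neg_distrib, Finset.sum_const,
      Finset.card_univ, ← Nat.card_eq_fintype_card, nsmul_eq_mul, sub_eq_add_neg,
      show Nat.card (P : Subgroup G) = p from K.hP]

open Classical in
theorem sum_eq_add_singSum [Fintype (P : Subgroup G)] (χ : IrrCharacter G) :
    ∑ x : (P : Subgroup G), (χ : G → ℂ) x = (χ : G → ℂ) 1 + singSum P χ := by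
  have e : singSum P χ = ∑ x ∈ Finset.univ.erase (1 : (P : Subgroup G)), (χ : G → ℂ) x := by
    rw [singSum, ← Finset.filter_ne', Finset.sum_filter]
    refine Finset.sum_congr (by congr 1; exact Subsingleton.elim _ _) fun x _ => ?_
    split_ifs <;> first | rfl | contradiction
  rw [e, ← Finset.add_sum_erase _ _ (Finset.mem_univ (1 : (P : Subgroup G))), Subgroup.coe_one]

/-- The bound on the value at the involution. -/
theorem Ctx.value_bound (K : Ctx p P H) {z : G} (hz : orderOf z = 2)
    (hinv : ∀ x ∈ (P : Subgroup G), z * x * z⁻¹ = x⁻¹) (χ : IrrCharacter G) {S : ℤ}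
    (hS : singSum P χ = (S : ℂ)) {g : ℤ} (hg : (χ : G → ℂ) z = (g : ℂ)) :
    (p : ℤ) * |g| ≤ charDegree (χ : G → ℂ) + S := by
  classical
  haveI : Fintype (P : Subgroup G) := Fintype.ofFinite _
  obtain ⟨⟨m, hm⟩, ⟨m', hm'⟩⟩ := K.dihedral_sum hz hinv (isCharacter_of_irr χ.2)
  rw [sum_eq_add_singSum, hS, hg, ← irr_charDegree_cast] at hm hm'
  have h1 : ((charDegree (χ : G → ℂ) : ℤ) + S + p * g : ℤ) = ((2 * p * m : ℕ) : ℤ) := by
    apply Int.cast_injective (α := ℂ); push_cast; push_cast at hm; linear_combination hm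
  have h2 : ((charDegree (χ : G → ℂ) : ℤ) + S - p * g : ℤ) = ((2 * p * m' : ℕ) : ℤ) := by
    apply Int.cast_injective (α := ℂ); push_cast; push_cast at hm'; linear_combination hm'
  rw [← Int.natAbs_natCast p, Int.natCast_natAbs, ← abs_mul, abs_le]
  constructor <;> omega

end CfsgLib.SmallSylow.PredTwo
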