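import Cfsg.Agent.Lib.SmallSylow.Block
import Cfsg.Agent.Lib.Blocks.DefectOneBlocks
import Cfsg.Agent.Lib.SmallRep.Complex

/-!
# A faithful irreducible character of degree `p - 2`: the local structure
-/

namespace CfsgLib.SmallSylow.PredTwo

open Cfsg CfsgLib.Blocks CfsgLib.Blocks.DefectOne CfsgLib.CharTheory CfsgLib.CharTheory.SmallDegree
open scoped ComplexConjugate

set_option linter.unusedVariables false
set_option linter.style.haveILetI false
set_option linter.unusedSectionVars false

universe u

noncomputable local instance normFintype {G : Type u} [Group G] [Fintype G] (P : Subgroup G) :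
    Fintype (Subgroup.normalizer (P : Set G)) :=
  Fintype.ofFinite _

section shape

variable {G : Type u} [Group G] [Fintype G] {p : ℕ} {M : Ideal AlgInt} {P H : Subgroup G}
  [Fintype P] [Fintype (cen P)] [Fintype H] {B : Set (IrrCharacter G)} {θ : IrrCharacter (cen P)}

theorem card_normalizer_eq (θ : IrrCharacter (cen P)) :
    Nat.card (Subgroup.normalizer (P : Set G)) =
      Nat.card (stab θ) * (stab θ).relIndex (Subgroup.normalizer (P : Set G)) := by
  rw [← Subgroup.card_mul_index ((stab θ).subgroupOf (Subgroup.normalizer (P : Set G))),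
    Nat.card_congr (Subgroup.subgroupOfEquivOfLe (stab_le θ)).toEquiv]
  rfl

theorem resH_cConj_one (hH : Compl P H) (θ : IrrCharacter (cen P)) {g : G}
    (hg : g ∈ Subgroup.normalizer (P : Set G)) :
    resH hH (cConj hg θ) 1 = (charDegree (θ : cen P → ℂ) : ℂ) := by
  rw [irr_charDegree_cast]
  show (θ : cen P → ℂ) (cEquiv hg 1) = _
  rw [map_one]

/-- The sum over the nontrivial elements of `P`. -/
theorem sum_singular (hM : IsPModular p M) (h : Setup p P) (hH : Compl P H)
    (hr : Root hM h hH B θ) {χ : IrrCharacter G} (hχ : χ ∈ B) [DecidableEq (IrrCharacter P)]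
    [DecidableEq P] :
    ∑ x ∈ Finset.univ.erase (1 : P), (χ : G → ℂ) x =
      -(((stab θ).relIndex (Subgroup.normalizer (P : Set G)) * charDegree (θ : cen P → ℂ) : ℕ) : ℂ) *
        ((∑ ν ∈ Finset.univ.erase (oneP P), ddz h hH θ χ ν : ℤ) : ℂ) := by
  classical
  set N := Subgroup.normalizer (P : Set G)
  refine mul_left_cancel₀ (Nat.cast_ne_zero.2 (Nat.card_pos (α := stab θ)).ne') ?_
  have hterm : ∀ x ∈ Finset.univ.erase (1 : P), (Nat.card (stab θ) : ℂ) * (χ : G → ℂ) x =
      ∑ n : N, ∑ ν ∈ Finset.univ.erase (oneP P),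
        (ddz h hH θ χ ν : ℂ) * ((nConj n.2 ν : P → ℂ) x * (charDegree (θ : cen P → ℂ) : ℂ)) := by
    intro x hx
    have h2 := value_nu hM h hH hr hχ x (fun e => Finset.ne_of_mem_erase hx (Subtype.ext e)) 1
    rw [Subgroup.coe_one, mul_one] at h2
    rw [h2]
    simp only [resH_cConj_one hH θ]
    convert rfl
  rw [Finset.mul_sum, Finset.sum_congr rfl hterm, Finset.sum_comm]
  have hsum : ∀ n : N, ∀ ν ∈ Finset.univ.erase (oneP P),
      ∑ x ∈ Finset.univ.erase (1 : P), (nConj n.2 ν : P → ℂ) x = -1 := by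
    intro n ν hν
    have h3 := classInner_irr_ne (nConj n.2 ν).2 (isIrrCharacter_one : IsIrrCharacter P fun _ => 1)
      fun e => nConj_ne_one n.2 (Finset.ne_of_mem_erase hν) (Subtype.ext e)
    rw [classInner, mul_eq_zero, inv_eq_zero, Nat.cast_eq_zero] at h3
    have h4 := h3.resolve_left Nat.card_pos.ne'
    simp only [map_one, mul_one] at h4
    rw [← Finset.add_sum_erase _ _ (Finset.mem_univ (1 : P)), irrP_one h] at h4
    exact eq_neg_of_add_eq_zero_right h4
  rw [Finset.sum_congr rfl fun n _ => show _ =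
      -((charDegree (θ : cen P → ℂ) : ℂ) *
        ((∑ ν ∈ Finset.univ.erase (oneP P), ddz h hH θ χ ν : ℤ) : ℂ)) by
    rw [Finset.sum_comm, Int.cast_sum, Finset.mul_sum, ← Finset.sum_neg_distrib]
    refine Finset.sum_congr rfl fun ν hν => ?_
    rw [← Finset.mul_sum, ← Finset.sum_mul, hsum n ν hν]
    ring, Finset.sum_const, Finset.card_univ, ← Nat.card_eq_fintype_card, card_normalizer_eq θ,
    nsmul_eq_mul]
  push_cast
  ring

/-- The part of a character over the root. -/
theorem part_le (h : Setup p P) (hH : Compl P H) (hθ : SmallDegree.lam h θ = fun _ => 1)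
    (χ : IrrCharacter G) [DecidableEq (IrrCharacter P)] (hP : Nat.card P = p) :
    ∃ (k : ℕ), co (χ : G → ℂ) θ = (k : ℂ) ∧
      (∀ ν, 0 ≤ (k : ℤ) + ddz h hH θ χ ν) ∧
      (charDegree (θ : cen P → ℂ) : ℤ) * ((k : ℤ) * p +
        ∑ ν ∈ Finset.univ.erase (oneP P), ddz h hH θ χ ν) ≤ charDegree (χ : G → ℂ) ∧
      ((charDegree (θ : cen P → ℂ) : ℤ) * ((k : ℤ) * p +
        ∑ ν ∈ Finset.univ.erase (oneP P), ddz h hH θ χ ν) = charDegree (χ : G → ℂ) →
        ∀ c : cen P, (χ : G → ℂ) c =
          ∑ ν : IrrCharacter P, (((k : ℤ) + ddz h hH θ χ ν : ℤ) : ℂ) * (mk h hH θ ν : cen P → ℂ) c) := by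
  classical
  obtain ⟨n, hn, hexp⟩ := exists_co (P := P) (isCharacter_of_irr χ.2)
  have hν : ∀ ν, (n (mk h hH θ ν) : ℤ) = (n θ : ℤ) + ddz h hH θ χ ν := by
    intro ν
    have h1 := dd_eq_cast h hH θ χ ν
    rw [dd, hn, hn] at h1
    have h2 : (((n (mk h hH θ ν) : ℤ) - n θ : ℤ) : ℂ) = ((ddz h hH θ χ ν : ℤ) : ℂ) := by
      push_cast; exact h1
    have h3 : (n (mk h hH θ ν) : ℤ) - n θ = ddz h hH θ χ ν := by exact_mod_cast h2
    omega
  have hdeg : ∀ ν, charDegree (mk h hH θ ν : cen P → ℂ) = charDegree (θ : cen P → ℂ) := by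
    intro ν
    apply Nat.cast_injective (R := ℂ)
    rw [irr_charDegree_cast, irr_charDegree_cast, ← resH_one hH, resH_mk h hH hθ, resH_one]
  have htot : charDegree (χ : G → ℂ) = ∑ μ, n μ * charDegree (μ : cen P → ℂ) := by
    apply Nat.cast_injective (R := ℂ)
    rw [irr_charDegree_cast, Nat.cast_sum]
    have := hexp 1
    rw [Subgroup.coe_one] at this
    rw [this]
    exact Finset.sum_congr rfl fun μ _ => by rw [Nat.cast_mul, irr_charDegree_cast]
  set T := Finset.univ.image (mk h hH θ)
  have hT : ∑ μ ∈ T, n μ * charDegree (μ : cen P → ℂ) =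
      charDegree (θ : cen P → ℂ) * ∑ ν, n (mk h hH θ ν) := by
    rw [Finset.sum_image (mk_injective h hH hθ).injOn, Finset.mul_sum]
    exact Finset.sum_congr rfl fun ν _ => by rw [hdeg, mul_comm]
  have hsum : ((∑ ν, n (mk h hH θ ν) : ℕ) : ℤ) = (n θ : ℤ) * p +
      ∑ ν ∈ Finset.univ.erase (oneP P), ddz h hH θ χ ν := by
    rw [Nat.cast_sum, Finset.sum_congr rfl fun ν _ => hν ν, Finset.sum_add_distrib,
      Finset.sum_const, Finset.card_univ, card_irr_P h hP, nsmul_eq_mul, mul_comm (p : ℤ),
      ← Finset.add_sum_erase _ _ (Finset.mem_univ (oneP P)), ddz_one h hH hθ, zero_add]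
  refine ⟨n θ, hn θ, fun ν => by rw [← hν]; positivity, ?_, fun he c => ?_⟩
  · rw [← hsum, ← Nat.cast_mul, Nat.cast_le, ← hT, htot]
    exact Finset.sum_le_sum_of_subset (Finset.subset_univ _)
  · rw [← hsum, ← Nat.cast_mul, Nat.cast_inj, ← hT, htot, ← Finset.sum_add_sum_compl T] at he
    have hrest : ∀ μ ∈ Tᶜ, n μ = 0 := by
      intro μ hμ
      have h1 := Finset.sum_eq_zero_iff.1
        (show ∑ μ ∈ Tᶜ, n μ * charDegree (μ : cen P → ℂ) = 0 by omega) μ hμ
      refine (mul_eq_zero.1 h1).resolve_right fun h0 => irr_one_ne_zero μ ?_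
      rw [← irr_charDegree_cast, h0, Nat.cast_zero]
    rw [hexp c, ← Finset.sum_add_sum_compl T, Finset.sum_eq_zero (s := Tᶜ) fun μ hμ => by
      rw [hrest μ hμ, Nat.cast_zero, zero_mul], add_zero, Finset.sum_image (mk_injective h hH hθ).injOn]
    exact Finset.sum_congr rfl fun ν _ => by rw [← hν, Int.cast_natCast]

end shape

variable {G : Type u} [Group G] [Fintype G] {p : ℕ} [Fact p.Prime]

/-- The local structure. -/
theorem local_structure (hp5 : 5 < p) (P : Sylow p G) (hP : Nat.card P = p)
    (hnn : ¬ (P : Subgroup G).Normal) {ζ : G → ℂ} (hζ : IsIrrCharacter G ζ)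
    (hfaith : ∀ g : G, ζ g = ζ 1 → g = 1) (hdeg : charDegree ζ = p - 2) :
    inIdx P = 2 ∧ ∃ H : Subgroup G, Compl (P : Subgroup G) H ∧ H ≤ Subgroup.center G := by
  classical
  have hp : p.Prime := Fact.out
  obtain ⟨M, hM⟩ := exists_pModular hp
  haveI : Fintype (P : Subgroup G) := Fintype.ofFinite _
  haveI : Fintype (cen (P : Subgroup G)) := Fintype.ofFinite _
  have h := setup_sylow P hP
  obtain ⟨H, hH⟩ := exists_Compl h
  haveI : Fintype H := Fintype.ofFinite _
  obtain ⟨χ, rfl⟩ : ∃ χ : IrrCharacter G, (χ : G → ℂ) = ζ := ⟨⟨ζ, hζ⟩, rfl⟩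
  set B := blockOf M (χ : G → ℂ)
  have hB : IsPBlock M B := blockOf_isPBlock χ
  have hχB : χ ∈ B := mem_blockOf_self hM χ
  have hndvd : ¬ p ∣ charDegree (χ : G → ℂ) := by
    rw [hdeg]; intro hd
    have := Nat.le_of_dvd (by omega) hd
    omega
  have hd : 0 < blockDefect p B := by
    have h1 : 0 < (Nat.card G).factorization p :=
      hp.factorization_pos_of_dvd Nat.card_pos.ne' (hP ▸ Subgroup.card_subgroup_dvd_card (P : Subgroup G))
    have h2 : minDv p B ≤ dv p (χ : G → ℂ) := Nat.sInf_le ⟨χ, hχB, rfl⟩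
    have h3 : dv p (χ : G → ℂ) = 0 := Nat.factorization_eq_zero_of_not_dvd hndvd
    have h4 := blockDefect_eq p B
    omega
  obtain ⟨θ, hr⟩ := exists_root hM h hH hP hB hd
  obtain ⟨X, Y, ε, a, τ, S⟩ := exists_shape hM h hH hr
  set d := charDegree (θ : cen (P : Subgroup G) → ℂ) with hd'
  set r := (stab θ).relIndex (Subgroup.normalizer ((P : Subgroup G) : Set G)) with hr'
  set e := (cen (P : Subgroup G)).relIndex (stab θ) with he'
  have hq : e * r = inIdx P := relIndex_mul θ
  have hd1 : 1 ≤ d := Nat.one_le_iff_ne_zero.2 fun h0 => irr_one_ne_zero θ (by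
    rw [← irr_charDegree_cast, ← hd', h0, Nat.cast_zero])
  have he1 : 1 ≤ e := Nat.pos_of_ne_zero Subgroup.index_ne_zero_of_finite
  have hr1 : 1 ≤ r := Nat.pos_of_ne_zero Subgroup.index_ne_zero_of_finite
  have hYe : Y.card * e = p - 1 := S.cardY
  have hY1 : 1 ≤ Y.card := Finset.card_pos.2 (S.nonempty_Y hP)
  have hqd : inIdx P ∣ p - 1 := by
    haveI := isCyclic_mulAut h hP
    have h1 : inIdx P ∣ Nat.card (MulAut (P : Subgroup G)) := by
      show ((Subgroup.centralizer ((P : Subgroup G) : Set G)).subgroupOf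
        (Subgroup.normalizer ((P : Subgroup G) : Set G))).index ∣ _
      rw [← Subgroup.normalizerMonoidHom_ker, Subgroup.index_ker]
      exact Subgroup.card_subgroup_dvd_card _
    haveI : IsCyclic (P : Subgroup G) := isCyclic_of_prime_card (show Nat.card (P : Subgroup G) = p from hP)
    rwa [IsCyclic.card_mulAut, show Nat.card (P : Subgroup G) = p from hP, Nat.totient_prime hp] at h1
  have hqle : inIdx P ≤ p - 1 := Nat.le_of_dvd (by omega) hqd
  have hq1 : 1 ≤ inIdx P := hq ▸ Nat.mul_pos he1 hr1
  obtain ⟨x₀, hx₀, hx₀1⟩ := exists_mem_ne P hP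
  have hnotdeg : (χ : G → ℂ) x₀ ≠ (χ : G → ℂ) 1 := fun e0 => hx₀1 (hfaith _ e0)
  obtain ⟨k, hk, hpos, hle, hexact⟩ := part_le h hH hr.ker χ hP
  rw [← hd', hdeg] at hle hexact
  rcases Finset.mem_union.1 (show χ ∈ X ∪ Y by
    rw [← S.bset_eq, mem_bset]; exact hχB) with hX | hY
  · exfalso
    have hsum : ∑ ν ∈ Finset.univ.erase (oneP (P : Subgroup G)), ddz h hH θ χ ν =
        a χ * ((p : ℤ) - 1) := by
      rw [Finset.sum_congr rfl fun ν hν => S.rowX χ hX ν (Finset.ne_of_mem_erase hν), Finset.sum_const,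
        Finset.card_erase_of_mem (Finset.mem_univ _), Finset.card_univ, card_irr_P h hP, nsmul_eq_mul,
        Nat.cast_sub hp.one_le]
      push_cast; ring
    rw [hsum] at hle
    rcases S.ha χ hX with e1 | e1
    · rw [e1, one_mul] at hle
      have : (1 : ℤ) * ((k : ℤ) * p + ((p : ℤ) - 1)) ≤ d * ((k : ℤ) * p + ((p : ℤ) - 1)) :=
        mul_le_mul_of_nonneg_right (by exact_mod_cast hd1) (by nlinarith)
      push_cast [Nat.cast_sub (show 2 ≤ p by omega)] at hle
      nlinarith
    · have h1 := S.valueX hM hr hX ⟨x₀, hx₀⟩ hx₀1 1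
      rw [e1, Subgroup.coe_one, mul_one] at h1
      simp only [resH_cConj_one hH θ, Finset.sum_const, Finset.card_univ, ← Nat.card_eq_fintype_card,
        card_normalizer_eq θ, nsmul_eq_mul] at h1
      push_cast at h1
      have hval : (χ : G → ℂ) x₀ = ((r * d : ℕ) : ℂ) := by
        refine mul_left_cancel₀ (Nat.cast_ne_zero.2 (Nat.card_pos (α := stab θ)).ne') ?_
        rw [hr', hd']
        push_cast
        linear_combination h1
      have hmod := S.degX hM hr hX
      rw [hdeg, e1] at hmod
      have hdiv : (cen (P : Subgroup G)).relIndex (Subgroup.normalizer ((P : Subgroup G) : Set G)) / e = r := by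
        rw [← relIndex_mul θ, Nat.mul_div_cancel_left _ he1]
      rw [show (cen (P : Subgroup G)).relIndex (stab θ) = e from rfl, hdiv, ← hd'] at hmod
      have hrd : r * d ≤ p - 2 := by
        have h2 := norm_char_le (isCharacter_of_irr χ.2) x₀
        rw [hval, ← irr_charDegree_cast, hdeg, Complex.norm_natCast, Complex.norm_natCast] at h2
        exact_mod_cast h2
      have hm : r * d ≡ p - 2 [MOD p] := by
        rw [← Int.natCast_modEq_iff]
        have := hmod.symm
        rwa [show -(-1 : ℤ) * ((r * d : ℕ) : ℤ) = ((r * d : ℕ) : ℤ) by ring] at this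
      refine hnotdeg ?_
      rw [hval, ← irr_charDegree_cast, hdeg,
        Nat.ModEq.eq_of_lt_of_lt hm (by omega) (by omega)]
  · have hτ := S.neY χ hY
    have hsum : ∑ ν ∈ Finset.univ.erase (oneP (P : Subgroup G)), ddz h hH θ χ ν = ε * (e : ℤ) := by
      rw [he', ← card_sim h (θ := θ) hτ, ← Finset.sum_subset
        (s₁ := Finset.univ.filter fun ν => Sim θ ν (τ χ))
        (fun ν hν => Finset.mem_erase.2 ⟨sim_ne_one h (Finset.mem_filter.1 hν).2 hτ, Finset.mem_univ _⟩)
        (fun ν hν hn => (S.rowY χ hY ν (Finset.ne_of_mem_erase hν)).2 fun hs =>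
          hn (Finset.mem_filter.2 ⟨Finset.mem_univ _, hs⟩)),
        Finset.sum_congr rfl fun ν hν => (S.rowY χ hY ν (sim_ne_one h (Finset.mem_filter.1 hν).2
          hτ)).1 (Finset.mem_filter.1 hν).2, Finset.sum_const, nsmul_eq_mul, mul_comm]
    rw [hsum] at hle hexact
    have hmod := S.degY hM hr hY
    rw [hdeg, ← hd'] at hmod
    change ((p - 2 : ℕ) : ℤ) ≡ ε * ((inIdx P * d : ℕ) : ℤ) [ZMOD p] at hmod
    have hep : e ≤ p - 1 := by
      rw [← hYe]; exact Nat.le_mul_of_pos_left e hY1
    rcases S.hε with e1 | e1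
    · -- the sign `+`
      rw [e1, one_mul] at hle hmod
      exfalso
      have hk0 : k = 0 := by
        by_contra hk0
        have h1 : (1 : ℤ) * p ≤ (k : ℤ) * p :=
          mul_le_mul_of_nonneg_right (by exact_mod_cast Nat.pos_of_ne_zero hk0) (by positivity)
        have h2 : 1 * ((k : ℤ) * p + e) ≤ d * ((k : ℤ) * p + e) :=
          mul_le_mul_of_nonneg_right (by exact_mod_cast hd1) (by positivity)
        push_cast [Nat.cast_sub (show 2 ≤ p by omega)] at hle
        nlinarith
      -- the mean value on `P`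
      have hS := sum_singular hM h hH hr hχB
      rw [hsum, e1, one_mul, ← hr', ← hd'] at hS
      obtain ⟨m, hm⟩ := classInner_char_nat (isCharacter_restrict (isCharacter_of_irr χ.2) (P : Subgroup G))
        (isCharacter_one (G := (P : Subgroup G)))
      simp only [classInner, map_one, mul_one] at hm
      rw [← Finset.add_sum_erase _ _ (Finset.mem_univ (1 : (P : Subgroup G))), hS, Subgroup.coe_one,
        ← irr_charDegree_cast, hdeg, show Nat.card (P : Subgroup G) = p from hP,
        inv_mul_eq_iff_eq_mul₀ (Nat.cast_ne_zero.2 hp.ne_zero)] at hm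
      have hbd : inIdx P * d ≤ p - 2 := by
        have h1 : ((p - 2 : ℕ) : ℂ) = ((p * m + r * d * e : ℕ) : ℂ) := by
          push_cast at hm ⊢; linear_combination hm
        rw [Nat.cast_inj] at h1
        rw [← hq, h1]
        exact le_of_eq_of_le (by ring) (Nat.le_add_left (r * d * e) (p * m))
      have hm2 : p - 2 ≡ inIdx P * d [MOD p] := Int.natCast_modEq_iff.1 hmod
      have heq := Nat.ModEq.eq_of_lt_of_lt hm2 (by omega) (by omega)
      have hd2 : inIdx P ∣ p - 2 := ⟨d, heq⟩
      have h11 : inIdx P ∣ 1 := by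
        have := Nat.dvd_sub hqd hd2
        rwa [show p - 1 - (p - 2) = 1 by omega] at this
      have hq0 : inIdx P = 1 := Nat.dvd_one.1 h11
      -- transfer
      have hNC : Subgroup.normalizer ((P : Subgroup G) : Set G) ≤
          Subgroup.centralizer ((P : Subgroup G) : Set G) := Subgroup.relIndex_eq_one.1 hq0
      have hc := MonoidHom.ker_transferSylow_isComplement' P hNC
      set K := (MonoidHom.transferSylow P hNC).ker
      have hKc : Nat.card K * p = Nat.card G := by
        rw [← hP]; exact hc.card_mul_card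
      have hKp : ¬ p ∣ Nat.card K := fun hd0 => by
        have := sq_not_dvd h hP
        refine this ?_
        rw [sq, ← hKc]
        exact Nat.mul_dvd_mul_right hd0 p
      obtain ⟨n, R, hR, hRχ⟩ := χ.2
      have hn : n = p - 2 := by
        rw [← hdeg]
        apply Nat.cast_injective (R := ℂ)
        rw [irr_charDegree_cast, ← hRχ, Representation.char_one, Module.finrank_fin_fun]
      have hinj : Function.Injective R := fun g g' hg => by
        have h1 : (χ : G → ℂ) (g⁻¹ * g') = (χ : G → ℂ) 1 := by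
          rw [← hRχ, Representation.character, Representation.character, map_mul, ← hg, ← map_mul,
            inv_mul_cancel]
        exact inv_mul_eq_one.1 (hfaith _ h1)
      haveI : Fact p.Prime := ⟨hp⟩
      have hcomm := SmallRep.commute_of_small hinj (show x₀ ^ p = 1 by
          rw [← orderOf_mem P hP hx₀ hx₀1, pow_orderOf_eq_one]) (by omega) _ K rfl hKp
        (fun k hk => (inferInstance : K.Normal).conj_mem k hk x₀)
      refine hnn ?_
      have hPn : ∀ g : G, g ∈ Subgroup.normalizer ((P : Subgroup G) : Set G) := by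
        intro g
        obtain ⟨⟨k', y⟩, hky⟩ := hc.surjective g
        have hky' : (k' : G) * (y : G) = g := hky
        rw [← hky']
        refine mul_mem ?_ (Subgroup.le_normalizer y.2)
        refine h.norm_eq hx₀ hx₀1 ?_
        rw [show (k' : G) * x₀ * (k' : G)⁻¹ = x₀ by rw [← hcomm k' k'.2, mul_inv_cancel_right]]
        exact hx₀
      exact Subgroup.normalizer_eq_top_iff.1 (eq_top_iff.2 fun g _ => hPn g)
    · -- the sign `-`
      rw [e1] at hle hexact hmod
      have hk1 : 1 ≤ k := by
        have h1 := hpos (τ χ)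
        rw [(S.rowY χ hY (τ χ) hτ).1 (sim_refl θ _), e1] at h1
        omega
      have hkone : k = 1 := by
        by_contra hk2
        have h2 : (2 : ℤ) * p ≤ (k : ℤ) * p :=
          mul_le_mul_of_nonneg_right (by exact_mod_cast (show 2 ≤ k by omega)) (by positivity)
        have h4 : (e : ℤ) ≤ (p : ℤ) - 1 := by omega
        have h3 : 1 * ((k : ℤ) * p + -1 * e) ≤ d * ((k : ℤ) * p + -1 * e) :=
          mul_le_mul_of_nonneg_right (by exact_mod_cast hd1) (by linarith)
        push_cast [Nat.cast_sub (show 2 ≤ p by omega)] at hle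
        linarith
      subst hkone
      have hmod' : p - 2 + inIdx P * d ≡ 0 [MOD p] := by
        rw [← Int.natCast_modEq_iff]
        have := hmod.add_right ((inIdx P * d : ℕ) : ℤ)
        push_cast at this ⊢
        rwa [show -1 * ((inIdx P : ℤ) * d) + (inIdx P : ℤ) * d = 0 by ring] at this
      by_cases hmax : e = p - 1
      · exfalso
        have hqe : inIdx P = p - 1 := by
          have : e ≤ inIdx P := hq ▸ Nat.le_mul_of_pos_right e hr1
          omega
        have hle' : d ≤ p - 2 := by
          have h1 : (d : ℤ) * ((1 : ℕ) * (p : ℤ) + -1 * (e : ℤ)) = d := by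
            rw [hmax, Nat.cast_sub hp.one_le]; push_cast; ring
          rw [h1] at hle
          exact_mod_cast hle
        have hdval : d = p - 2 := by
          have h1 : p - 2 + inIdx P * d + d ≡ 0 + d [MOD p] := hmod'.add_right d
          have h2 : inIdx P * d + d = p * d := by
            rw [hqe]
            calc (p - 1) * d + d = ((p - 1) + 1) * d := by ring
              _ = p * d := by rw [Nat.sub_add_cancel hp.one_le]
          rw [zero_add, add_assoc, h2] at h1
          have h3 : p - 2 ≡ d [MOD p] := by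
            refine Nat.ModEq.trans ?_ h1
            show (p - 2) % p = (p - 2 + p * d) % p
            rw [Nat.add_mul_mod_self_left]
          exact (Nat.ModEq.eq_of_lt_of_lt h3 (by omega) (by omega)).symm
        refine hnotdeg ?_
        have hexp := hexact (by
          rw [hmax, Nat.cast_sub hp.one_le, hdval]; push_cast; ring)
        have hzero : ∀ ν : IrrCharacter (P : Subgroup G), ν ≠ oneP (P : Subgroup G) →
            (((1 : ℕ) : ℤ) + ddz h hH θ χ ν) = 0 := by
          intro ν hν
          have h1 : (Finset.univ.filter fun ν' => Sim θ ν' (τ χ)) =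
              Finset.univ.erase (oneP (P : Subgroup G)) := by
            refine Finset.eq_of_subset_of_card_le (fun ν' h' => Finset.mem_erase.2
              ⟨sim_ne_one h (Finset.mem_filter.1 h').2 hτ, Finset.mem_univ _⟩) ?_
            rw [card_sim h (θ := θ) hτ, Finset.card_erase_of_mem (Finset.mem_univ _), Finset.card_univ,
              card_irr_P h hP]
            exact hmax.ge
          have h2 := (Finset.mem_filter.1 (h1.ge (Finset.mem_erase.2 ⟨hν, Finset.mem_univ ν⟩))).2
          rw [(S.rowY χ hY ν hν).1 h2, e1]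
          norm_num
        have hval : ∀ c : cen (P : Subgroup G), (χ : G → ℂ) c = (mk h hH θ (oneP _) : _ → ℂ) c := by
          intro c
          rw [hexp c, Finset.sum_eq_single (oneP (P : Subgroup G))]
          · rw [ddz_one h hH hr.ker]; push_cast; ring
          · intro ν _ hν
            rw [hzero ν hν, Int.cast_zero, zero_mul]
          · exact fun h' => absurd (Finset.mem_univ _) h'
        rw [show x₀ = ((pr h hH (⟨x₀, hx₀⟩, 1) : cen (P : Subgroup G)) : G) by simp [pr], hval,
          show (χ : G → ℂ) 1 = (χ : G → ℂ) ((pr h hH ((1 : (P : Subgroup G)), (1 : H)) : cen (P : Subgroup G)) : G) by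
            simp [pr], hval, mk_apply h hH hr.ker, mk_apply h hH hr.ker]
        rfl
      have he2 : 2 * e ≤ p - 1 := by
        rw [← hYe]
        refine Nat.mul_le_mul_right e ?_
        by_contra hlt
        exact hmax (by rw [← hYe, show Y.card = 1 by omega, one_mul])
      have hdone : d = 1 := by
        by_contra hd2
        have h2 : (2 : ℤ) * ((p : ℤ) - e) ≤ d * ((p : ℤ) - e) :=
          mul_le_mul_of_nonneg_right (by exact_mod_cast (show 2 ≤ d by omega)) (by omega)
        have h4 : 2 * (e : ℤ) ≤ (p : ℤ) - 1 := by omega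
        push_cast [Nat.cast_sub (show 2 ≤ p by omega)] at hle
        linarith
      have hq2 : inIdx P = 2 := by
        rw [hdone, mul_one] at hmod'
        obtain ⟨c, hc⟩ := Nat.modEq_zero_iff_dvd.1 hmod'
        rcases (by omega : c = 0 ∨ c = 1 ∨ 2 ≤ c) with rfl | rfl | hc2
        · omega
        · omega
        · have := Nat.mul_le_mul_left p hc2
          omega
      refine ⟨hq2, H, hH, ?_⟩
      have he2' : e = 2 := by
        rcases (Nat.dvd_prime Nat.prime_two).1 ((dvd_mul_right e r).trans (dvd_of_eq (hq.trans hq2))) with h1 | h1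
        · exfalso
          rw [h1, hdone] at hle
          push_cast [Nat.cast_sub (show 2 ≤ p by omega)] at hle
          linarith
        · exact h1
      have hexp := hexact (by rw [he2', hdone, Nat.cast_sub (show 2 ≤ p by omega)]; push_cast; ring)
      have hone : ∀ ν : IrrCharacter (P : Subgroup G), (ν : ↥(P : Subgroup G) → ℂ) 1 = 1 := irrP_one h
      have htot : (∑ ν : IrrCharacter (P : Subgroup G), (((1 : ℕ) : ℤ) + ddz h hH θ χ ν)) = (p : ℤ) - 2 := by
        rw [Finset.sum_add_distrib, ← Finset.add_sum_erase Finset.univ (fun ν => ddz h hH θ χ ν)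
          (Finset.mem_univ (oneP (P : Subgroup G))), ddz_one h hH hr.ker, hsum, e1, he2',
          Finset.sum_const, Finset.card_univ, card_irr_P h hP]
        push_cast
        ring
      have hscal : ∀ y : H, (χ : G → ℂ) (y : G) = ((p - 2 : ℕ) : ℂ) * resH hH θ y := by
        intro y
        rw [show (y : G) = ((pr h hH ((1 : (P : Subgroup G)), y) : cen (P : Subgroup G)) : G) by simp [pr],
          hexp, Finset.sum_congr rfl fun (ν : IrrCharacter (P : Subgroup G)) _ =>
            show ((((1 : ℕ) : ℤ) + ddz h hH θ χ ν : ℤ) : ℂ) *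
              (mk h hH θ ν : cen (P : Subgroup G) → ℂ) (pr h hH ((1 : (P : Subgroup G)), y)) =
              ((((1 : ℕ) : ℤ) + ddz h hH θ χ ν : ℤ) : ℂ) * resH hH θ y by
            rw [mk_apply h hH hr.ker, hone, one_mul],
          ← Finset.sum_mul, ← Int.cast_sum, htot, Nat.cast_sub (show 2 ≤ p by omega)]
        push_cast
        ring
      intro y hy
      obtain ⟨n, R, hR, hRχ⟩ := χ.2
      have hθ1 : (θ : cen (P : Subgroup G) → ℂ) 1 = 1 := by
        rw [← irr_charDegree_cast, ← hd', hdone, Nat.cast_one]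
      obtain ⟨l, hl⟩ := exists_hom_of_degree_one (isCharacter_of_irr θ.2) hθ1
      let i : H →* cen (P : Subgroup G) := Subgroup.inclusion hH.le
      let σ : Representation ℂ H (Fin n → ℂ) :=
        { toFun := fun a => ((l (i a))⁻¹ : ℂˣ).val • R (a : G)
          map_one' := by simp
          map_mul' := fun a b => by
            rw [map_mul i, map_mul, mul_inv, Units.val_mul, Subgroup.coe_mul, map_mul, smul_mul_smul_comm] }
      have hσ : ∀ a : H, σ.character a = σ.character 1 := by
        intro a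
        have e0 : ∀ a : H, σ.character a = ((l (i a))⁻¹ : ℂˣ).val * (χ : G → ℂ) (a : G) := fun a => by
          rw [← hRχ]
          show LinearMap.trace ℂ _ (((l (i a))⁻¹ : ℂˣ).val • R (a : G)) = _
          rw [map_smul, smul_eq_mul]
          rfl
        have e1' : ∀ a : H, σ.character a = ((p - 2 : ℕ) : ℂ) := fun a => by
          rw [e0, hscal, show resH hH θ a = ((l (i a) : ℂˣ) : ℂ) by rw [resH, hl]; rfl,
            mul_left_comm, Units.inv_mul, mul_one]
        rw [e1', e1']
      have hone' := rep_apply_eq_one_of_char_eq σ (g := (⟨y, hy⟩ : H)) (hσ _)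
      have hscalar : R y = ((l (i ⟨y, hy⟩) : ℂˣ) : ℂ) • (1 : Module.End ℂ (Fin n → ℂ)) := by
        have h1 : ((l (i ⟨y, hy⟩))⁻¹ : ℂˣ).val • R y = 1 := hone'
        rw [← h1, smul_smul, Units.mul_inv, one_smul]
      rw [Subgroup.mem_center_iff]
      intro g
      have h1 : (χ : G → ℂ) ((y * g)⁻¹ * (g * y)) = (χ : G → ℂ) 1 := by
        rw [← hRχ]
        show LinearMap.trace ℂ _ (R _) = LinearMap.trace ℂ _ (R 1)
        congr 1
        rw [map_mul, map_mul R g y, hscalar, Algebra.mul_smul_comm, mul_one, ← smul_one_mul, ← hscalar,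
          ← map_mul, ← map_mul, inv_mul_cancel]
      exact (inv_mul_eq_one.1 (hfaith _ h1)).symm

end CfsgLib.SmallSylow.PredTwo
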