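import Cfsg.Agent.Lib.SmallSylow.PredTwo.Bounds
import Cfsg.Agent.Lib.SmallSylow.Degrees

/-!
# In a perfect group the complement of the Sylow subgroup in its centralizer is trivial
-/

namespace CfsgLib.SmallSylow.PredTwo

open Cfsg CfsgLib.Blocks CfsgLib.Blocks.DefectOne CfsgLib.CharTheory CfsgLib.CharTheory.SmallDegree
open scoped ComplexConjugate

set_option linter.unusedVariables false
set_option linter.style.haveILetI false
set_option linter.unusedSectionVars false

universe u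

variable {G : Type u} [Group G] [Fintype G] {p : ℕ} [Fact p.Prime] {P : Sylow p G} {H : Subgroup G}
  {μ : H → ℂ} {a b : IrrCharacter G} {Y : Finset (IrrCharacter G)} {δa δb σ : ℤ}

/-- The block of full defect containing a given character of `p'`-degree. -/
theorem Ctx.exists_pair_of (K : Ctx p P H) {z : G} (hz : orderOf z = 2)
    (hzN : z ∈ Subgroup.normalizer ((P : Subgroup G) : Set G))
    (hzC : z ∉ Subgroup.centralizer ((P : Subgroup G) : Set G))
    (hinv : ∀ x ∈ (P : Subgroup G), z * x * z⁻¹ = x⁻¹) (χ : IrrCharacter G)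
    (hnd : ¬ p ∣ charDegree (χ : G → ℂ)) :
    ∃ a b Y δa δb σ, Pair K (omega (H := H) χ) a b Y δa δb σ ∧ (χ = a ∨ χ ∈ Y) := by
  classical
  have hp : p.Prime := Fact.out
  obtain ⟨M, hM⟩ := exists_pModular hp
  haveI : Fintype (P : Subgroup G) := Fintype.ofFinite _
  haveI : Fintype (cen (P : Subgroup G)) := Fintype.ofFinite _
  haveI : Fintype H := Fintype.ofFinite _
  set B := blockOf M (χ : G → ℂ)
  have hB : IsPBlock M B := blockOf_isPBlock χ
  have hχB : χ ∈ B := mem_blockOf_self hM χ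
  have hd : 0 < blockDefect p B := by
    have h1 : 0 < (Nat.card G).factorization p :=
      hp.factorization_pos_of_dvd Nat.card_pos.ne' (K.hP ▸ Subgroup.card_subgroup_dvd_card (P : Subgroup G))
    have h2 : minDv p B ≤ dv p (χ : G → ℂ) := Nat.sInf_le ⟨χ, hχB, rfl⟩
    have h3 : dv p (χ : G → ℂ) = 0 := Nat.factorization_eq_zero_of_not_dvd hnd
    have h4 := blockDefect_eq p B
    omega
  obtain ⟨θ, hr⟩ := exists_root hM K.setup K.hH K.hP hB hd
  obtain ⟨a, b, Y, δa, δb, σ, hpair, hmem⟩ := K.exists_pair hM hr hz hzN hzC hinv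
  rcases hmem χ hχB with rfl | rfl | h
  · exact ⟨_, b, Y, δa, δb, σ, by rw [hpair.omA]; exact hpair, Or.inl rfl⟩
  · refine ⟨_, a, Y, δb, δa, σ, ?_, Or.inl rfl⟩
    rw [hpair.omB]
    exact { hab := hpair.hab.symm, haY := hpair.hbY, hbY := hpair.haY, cardY := hpair.cardY,
            hδa := hpair.hδb, hδb := hpair.hδa, hσ := hpair.hσ, omA := hpair.omB, omB := hpair.omA,
            omY := hpair.omY, degA := hpair.degB, degB := hpair.degA, degY := hpair.degY,
            valA := hpair.valB, valB := hpair.valA, sumY := hpair.sumY, singY := hpair.singY,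
            agree := hpair.agree,
            relation := fun η hη g hg => by linear_combination hpair.relation η hη g hg,
            vanish := fun ψ h1 h2 h3 h4 => hpair.vanish ψ h1 h3 h2 h4 }
  · exact ⟨a, b, Y, δa, δb, σ, by rw [hpair.omY _ h]; exact hpair, Or.inr h⟩

theorem not_dvd_orderOf_two (hp5 : 5 < p) {z : G} (hz : orderOf z = 2) : ¬ p ∣ orderOf z := by
  rw [hz]; intro h; have := Nat.le_of_dvd two_pos h; omega

theorem not_dvd_orderOf_one : ¬ p ∣ orderOf (1 : G) := by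
  rw [orderOf_one]; exact (Fact.out : p.Prime).not_dvd_one

theorem Pair.exists_mem {K : Ctx p P H} (hp : Pair K μ a b Y δa δb σ) : ∃ η, η ∈ Y := by
  have := hp.cardY
  have := K.hp5
  exact Finset.card_pos.1 (by omega)

theorem Pair.singA {K : Ctx p P H} (hp : Pair K μ a b Y δa δb σ) :
    singSum P a = ((δa * ((p : ℤ) - 1) : ℤ) : ℂ) := by
  classical
  haveI : Fintype (P : Subgroup G) := Fintype.ofFinite _
  have h := sum_eq_add_singSum (P := P) a
  rw [← Finset.add_sum_erase _ _ (Finset.mem_univ (1 : (P : Subgroup G))), Subgroup.coe_one, add_right_inj,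
    Finset.sum_congr rfl fun (x : (P : Subgroup G)) hx => hp.valA x x.2 (fun e => Finset.ne_of_mem_erase hx (Subtype.ext e)),
    Finset.sum_const, Finset.card_erase_of_mem (Finset.mem_univ _), Finset.card_univ,
    ← Nat.card_eq_fintype_card, show Nat.card (P : Subgroup G) = p from K.hP, nsmul_eq_mul,
    Nat.cast_sub (Fact.out : p.Prime).one_le] at h
  rw [← h]; push_cast; ring

theorem Pair.degree_rel {K : Ctx p P H} (hp : Pair K μ a b Y δa δb σ) {η : IrrCharacter G} (hη : η ∈ Y) :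
    δa * (charDegree (a : G → ℂ) : ℤ) + δb * (charDegree (b : G → ℂ) : ℤ) +
      σ * (charDegree (η : G → ℂ) : ℤ) = 0 := by
  have h := hp.relation η hη 1 not_dvd_orderOf_one
  rw [← irr_charDegree_cast, ← irr_charDegree_cast, ← irr_charDegree_cast] at h
  exact_mod_cast h

/-- The class sum in terms of three values. -/
theorem Pair.class_sum {K : Ctx p P H} (hp : Pair K μ a b Y δa δb σ) {z : G} (hz : orderOf z = 2)
    [DecidablePred fun χ : IrrCharacter G => omega χ = μ] {η : IrrCharacter G} (hη : η ∈ Y) {x : G}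
    (hx : x ∈ (P : Subgroup G)) (hx1 : x ≠ 1) :
    ∑ χ ∈ Finset.univ.filter (fun χ : IrrCharacter G => omega χ = μ),
        (χ : G → ℂ) z ^ 2 * conj ((χ : G → ℂ) x) / (χ : G → ℂ) 1 =
      (δa : ℂ) * (a : G → ℂ) z ^ 2 / (a : G → ℂ) 1 + (δb : ℂ) * (b : G → ℂ) z ^ 2 / (b : G → ℂ) 1 +
        (σ : ℂ) * (η : G → ℂ) z ^ 2 / (η : G → ℂ) 1 := by
  classical
  have hanY : a ∉ insert b Y := by
    simp only [Finset.mem_insert, not_or]
    exact ⟨hp.hab, hp.haY⟩
  rw [← Finset.sum_subset (s₁ := insert a (insert b Y)), Finset.sum_insert hanY,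
    Finset.sum_insert hp.hbY, hp.valA x hx hx1, hp.valB x hx hx1, map_intCast, map_intCast,
    Finset.sum_congr (s₁ := Y) rfl fun (η' : IrrCharacter G) (hη' : η' ∈ Y) =>
      show (η' : G → ℂ) z ^ 2 * conj ((η' : G → ℂ) x) / (η' : G → ℂ) 1 =
        (η : G → ℂ) z ^ 2 / (η : G → ℂ) 1 * conj ((η' : G → ℂ) x) by
      rw [hp.agree η' hη' η hη z (not_dvd_orderOf_two K.hp5 hz),
        hp.agree η' hη' η hη 1 not_dvd_orderOf_one]; ring,
    ← Finset.mul_sum, ← map_sum, hp.sumY x hx hx1, map_intCast]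
  · ring
  · intro ψ hψ
    simp only [Finset.mem_insert] at hψ
    refine Finset.mem_filter.2 ⟨Finset.mem_univ _, ?_⟩
    rcases hψ with rfl | rfl | hψ
    exacts [hp.omA, hp.omB, hp.omY _ hψ]
  · intro ψ hψ hn
    simp only [Finset.mem_insert, not_or] at hn
    rw [hp.vanish ψ (Finset.mem_filter.1 hψ).2 hn.1 hn.2.1 hn.2.2 x hx hx1, map_zero, mul_zero, zero_div]

theorem eq_of_lower_upper {p : ℕ} (hp7 : 7 ≤ p) :
    3 / ((p : ℝ) + 1) + ((p : ℝ) - 2) / (p : ℝ) ^ 2 + 1 / ((p : ℝ) - 2) < 1 - 2 / (p : ℝ) := by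
  have h7 : (7 : ℝ) ≤ p := by exact_mod_cast hp7
  have h1 : 3 / ((p : ℝ) + 1) ≤ 3 / 8 := by
    rw [div_le_div_iff₀ (by linarith) (by norm_num)]; linarith
  have h2 : ((p : ℝ) - 2) / (p : ℝ) ^ 2 ≤ 5 / 49 := by
    rw [div_le_div_iff₀ (by positivity) (by norm_num)]; nlinarith
  have h3 : 1 / ((p : ℝ) - 2) ≤ 1 / 5 := by
    rw [div_le_div_iff₀ (by linarith) (by norm_num)]; linarith
  have h4 : 2 / (p : ℝ) ≤ 2 / 7 := by
    rw [div_le_div_iff₀ (by linarith) (by norm_num)]; linarith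
  linarith

/-- The class sum of a nontrivial central character is small. -/
theorem upper_bound {p : ℕ} (hp7 : 7 ≤ p) {v : ℕ} (hv : 1 ≤ v) {ga gb h : ℤ} (hga : |ga| ≤ v + 1)
    (hgb : |gb| ≤ v) (hh : |h| ≤ 1) (hrel : ga - gb + h = 0) :
    (ga : ℝ) ^ 2 / ((v : ℝ) * p + 1) - (gb : ℝ) ^ 2 / (((v : ℝ) + 1) * p - 1) + (h : ℝ) ^ 2 / ((p : ℝ) - 2) ≤
      3 / ((p : ℝ) + 1) + ((p : ℝ) - 2) / (p : ℝ) ^ 2 + 1 / ((p : ℝ) - 2) := by
  have h7 : (7 : ℝ) ≤ p := by exact_mod_cast hp7
  have hv' : (1 : ℝ) ≤ v := by exact_mod_cast hv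
  set fa := (v : ℝ) * p + 1 with hfa
  set fb := ((v : ℝ) + 1) * p - 1 with hfb
  have hab : fa ≤ fb := by rw [hfa, hfb]; nlinarith
  have hfa0 : 0 < fa := by rw [hfa]; positivity
  have hfb0 : 0 < fb := lt_of_lt_of_le hfa0 hab
  have hH : (h : ℝ) ^ 2 / ((p : ℝ) - 2) ≤ 1 / ((p : ℝ) - 2) := by
    refine div_le_div_of_nonneg_right ?_ (by linarith)
    have : (h : ℝ) ^ 2 ≤ 1 := by
      rw [sq_le_one_iff_abs_le_one]; exact_mod_cast hh
    exact this
  have hd : ((ga : ℝ) ^ 2 - (gb : ℝ) ^ 2) / fa ≤ 3 / ((p : ℝ) + 1) := by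
    have hdiff : ga ^ 2 - gb ^ 2 ≤ 2 * (v : ℤ) + 1 := by
      have e : ga = gb - h := by linarith
      subst e
      have h1 := abs_le.1 hh
      have h2 := abs_le.1 hgb
      rcases (show h = -1 ∨ h = 0 ∨ h = 1 by omega) with rfl | rfl | rfl <;> nlinarith
    have hdiff' : (ga : ℝ) ^ 2 - (gb : ℝ) ^ 2 ≤ 2 * (v : ℝ) + 1 := by exact_mod_cast hdiff
    rw [div_le_div_iff₀ hfa0 (by linarith), hfa]
    nlinarith [mul_le_mul_of_nonneg_right hdiff' (show (0 : ℝ) ≤ (p : ℝ) + 1 by linarith),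
      mul_nonneg (show (0 : ℝ) ≤ (v : ℝ) - 1 by linarith) (show (0 : ℝ) ≤ (p : ℝ) - 2 by linarith)]
  have he : (gb : ℝ) ^ 2 / fa - (gb : ℝ) ^ 2 / fb ≤ ((p : ℝ) - 2) / (p : ℝ) ^ 2 := by
    have hgb' : (gb : ℝ) ^ 2 ≤ (v : ℝ) ^ 2 := by
      refine sq_le_sq' ?_ ?_ <;> have := abs_le.1 hgb <;> [exact_mod_cast this.1; exact_mod_cast this.2]
    rw [div_sub_div _ _ hfa0.ne' hfb0.ne', div_le_div_iff₀ (mul_pos hfa0 hfb0) (by positivity)]
    have e : (gb : ℝ) ^ 2 * fb - fa * (gb : ℝ) ^ 2 = (gb : ℝ) ^ 2 * ((p : ℝ) - 2) := by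
      rw [hfa, hfb]; ring
    rw [e, mul_comm ((gb : ℝ) ^ 2), mul_assoc]
    refine mul_le_mul_of_nonneg_left ?_ (by linarith)
    calc (gb : ℝ) ^ 2 * (p : ℝ) ^ 2 ≤ (v : ℝ) ^ 2 * (p : ℝ) ^ 2 :=
          mul_le_mul_of_nonneg_right hgb' (sq_nonneg _)
      _ = ((v : ℝ) * p) * ((v : ℝ) * p) := by ring
      _ ≤ fa * fb := mul_le_mul (by rw [hfa]; linarith) (by rw [hfb]; nlinarith) (by positivity) hfa0.le
  rw [sub_div] at hd
  linarith

/-- The class sum of the trivial central character is large: the first sign. -/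
theorem lower_bound_pos {p : ℕ} (hp7 : 7 ≤ p) {u : ℕ} (hu : 1 ≤ u) {g h : ℤ} (hg : |g| ≤ (u : ℤ) - 1)
    (hrel : 1 - g + h = 0) :
    1 - 2 / (p : ℝ) ≤ 1 - (g : ℝ) ^ 2 / ((u : ℝ) * p - 1) + (h : ℝ) ^ 2 / ((u : ℝ) * p - 2) := by
  have h7 : (7 : ℝ) ≤ p := by exact_mod_cast hp7
  have hu' : (1 : ℝ) ≤ u := by exact_mod_cast hu
  have hup : (7 : ℝ) ≤ (u : ℝ) * p := le_trans h7 (le_mul_of_one_le_left (by linarith) hu')
  have h1 : (h : ℝ) ^ 2 / ((u : ℝ) * p - 1) ≤ (h : ℝ) ^ 2 / ((u : ℝ) * p - 2) :=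
    div_le_div_of_nonneg_left (sq_nonneg _) (by linarith) (by linarith)
  have h2 : ((g : ℝ) ^ 2 - (h : ℝ) ^ 2) / ((u : ℝ) * p - 1) ≤ 2 / (p : ℝ) := by
    have hd : g ^ 2 - h ^ 2 ≤ 2 * (u : ℤ) - 2 := by
      have e : h = g - 1 := by linarith
      subst e
      have := abs_le.1 hg
      nlinarith
    have hd' : (g : ℝ) ^ 2 - (h : ℝ) ^ 2 ≤ 2 * (u : ℝ) - 2 := by exact_mod_cast hd
    rw [div_le_div_iff₀ (by linarith) (by linarith)]
    nlinarith [mul_le_mul_of_nonneg_right hd' (show (0 : ℝ) ≤ (p : ℝ) by linarith)]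
  rw [sub_div] at h2
  linarith

/-- The class sum of the trivial central character is large: the second sign. -/
theorem lower_bound_neg {p : ℕ} (hp7 : 7 ≤ p) {u : ℕ} {g h : ℤ} (hh : |h| ≤ (u : ℤ))
    (hrel : 1 + g - h = 0) :
    1 - 2 / (p : ℝ) ≤ 1 + (g : ℝ) ^ 2 / ((u : ℝ) * p + 1) - (h : ℝ) ^ 2 / ((u : ℝ) * p + 2) := by
  have h7 : (7 : ℝ) ≤ p := by exact_mod_cast hp7
  have hup : (0 : ℝ) ≤ (u : ℝ) * p := by positivity
  have h1 : (g : ℝ) ^ 2 / ((u : ℝ) * p + 2) ≤ (g : ℝ) ^ 2 / ((u : ℝ) * p + 1) :=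
    div_le_div_of_nonneg_left (sq_nonneg _) (by linarith) (by linarith)
  have h2 : ((h : ℝ) ^ 2 - (g : ℝ) ^ 2) / ((u : ℝ) * p + 2) ≤ 2 / (p : ℝ) := by
    have hd : h ^ 2 - g ^ 2 ≤ 2 * (u : ℤ) - 1 := by
      have e : g = h - 1 := by linarith
      subst e
      have := abs_le.1 hh
      nlinarith
    have hd' : (h : ℝ) ^ 2 - (g : ℝ) ^ 2 ≤ 2 * (u : ℝ) - 1 := by exact_mod_cast hd
    rw [div_le_div_iff₀ (by linarith) (by linarith)]
    nlinarith [mul_le_mul_of_nonneg_right hd' (show (0 : ℝ) ≤ (p : ℝ) by linarith)]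
  rw [sub_div] at h2
  linarith

/-- The complement is trivial. -/
theorem Ctx.H_eq_bot (K : Ctx p P H) (hperf : commutator G = ⊤) {ζ : IrrCharacter G}
    (hfaith : ∀ g : G, (ζ : G → ℂ) g = (ζ : G → ℂ) 1 → g = 1)
    (hdeg : charDegree (ζ : G → ℂ) = p - 2) : H = ⊥ := by
  classical
  have hp : p.Prime := Fact.out
  have hp5 := K.hp5
  have hp7 : 7 ≤ p := by
    rcases Nat.lt_or_ge p 7 with h | h
    · interval_cases p; norm_num at hp
    · exact h
  by_contra hH
  haveI : Fintype H := Fintype.ofFinite _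
  obtain ⟨z, hz, hzN, hzC, hinv⟩ := K.exists_inverting
  obtain ⟨x₀, hx₀, hx₀1⟩ := exists_mem_ne P K.hP
  have hval : ∀ χ : IrrCharacter G, ∃ g : ℤ, (χ : G → ℂ) z = g := fun χ =>
    involution_value (isCharacter_of_irr χ.2) hz
  -- the block of `ζ`
  obtain ⟨a, b, Y, δa, δb, σ, hP1, hmem⟩ := K.exists_pair_of hz hzN hzC hinv ζ (by
    rw [hdeg]; intro hd; have := Nat.le_of_dvd (by omega) hd; omega)
  have hζY : ζ ∈ Y := by
    refine hmem.resolve_left fun e => ?_
    have h1 := hP1.degA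
    rw [← e, hdeg, Nat.cast_sub (show 2 ≤ p by omega)] at h1
    obtain ⟨k, hk⟩ := h1.dvd
    rcases hP1.hδa with e1 | e1 <;> rw [e1] at hk <;> push_cast at hk
    · have : (p : ℤ) ∣ 3 := ⟨k + 1, by linarith⟩
      have := Int.le_of_dvd (by norm_num) this
      omega
    · have : (p : ℤ) ∣ 1 := ⟨k + 1, by linarith⟩
      have := Int.le_of_dvd (by norm_num) this
      omega
  have hσ : σ = 1 := by
    refine hP1.hσ.resolve_right fun e => ?_
    have h1 := hP1.degY ζ hζY
    rw [e, hdeg, Nat.cast_sub (show 2 ≤ p by omega)] at h1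
    obtain ⟨k, hk⟩ := h1.dvd
    push_cast at hk
    have : (p : ℤ) ∣ 4 := ⟨k + 1, by linarith⟩
    have := Int.le_of_dvd (by norm_num) this
    omega
  set μ := omega (H := H) ζ with hμ
  have hμne : μ ≠ fun _ => 1 := by
    intro e
    refine hH ((Subgroup.eq_bot_iff_forall _).2 fun w hw => hfaith w ?_)
    have h1 := congrFun e ⟨w, hw⟩
    rw [hμ, omega, div_eq_one_iff_eq (irr_one_ne_zero ζ)] at h1
    exact h1
  -- the signs
  obtain ⟨a, b, hP1⟩ : ∃ a b, Pair K μ a b Y 1 (-1) 1 := by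
    subst hσ
    have hrel := hP1.degree_rel hζY
    rw [hdeg, Nat.cast_sub (show 2 ≤ p by omega)] at hrel
    push_cast at hrel
    rcases hP1.hδa with e1 | e1 <;> rcases hP1.hδb with e2 | e2 <;> rw [e1, e2] at hrel <;>
      rw [e1, e2] at hP1
    · exfalso; omega
    · exact ⟨a, b, hP1⟩
    · exact ⟨b, a, { hab := hP1.hab.symm, haY := hP1.hbY, hbY := hP1.haY, cardY := hP1.cardY,
                      hδa := hP1.hδb, hδb := hP1.hδa, hσ := hP1.hσ, omA := hP1.omB, omB := hP1.omA,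
                      omY := hP1.omY, degA := hP1.degB, degB := hP1.degA, degY := hP1.degY,
                      valA := hP1.valB, valB := hP1.valA, sumY := hP1.sumY, singY := hP1.singY,
                      agree := hP1.agree,
                      relation := fun η hη g hg => by linear_combination hP1.relation η hη g hg,
                      vanish := fun ψ h1 h2 h3 h4 => hP1.vanish ψ h1 h3 h2 h4 }⟩
    · exfalso
      have h1 := hP1.degA
      obtain ⟨k, hk⟩ := h1.dvd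
      have hk0 : k * p < 0 := by nlinarith
      have hk1 : k ≤ -1 := by nlinarith
      have hfb : 1 ≤ (charDegree (b : G → ℂ) : ℤ) := by
        have : charDegree (b : G → ℂ) ≠ 0 := fun h0 => irr_one_ne_zero b (by
          rw [← irr_charDegree_cast, h0, Nat.cast_zero])
        omega
      nlinarith
  obtain ⟨ga, hga⟩ := hval a
  obtain ⟨gb, hgb⟩ := hval b
  obtain ⟨gy, hgy⟩ := hval ζ
  have hfa1 : charDegree (a : G → ℂ) ≠ 1 := by
    intro h1
    refine hμne ?_
    rw [← hP1.omA]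
    funext w
    have h2 := SmallSylow.eq_one_of_degree_one hperf h1
    rw [omega, h2]
    exact div_one 1
  obtain ⟨v, hv1, hfa⟩ : ∃ v : ℕ, 1 ≤ v ∧ charDegree (a : G → ℂ) = v * p + 1 := by
    obtain ⟨k, hk⟩ := hP1.degA.dvd
    have h0 : charDegree (a : G → ℂ) ≠ 0 := fun h0 => irr_one_ne_zero a (by
      rw [← irr_charDegree_cast, h0, Nat.cast_zero])
    have hk0 : k < 0 := by
      by_contra hk0
      push Not at hk0
      have : 0 ≤ (p : ℤ) * k := mul_nonneg (by positivity) hk0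
      omega
    refine ⟨(-k).toNat, by omega, ?_⟩
    zify
    rw [Int.toNat_of_nonneg (by omega)]
    linarith
  have hfb : charDegree (b : G → ℂ) = (v + 1) * p - 1 := by
    have hrel := hP1.degree_rel hζY
    rw [hdeg, hfa, Nat.cast_sub (show 2 ≤ p by omega)] at hrel
    push_cast at hrel
    zify [show 1 ≤ (v + 1) * p by nlinarith]
    linarith
  have bA : |ga| ≤ v + 1 := by
    have h1 := K.value_bound hz hinv a hP1.singA hga
    rw [hfa] at h1
    push_cast at h1
    exact le_of_mul_le_mul_left (show (p : ℤ) * |ga| ≤ p * ((v : ℤ) + 1) by linarith) (by omega)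
  have bB : |gb| ≤ v := by
    have hs : singSum P b = (((-1) * ((p : ℤ) - 1) : ℤ) : ℂ) :=
      (show Pair K μ b a Y (-1) 1 1 from
        { hab := hP1.hab.symm, haY := hP1.hbY, hbY := hP1.haY, cardY := hP1.cardY,
          hδa := hP1.hδb, hδb := hP1.hδa, hσ := hP1.hσ, omA := hP1.omB, omB := hP1.omA,
          omY := hP1.omY, degA := hP1.degB, degB := hP1.degA, degY := hP1.degY,
          valA := hP1.valB, valB := hP1.valA, sumY := hP1.sumY, singY := hP1.singY,
          agree := hP1.agree,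
          relation := fun η hη g hg => by linear_combination hP1.relation η hη g hg,
          vanish := fun ψ h1 h2 h3 h4 => hP1.vanish ψ h1 h3 h2 h4 }).singA
    have h1 := K.value_bound hz hinv b hs hgb
    rw [hfb, Nat.cast_sub (show 1 ≤ (v + 1) * p by nlinarith)] at h1
    push_cast at h1
    exact le_of_mul_le_mul_left (show (p : ℤ) * |gb| ≤ p * (v : ℤ) by linarith) (by omega)
  have bY : |gy| ≤ 1 := by
    have h1 := K.value_bound hz hinv ζ (hP1.singY ζ hζY) hgy
    rw [hdeg, Nat.cast_sub (show 2 ≤ p by omega)] at h1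
    push_cast at h1
    exact le_of_mul_le_mul_left (show (p : ℤ) * |gy| ≤ p * 1 by linarith) (by omega)
  have hrel1 : ga - gb + gy = 0 := by
    have h1 := hP1.relation ζ hζY z (not_dvd_orderOf_two hp5 hz)
    rw [hga, hgb, hgy] at h1
    have h2 : ((ga - gb + gy : ℤ) : ℂ) = ((0 : ℤ) : ℂ) := by push_cast at h1 ⊢; linear_combination h1
    exact_mod_cast h2
  have hup := upper_bound hp7 hv1 bA bB bY hrel1
  -- the principal block
  let one' : IrrCharacter G := ⟨fun _ => 1, isIrrCharacter_one⟩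
  have hone : charDegree (one' : G → ℂ) = 1 := by
    apply Nat.cast_injective (R := ℂ)
    rw [irr_charDegree_cast, Nat.cast_one]
  obtain ⟨a₀, b₀, Y₀, ea, eb, s, hP0, hmem0⟩ := K.exists_pair_of hz hzN hzC hinv one' (by
    rw [hone]; exact hp.not_dvd_one)
  have hom1 : omega (H := H) one' = fun _ => 1 := funext fun w => div_one 1
  have hone0 : one' = a₀ := by
    refine hmem0.resolve_right fun h => ?_
    have h1 := hP0.degY one' h
    rw [hone] at h1
    obtain ⟨k, hk⟩ := h1.dvd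
    rcases hP0.hσ with e1 | e1 <;> rw [e1] at hk <;> push_cast at hk
    · have : (p : ℤ) ∣ 3 := ⟨-k, by linarith⟩
      have := Int.le_of_dvd (by norm_num) this
      omega
    · have : (p : ℤ) ∣ 1 := ⟨k, by linarith⟩
      have := Int.le_of_dvd (by norm_num) this
      omega
  have hea : ea = 1 := by
    refine hP0.hδa.resolve_right fun e => ?_
    have h1 := hP0.degA
    rw [← hone0, hone, e] at h1
    obtain ⟨k, hk⟩ := h1.dvd
    push_cast at hk
    have : (p : ℤ) ∣ 2 := ⟨-k, by linarith⟩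
    have := Int.le_of_dvd (by norm_num) this
    omega
  obtain ⟨η, hη⟩ := hP0.exists_mem
  obtain ⟨g, hg⟩ := hval b₀
  obtain ⟨h', hh'⟩ := hval η
  have hsum1 := K.sum_class hz hzN hzC hinv hx₀ hx₀1 (K.omega_irr ζ) (omega_one ζ)
  have hsum0 := K.sum_class hz hzN hzC hinv hx₀ hx₀1 (K.omega_irr one') (omega_one one')
  rw [← hμ, hP1.class_sum hz hζY hx₀ hx₀1] at hsum1
  rw [hP0.class_sum hz hη hx₀ hx₀1, ← hone0] at hsum0
  have hne : (Nat.card G : ℂ) * (Nat.card H : ℂ) ≠ 0 :=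
    mul_ne_zero (Nat.cast_ne_zero.2 Nat.card_pos.ne') (Nat.cast_ne_zero.2 Nat.card_pos.ne')
  have heq := mul_left_cancel₀ hne (hsum1.trans hsum0.symm)
  rw [hga, hgb, hgy, hg, hh', show (one' : G → ℂ) z = 1 from rfl,
    hea, ← irr_charDegree_cast, ← irr_charDegree_cast, ← irr_charDegree_cast, ← irr_charDegree_cast,
    ← irr_charDegree_cast, hfa, hfb, hdeg, Nat.cast_sub (show 1 ≤ (v + 1) * p by nlinarith),
    Nat.cast_sub (show 2 ≤ p by omega)] at heq
  have heq' : (ga : ℝ) ^ 2 / ((v : ℝ) * p + 1) - (gb : ℝ) ^ 2 / (((v : ℝ) + 1) * p - 1) +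
      (gy : ℝ) ^ 2 / ((p : ℝ) - 2) =
      1 + (eb : ℝ) * (g : ℝ) ^ 2 / (charDegree (b₀ : G → ℂ) : ℝ) +
        (s : ℝ) * (h' : ℝ) ^ 2 / (charDegree (η : G → ℂ) : ℝ) := by
    apply Complex.ofReal_injective
    push_cast at heq ⊢
    linear_combination heq
  have hrel0 := hP0.degree_rel hη
  rw [← hone0, hone, hea] at hrel0
  push_cast at hrel0
  have hrelz : 1 + eb * g + s * h' = 0 := by
    have h1 := hP0.relation η hη z (not_dvd_orderOf_two hp5 hz)
    rw [← hone0, hea, hg, hh', show (one' : G → ℂ) z = 1 from rfl] at h1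
    have h2 : ((1 + eb * g + s * h' : ℤ) : ℂ) = ((0 : ℤ) : ℂ) := by push_cast at h1 ⊢; linear_combination h1
    exact_mod_cast h2
  have hfb0 : 1 ≤ (charDegree (b₀ : G → ℂ) : ℤ) := by
    have : charDegree (b₀ : G → ℂ) ≠ 0 := fun h0 => irr_one_ne_zero b₀ (by
      rw [← irr_charDegree_cast, h0, Nat.cast_zero])
    omega
  have hfy0 : 1 ≤ (charDegree (η : G → ℂ) : ℤ) := by
    have : charDegree (η : G → ℂ) ≠ 0 := fun h0 => irr_one_ne_zero η (by
      rw [← irr_charDegree_cast, h0, Nat.cast_zero])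
    omega
  have hlow : 1 - 2 / (p : ℝ) ≤ 1 + (eb : ℝ) * (g : ℝ) ^ 2 / (charDegree (b₀ : G → ℂ) : ℝ) +
      (s : ℝ) * (h' : ℝ) ^ 2 / (charDegree (η : G → ℂ) : ℝ) := by
    obtain ⟨k, hk⟩ := hP0.degB.dvd
    rcases hP0.hσ with e1 | e1
    · have e2 : eb = -1 := by
        refine hP0.hδb.resolve_left fun e => ?_
        rw [e, e1] at hrel0; omega
      rw [e1, e2] at hrel0 hrelz ⊢
      rw [e2] at hk
      have hk0 : k ≤ -1 := by
        by_contra hk0
        push Not at hk0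
        have : 0 ≤ (p : ℤ) * k := mul_nonneg (by positivity) (by omega)
        omega
      obtain ⟨u, hu⟩ : ∃ u : ℕ, (u : ℤ) = -k := ⟨(-k).toNat, Int.toNat_of_nonneg (by omega)⟩
      have hbdeg : (charDegree (b₀ : G → ℂ) : ℤ) = u * p - 1 := by rw [hu]; linarith
      have hbnd : |g| ≤ (u : ℤ) - 1 := by
        have hs : singSum P b₀ = (((-1) * ((p : ℤ) - 1) : ℤ) : ℂ) := by
          have := (show Pair K (omega (H := H) one') b₀ a₀ Y₀ eb ea s from
            { hab := hP0.hab.symm, haY := hP0.hbY, hbY := hP0.haY, cardY := hP0.cardY,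
              hδa := hP0.hδb, hδb := hP0.hδa, hσ := hP0.hσ, omA := hP0.omB, omB := hP0.omA,
              omY := hP0.omY, degA := hP0.degB, degB := hP0.degA, degY := hP0.degY,
              valA := hP0.valB, valB := hP0.valA, sumY := hP0.sumY, singY := hP0.singY,
              agree := hP0.agree,
              relation := fun η hη g hg => by linear_combination hP0.relation η hη g hg,
              vanish := fun ψ h1 h2 h3 h4 => hP0.vanish ψ h1 h3 h2 h4 }).singA
          rwa [e2] at this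
        have h1 := K.value_bound hz hinv b₀ hs hg
        rw [hbdeg] at h1
        exact le_of_mul_le_mul_left (show (p : ℤ) * |g| ≤ p * ((u : ℤ) - 1) by linarith) (by omega)
      refine le_trans (lower_bound_pos hp7 (u := u) (by omega) hbnd (h := h') (by linarith)) (le_of_eq ?_)
      have c1 : (charDegree (b₀ : G → ℂ) : ℝ) = (u : ℝ) * p - 1 := by exact_mod_cast hbdeg
      have c2 : (charDegree (η : G → ℂ) : ℝ) = (u : ℝ) * p - 2 := by
        have : (charDegree (η : G → ℂ) : ℤ) = u * p - 2 := by linarith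
        exact_mod_cast this
      rw [c1, c2]; push_cast; ring
    · have e2 : eb = 1 := by
        refine hP0.hδb.resolve_right fun e => ?_
        rw [e, e1] at hrel0; omega
      rw [e1, e2] at hrel0 hrelz ⊢
      rw [e2] at hk
      have hk0 : k ≤ 0 := by
        by_contra hk0
        push Not at hk0
        have : (p : ℤ) ≤ (p : ℤ) * k := le_mul_of_one_le_right (by positivity) (by omega)
        omega
      obtain ⟨u, hu⟩ : ∃ u : ℕ, (u : ℤ) = -k := ⟨(-k).toNat, Int.toNat_of_nonneg (by omega)⟩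
      have hbdeg : (charDegree (b₀ : G → ℂ) : ℤ) = u * p + 1 := by rw [hu]; linarith
      have hbnd : |h'| ≤ (u : ℤ) := by
        have h1 := K.value_bound hz hinv η (hP0.singY η hη) hh'
        rw [e1] at h1
        exact le_of_mul_le_mul_left (show (p : ℤ) * |h'| ≤ p * (u : ℤ) by linarith) (by omega)
      refine le_trans (lower_bound_neg hp7 (u := u) hbnd (g := g) (by linarith)) (le_of_eq ?_)
      have c1 : (charDegree (b₀ : G → ℂ) : ℝ) = (u : ℝ) * p + 1 := by exact_mod_cast hbdeg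
      have c2 : (charDegree (η : G → ℂ) : ℝ) = (u : ℝ) * p + 2 := by
        have : (charDegree (η : G → ℂ) : ℤ) = u * p + 2 := by linarith
        exact_mod_cast this
      rw [c1, c2]; push_cast; ring
  have := eq_of_lower_upper hp7
  linarith

end CfsgLib.SmallSylow.PredTwo
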