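import Cfsg.Agent.Lib.CharTheory.Irr
import Cfsg.Agent.Lib.CharTheory.Linear
import Cfsg.Agent.Lib.CharTheory.PowerMap
import Cfsg.Agent.Lib.CharTheory.Clifford

/-!
# A real character with a quadratic relation between its values at `g` and `g * g`
-/

namespace CfsgLib.SmallSylow.PredTwo

open Cfsg CfsgLib.CharTheory
open scoped ComplexConjugate

set_option linter.unusedVariables false
set_option linter.style.haveILetI false
set_option linter.unusedSectionVars false

universe u

/-- Sums of the powers of a root of unity. -/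
theorem root_sum {r : ℕ} {ω : ℂ} (h : ω ^ r = 1) [Decidable (ω = 1)] :
    ∑ k ∈ Finset.range r, ω ^ k = if ω = 1 then (r : ℂ) else 0 := by
  split_ifs with h1
  · simp [h1]
  · rw [geom_sum_eq h1, h, sub_self, zero_div]

theorem eq_one_of_re_ge {ω : ℂ} (hn : ‖ω‖ = 1) (hre : 1 ≤ ω.re) : ω = 1 := by
  have h1 : ω.re * ω.re + ω.im * ω.im = 1 := by
    rw [← Complex.normSq_apply, Complex.normSq_eq_norm_sq, hn, one_pow]
  have him : ω.im = 0 := by nlinarith
  rw [him] at h1
  exact Complex.ext (by rw [Complex.one_re]; nlinarith) (by rw [him, Complex.one_im])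

section cyclic

variable {D : Type u} [Group D] [Fintype D]

set_option maxHeartbeats 1000000 in
/-- No element of odd prime order commutes with the involution. -/
theorem cyclic_false (hcomm : ∀ a b : D, a * b = b * a) {c : D → ℂ} (hc : IsCharacter D c)
    (hreal : ∀ d, conj (c d) = c d) {h : ℕ} (hh : 3 ≤ h) (h1 : c 1 = 2 * (h : ℂ))
    (hquad : ∀ d, c (d * d) = c d ^ 2 - 2 * (h : ℂ) * c d + 2 * (h : ℂ))
    {r : ℕ} (hr : r.Prime) (hr2 : r ≠ 2) {y z : D} (hy : orderOf y = r) (hz : z * z = 1)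
    (hcz : c z = 0) (hgen : ∀ d : D, ∃ k : ℕ, d = y ^ k ∨ d = y ^ k * z) (hfaith : c y ≠ c 1) :
    False := by
  classical
  obtain ⟨hcls, hcoef⟩ := isCharacter_iff_coeff_nat.1 hc
  choose n hn using fun χ : IrrCharacter D => hcoef χ χ.2
  have hexp : ∀ g, c g = ∑ θ : IrrCharacter D, (n θ : ℂ) * (θ : D → ℂ) g := by
    intro g
    conv_lhs => rw [eq_sum_irr hcls]
    rw [Finset.sum_apply]
    exact Finset.sum_congr rfl fun θ _ => by rw [Pi.smul_apply, smul_eq_mul, hn]
  have hone : ∀ θ : IrrCharacter D, (θ : D → ℂ) 1 = 1 := fun θ => degree_one_of_commutative hcomm θ.2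
  choose l hl using fun θ : IrrCharacter D => exists_hom_of_degree_one (isCharacter_of_irr θ.2) (hone θ)
  have hmul : ∀ (θ : IrrCharacter D) a b, (θ : D → ℂ) (a * b) = (θ : D → ℂ) a * (θ : D → ℂ) b := by
    intro θ a b
    rw [hl θ]
    simp [map_mul]
  have hpow : ∀ (θ : IrrCharacter D) a (k : ℕ), (θ : D → ℂ) (a ^ k) = (θ : D → ℂ) a ^ k := by
    intro θ a k
    rw [hl θ]
    simp [map_pow]
  have hunit : ∀ (θ : IrrCharacter D) a, ‖(θ : D → ℂ) a‖ = 1 := by
    intro θ a
    refine Complex.norm_eq_one_of_pow_eq_one (n := orderOf a) ?_ (orderOf_pos a).ne'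
    rw [← hpow, pow_orderOf_eq_one, hone]
  have hyr : ∀ θ : IrrCharacter D, (θ : D → ℂ) y ^ r = 1 := fun θ => by
    rw [← hpow, ← hy, pow_orderOf_eq_one, hone]
  have hzsq : ∀ θ : IrrCharacter D, (θ : D → ℂ) z = 1 ∨ (θ : D → ℂ) z = -1 := fun θ =>
    mul_self_eq_one_iff.1 (by rw [← hmul, hz, hone])
  have hdeg : ∑ θ : IrrCharacter D, (n θ : ℂ) = 2 * (h : ℂ) := by
    rw [← h1, hexp]; exact Finset.sum_congr rfl fun θ _ => by rw [hone, mul_one]
  set Ep := Finset.univ.filter fun θ : IrrCharacter D => (θ : D → ℂ) z = 1 with hEp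
  have hEph : ∑ θ ∈ Ep, (n θ : ℂ) = (h : ℂ) := by
    have h2 : ∑ θ : IrrCharacter D, ((n θ : ℂ) + (n θ : ℂ) * (θ : D → ℂ) z) = 2 * (h : ℂ) := by
      rw [Finset.sum_add_distrib, hdeg, ← hexp, hcz, add_zero]
    rw [← Finset.sum_filter_add_sum_filter_not Finset.univ fun θ : IrrCharacter D => (θ : D → ℂ) z = 1,
      Finset.sum_eq_zero (s := Finset.univ.filter fun θ : IrrCharacter D => ¬ (θ : D → ℂ) z = 1)
        fun θ hθ => by rw [(hzsq θ).resolve_left (Finset.mem_filter.1 hθ).2]; ring,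
      add_zero, ← hEp, Finset.sum_congr rfl fun θ hθ => show _ = 2 * (n θ : ℂ) by
        rw [(Finset.mem_filter.1 hθ).2]; ring, ← Finset.mul_sum] at h2
    linear_combination h2 / 2
  have hA : ∀ d, c d + c (d * z) = 2 * ∑ θ ∈ Ep, (n θ : ℂ) * (θ : D → ℂ) d := by
    intro d
    rw [hexp, hexp, ← Finset.sum_add_distrib, Finset.mul_sum,
      ← Finset.sum_filter_add_sum_filter_not Finset.univ fun θ : IrrCharacter D => (θ : D → ℂ) z = 1,
      Finset.sum_eq_zero (s := Finset.univ.filter fun θ : IrrCharacter D => ¬ (θ : D → ℂ) z = 1)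
        fun θ hθ => by rw [hmul, (hzsq θ).resolve_left (Finset.mem_filter.1 hθ).2]; ring,
      add_zero, ← hEp]
    exact Finset.sum_congr rfl fun θ hθ => by rw [hmul, (Finset.mem_filter.1 hθ).2]; ring
  have hdich : ∀ d, c d = c (d * z) ∨ c d + c (d * z) = 2 * (h : ℂ) := by
    intro d
    have e : d * z * (d * z) = d * d := by
      rw [mul_assoc, ← mul_assoc z, hcomm z d, mul_assoc d z, hz, mul_one]
    have h2 := hquad (d * z)
    rw [e, hquad d] at h2
    have h3 : (c d - c (d * z)) * (c d + c (d * z) - 2 * (h : ℂ)) = 0 := by linear_combination h2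
    rcases mul_eq_zero.1 h3 with h4 | h4
    · exact Or.inl (sub_eq_zero.1 h4)
    · exact Or.inr (sub_eq_zero.1 h4)
  by_cases hI : ∃ k : ℕ, ¬ r ∣ k ∧ c (y ^ k) + c (y ^ k * z) = 2 * (h : ℂ)
  · -- the positive eigenspace is centralized
    obtain ⟨k, hk, hkA⟩ := hI
    have hsupp : ∀ θ ∈ Ep, n θ ≠ 0 → (θ : D → ℂ) y = 1 := by
      intro θ hθ hnθ
      have h2 : ∑ θ ∈ Ep, (n θ : ℝ) * (1 - ((θ : D → ℂ) (y ^ k)).re) = 0 := by
        have h3 := congrArg Complex.re (show ∑ θ ∈ Ep, (n θ : ℂ) * (1 - (θ : D → ℂ) (y ^ k)) = 0 by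
          rw [Finset.sum_congr rfl fun θ _ => mul_sub (n θ : ℂ) 1 ((θ : D → ℂ) (y ^ k)),
            Finset.sum_sub_distrib]
          simp only [mul_one]
          rw [hEph]
          linear_combination (hA (y ^ k) - hkA) / 2)
        simpa [Complex.re_sum] using h3
      have h4 := (Finset.sum_eq_zero_iff_of_nonneg fun θ' _ => mul_nonneg (Nat.cast_nonneg _)
        (sub_nonneg.2 ((Complex.re_le_norm _).trans (hunit θ' _).le))).1 h2 θ hθ
      have h5 := eq_one_of_re_ge (hunit θ (y ^ k))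
        (by have := (mul_eq_zero.1 h4).resolve_left (Nat.cast_ne_zero.2 hnθ); linarith)
      rw [hpow] at h5
      have h6 : orderOf ((θ : D → ℂ) y) ∣ Nat.gcd k r :=
        Nat.dvd_gcd (orderOf_dvd_of_pow_eq_one h5) (orderOf_dvd_of_pow_eq_one (hyr θ))
      rw [Nat.Coprime.gcd_eq_one ((hr.coprime_iff_not_dvd.2 hk).symm), Nat.dvd_one] at h6
      exact orderOf_eq_one_iff.1 h6
    -- squares
    have hext : ∀ θ θ' : IrrCharacter D, (θ : D → ℂ) y = (θ' : D → ℂ) y → (θ : D → ℂ) z = (θ' : D → ℂ) z →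
        θ = θ' := by
      intro θ θ' e1 e2
      refine Subtype.ext (funext fun d => ?_)
      obtain ⟨j, rfl | rfl⟩ := hgen d
      · rw [hpow, hpow, e1]
      · rw [hmul, hmul, hpow, hpow, e1, e2]
    let e1 : IrrCharacter D := ⟨fun _ => 1, isIrrCharacter_one⟩
    have hn1 : (n e1 : ℂ) = (h : ℂ) := by
      rw [← hEph, Finset.sum_eq_single e1]
      · intro θ hθ hne
        by_contra hn0
        refine hne (hext θ e1 (hsupp θ hθ fun e => hn0 (by rw [e, Nat.cast_zero])) ?_)
        exact (Finset.mem_filter.1 hθ).2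
      · exact fun hne => absurd (show e1 ∈ Ep by
          rw [hEp, Finset.mem_filter]
          exact ⟨Finset.mem_univ _, rfl⟩) hne
    set O := Finset.univ.filter fun θ : IrrCharacter D => (θ : D → ℂ) y ≠ 1 with hO
    have hconj : ∀ θ : IrrCharacter D, ∃ θ' : IrrCharacter D,
        (∀ d, (θ' : D → ℂ) d = conj ((θ : D → ℂ) d)) ∧ n θ' = n θ := by
      intro θ
      let θ' : IrrCharacter D := ⟨fun d => conj ((θ : D → ℂ) d), isIrrCharacter_conjChar θ.2⟩
      refine ⟨θ', fun d => rfl, ?_⟩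
      apply Nat.cast_injective (R := ℂ)
      have h3 : classInner c (θ' : D → ℂ) = conj (classInner c (θ : D → ℂ)) := by
        show classInner c (fun d => conj ((θ : D → ℂ) d)) = _
        simp only [classInner, map_mul, map_inv₀, map_natCast, map_sum, Complex.conj_conj, hreal]
      rw [hn θ', hn θ, map_natCast] at h3
      exact h3
    have hM : ∀ θ ∈ O, 2 * n θ ≤ ∑ θ ∈ O, n θ := by
      intro θ hθ
      obtain ⟨θ', hθ', hnθ'⟩ := hconj θ
      have hy1 : (θ : D → ℂ) y ≠ 1 := (Finset.mem_filter.1 hθ).2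
      have hne : θ' ≠ θ := by
        intro e
        have h3 := hθ' y
        rw [e] at h3
        have h4 : (θ : D → ℂ) y * (θ : D → ℂ) y = 1 := by
          nth_rewrite 2 [h3]
          rw [Complex.mul_conj, Complex.normSq_eq_norm_sq, hunit]; norm_num
        rcases mul_self_eq_one_iff.1 h4 with h5 | h5
        · exact hy1 h5
        · have h6 := hyr θ
          rw [h5, (hr.odd_of_ne_two hr2).neg_one_pow] at h6
          norm_num at h6
      have hθ'O : θ' ∈ O := Finset.mem_filter.2 ⟨Finset.mem_univ _, fun e => hy1 (by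
        rw [hθ'] at e
        rwa [← map_eq_one_iff _ (starRingEnd ℂ).injective])⟩
      calc 2 * n θ = ∑ τ ∈ ({θ', θ} : Finset (IrrCharacter D)), n τ := by
            rw [Finset.sum_pair hne, hnθ', two_mul]
        _ ≤ _ := Finset.sum_le_sum_of_subset (Finset.insert_subset hθ'O (Finset.singleton_subset_iff.2 hθ))
    have hQ : 2 * ∑ θ ∈ O, n θ ^ 2 ≤ (∑ θ ∈ O, n θ) ^ 2 := by
      rw [Finset.mul_sum, sq (∑ θ ∈ O, n θ), Finset.sum_mul]
      refine Finset.sum_le_sum fun θ hθ => ?_
      calc 2 * n θ ^ 2 = n θ * (2 * n θ) := by ring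
        _ ≤ _ := Nat.mul_le_mul_left _ (hM θ hθ)
    set N' := ∑ θ ∈ (Finset.univ.filter fun θ : IrrCharacter D => (θ : D → ℂ) y = 1).erase e1, n θ with hN'
    have he1mem : e1 ∈ Finset.univ.filter fun θ : IrrCharacter D => (θ : D → ℂ) y = 1 :=
      Finset.mem_filter.2 ⟨Finset.mem_univ _, rfl⟩
    have hsplit : ∀ f : IrrCharacter D → ℂ, ∑ θ, f θ = f e1 +
        (∑ θ ∈ (Finset.univ.filter fun θ : IrrCharacter D => (θ : D → ℂ) y = 1).erase e1, f θ) +
        ∑ θ ∈ O, f θ := fun f => by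
      rw [Finset.add_sum_erase _ _ he1mem, hO, Finset.sum_filter_add_sum_filter_not]
    have hsgn : ∀ θ ∈ (Finset.univ.filter fun θ : IrrCharacter D => (θ : D → ℂ) y = 1).erase e1,
        ∀ θ' ∈ (Finset.univ.filter fun θ : IrrCharacter D => (θ : D → ℂ) y = 1).erase e1, θ = θ' := by
      intro θ hθ θ' hθ'
      rw [Finset.mem_erase, Finset.mem_filter] at hθ hθ'
      refine hext θ θ' (hθ.2.2.trans hθ'.2.2.symm) ?_
      rw [(hzsq θ).resolve_left fun e => hθ.1 (hext θ e1 hθ.2.2 e),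
        (hzsq θ').resolve_left fun e => hθ'.1 (hext θ' e1 hθ'.2.2 e)]
    have hsq1 : ∑ θ ∈ (Finset.univ.filter fun θ : IrrCharacter D => (θ : D → ℂ) y = 1).erase e1,
        (n θ : ℂ) * n θ = (N' : ℂ) * N' := by
      rw [hN', Nat.cast_sum, Finset.sum_mul]
      refine Finset.sum_congr rfl fun θ hθ => ?_
      rw [Finset.sum_eq_single θ]
      · intro θ' hθ' hne; exact absurd (hsgn θ' hθ' θ hθ) hne
      · exact fun hne => absurd hθ hne
    -- the three sums over `D`
    have hcard : (Nat.card D : ℂ) ≠ 0 := Nat.cast_ne_zero.2 Nat.card_pos.ne'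
    have horth : ∀ θ θ' : IrrCharacter D,
        ∑ d, (θ : D → ℂ) d * conj ((θ' : D → ℂ) d) = if θ = θ' then (Nat.card D : ℂ) else 0 := by
      intro θ θ'
      have h3 := classInner_irr θ.2 θ'.2
      rw [classInner, inv_mul_eq_iff_eq_mul₀ hcard] at h3
      rw [h3, mul_ite, mul_one, mul_zero]
      exact if_congr Subtype.ext_iff.symm rfl rfl
    have hS1 : ∑ d, c d = (Nat.card D : ℂ) * (h : ℂ) := by
      have h3 := hn e1
      rw [classInner, inv_mul_eq_iff_eq_mul₀ hcard, hn1] at h3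
      rw [← h3]
      exact Finset.sum_congr rfl fun d _ => by
        show c d = c d * conj (1 : ℂ)
        rw [map_one, mul_one]
    have hS2 : ∑ d, c (d * d) = (Nat.card D : ℂ) * ((h : ℂ) + (N' : ℂ)) := by
      rw [Finset.sum_congr rfl fun d _ => hexp (d * d), Finset.sum_comm,
        Finset.sum_congr rfl fun θ _ => show ∑ d, (n θ : ℂ) * (θ : D → ℂ) (d * d) =
          if (θ : D → ℂ) y = 1 then (Nat.card D : ℂ) * (n θ : ℂ) else 0 by
        obtain ⟨θ', hθ', -⟩ := hconj θ
        rw [← Finset.mul_sum, Finset.sum_congr rfl fun d _ => show (θ : D → ℂ) (d * d) =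
            (θ : D → ℂ) d * conj ((θ' : D → ℂ) d) by rw [hθ', Complex.conj_conj, hmul], horth, mul_ite,
          mul_zero]
        refine if_congr ⟨fun e => ?_, fun e => ?_⟩ (mul_comm _ _) rfl
        · have h3 := hθ' y
          rw [← e] at h3
          have h4 : (θ : D → ℂ) y * (θ : D → ℂ) y = 1 := by
            nth_rewrite 2 [h3]
            rw [Complex.mul_conj, Complex.normSq_eq_norm_sq, hunit]; norm_num
          refine (mul_self_eq_one_iff.1 h4).resolve_right fun h5 => ?_
          have h6 := hyr θ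
          rw [h5, (hr.odd_of_ne_two hr2).neg_one_pow] at h6
          norm_num at h6
        · refine hext θ θ' ?_ ?_
          · rw [hθ', e, map_one]
          · rw [hθ']
            rcases hzsq θ with e2 | e2 <;> rw [e2] <;> simp,
        ← Finset.sum_filter, ← Finset.add_sum_erase _ _ he1mem, hn1, ← Finset.mul_sum, hN', Nat.cast_sum]
      ring
    have hS3 : ∑ d, c d ^ 2 = (Nat.card D : ℂ) * ((h : ℂ) ^ 2 + (N' : ℂ) * N' + ((∑ θ ∈ O, n θ ^ 2 : ℕ) : ℂ)) := by
      have e : (h : ℂ) ^ 2 + (N' : ℂ) * N' + ((∑ θ ∈ O, n θ ^ 2 : ℕ) : ℂ) =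
          ∑ θ, (n θ : ℂ) * n θ := by
        rw [hsplit, hsq1, hn1]
        congr 1
        · ring
        · rw [Nat.cast_sum]
          exact Finset.sum_congr rfl fun θ _ => by push_cast; ring
      rw [e, Finset.sum_congr rfl fun d _ => show c d ^ 2 =
        c d * conj (c d) by rw [hreal]; ring]
      rw [Finset.mul_sum]
      calc ∑ d, c d * conj (c d) = ∑ d, c d * conj (∑ θ : IrrCharacter D, (n θ : ℂ) * (θ : D → ℂ) d) := by
            simp only [← hexp]
        _ = ∑ θ : IrrCharacter D, (n θ : ℂ) * ∑ d, c d * conj ((θ : D → ℂ) d) := by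
            simp only [map_sum, map_mul, map_natCast, Finset.mul_sum]
            rw [Finset.sum_comm]
            exact Finset.sum_congr rfl fun θ _ => Finset.sum_congr rfl fun d _ => by ring
        _ = _ := Finset.sum_congr rfl fun θ _ => by
            have h3 := hn θ
            rw [classInner, inv_mul_eq_iff_eq_mul₀ hcard] at h3
            rw [h3]; ring
    have hid : ∑ d, c (d * d) = ∑ d, c d ^ 2 - 2 * (h : ℂ) * ∑ d, c d + (Nat.card D : ℂ) * (2 * (h : ℂ)) := by
      rw [Finset.sum_congr rfl fun d _ => hquad d, Finset.sum_add_distrib, Finset.sum_sub_distrib,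
        Finset.mul_sum, Finset.sum_const, Finset.card_univ, ← Nat.card_eq_fintype_card, nsmul_eq_mul]
    rw [hS1, hS2, hS3] at hid
    have hid' := mul_left_cancel₀ hcard (hid.trans (show _ = (Nat.card D : ℂ) *
      ((h : ℂ) ^ 2 + (N' : ℂ) * N' + ((∑ θ ∈ O, n θ ^ 2 : ℕ) : ℂ) - 2 * (h : ℂ) * h + 2 * h) by ring))
    have hidZ : (h : ℤ) + N' = (h : ℤ) ^ 2 + (N' : ℤ) * N' + ((∑ θ ∈ O, n θ ^ 2 : ℕ) : ℤ) - 2 * h * h + 2 * h := by
      apply Int.cast_injective (α := ℂ)
      push_cast at hid' ⊢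
      linear_combination hid'
    have hMtot : N' + ∑ θ ∈ O, n θ = h := by
      have h3 := hdeg
      rw [hsplit, hn1, ← Nat.cast_sum, ← Nat.cast_sum, ← hN'] at h3
      apply Nat.cast_injective (R := ℂ)
      push_cast at h3 ⊢
      linear_combination h3
    set T := ∑ θ ∈ O, n θ
    set Q := ∑ θ ∈ O, n θ ^ 2
    rcases Nat.eq_zero_or_pos T with hT | hT
    · refine hfaith ?_
      rw [h1, ← hdeg, hexp]
      refine Finset.sum_congr rfl fun θ _ => ?_
      by_cases hθ : (θ : D → ℂ) y = 1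
      · rw [hθ, mul_one]
      · rw [Finset.sum_eq_zero_iff.1 hT θ (Finset.mem_filter.2 ⟨Finset.mem_univ _, hθ⟩)]
        simp
    · have hN : (N' : ℤ) = (h : ℤ) - T := by omega
      rw [hN] at hidZ
      have hT' : (1 : ℤ) ≤ T := by exact_mod_cast hT
      have hQ' : 2 * (Q : ℤ) ≤ (T : ℤ) ^ 2 := by exact_mod_cast hQ
      have hTh : (T : ℤ) ≤ h := by omega
      have hh' : (3 : ℤ) ≤ h := by exact_mod_cast hh
      nlinarith
  · -- the values are all equal to one
    push Not at hI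
    have heq : ∀ k, ¬ r ∣ k → c (y ^ k) = c (y ^ k * z) := fun k hk => (hdich _).resolve_right (hI k hk)
    have hre : ∀ k, ¬ r ∣ k → (c (y ^ k)).re ≤ h := by
      intro k hk
      have h2 := hA (y ^ k)
      rw [← heq k hk, ← two_mul] at h2
      rw [mul_left_cancel₀ two_ne_zero h2, Complex.re_sum]
      have h3 : ∑ θ ∈ Ep, (n θ : ℝ) = (h : ℝ) := by
        apply Complex.ofReal_injective; push_cast; exact hEph
      rw [← h3]
      refine Finset.sum_le_sum fun θ _ => ?_
      rw [show ((n θ : ℂ) * (θ : D → ℂ) (y ^ k)).re = (n θ : ℝ) * ((θ : D → ℂ) (y ^ k)).re by simp]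
      exact mul_le_of_le_one_right (Nat.cast_nonneg _) ((Complex.re_le_norm _).trans (hunit θ _).le)
    have hcR : ∀ d, c d = (((c d).re : ℝ) : ℂ) := fun d => (Complex.conj_eq_iff_re.1 (hreal d)).symm
    set d' : ℕ → ℝ := fun k => 1 - (c (y ^ k)).re with hd'
    have hstep : ∀ k, ¬ r ∣ k → d' (2 * k) = -(d' k * (d' k + 2 * h - 2)) := by
      intro k hk
      have h2 := hquad (y ^ k)
      rw [← pow_add, ← two_mul, hcR (y ^ (2 * k)), hcR (y ^ k)] at h2
      have h3 : (c (y ^ (2 * k))).re = (c (y ^ k)).re ^ 2 - 2 * (h : ℝ) * (c (y ^ k)).re + 2 * h := by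
        exact_mod_cast h2
      simp only [hd']
      rw [h3]; ring
    have hmod : ∀ k, d' k = d' (k % r) := fun k => by
      simp only [hd', ← hy, pow_mod_orderOf]
    obtain ⟨k₀, hk₀, hmax⟩ := Finset.exists_max_image (Finset.Ico 1 r) (fun k => |d' k|)
      ⟨1, Finset.mem_Ico.2 ⟨le_rfl, hr.one_lt⟩⟩
    rw [Finset.mem_Ico] at hk₀
    have hk₀' : ¬ r ∣ k₀ := fun hd => by have := Nat.le_of_dvd (by omega) hd; omega
    have h2k : (2 * k₀) % r ∈ Finset.Ico 1 r := by
      rw [Finset.mem_Ico]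
      refine ⟨Nat.one_le_iff_ne_zero.2 fun e => ?_, Nat.mod_lt _ hr.pos⟩
      rcases hr.dvd_mul.1 (Nat.dvd_of_mod_eq_zero e) with h2 | h2
      · exact hr2 ((Nat.prime_dvd_prime_iff_eq hr Nat.prime_two).1 h2)
      · exact hk₀' h2
    have hzero : ∀ k, ¬ r ∣ k → c (y ^ k) = 1 := by
      have hd0 : d' k₀ = 0 := by
        by_contra hne
        have h4 := hmax _ h2k
        rw [← hmod, hstep k₀ hk₀', abs_neg, abs_mul] at h4
        have h5 : 1 - (h : ℝ) ≤ d' k₀ := by
          have := hre k₀ hk₀'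
          simp only [hd']; linarith
        have h6 : (2 : ℝ) ≤ |d' k₀ + 2 * h - 2| := by
          have h7 : (3 : ℝ) ≤ h := by exact_mod_cast hh
          exact le_trans (by linarith) (le_abs_self _)
        have h8 : 0 < |d' k₀| := abs_pos.2 hne
        nlinarith
      intro k hk
      have h4 := hmax (k % r) (Finset.mem_Ico.2 ⟨Nat.one_le_iff_ne_zero.2 fun e =>
        hk (Nat.dvd_of_mod_eq_zero e), Nat.mod_lt _ hr.pos⟩)
      rw [hd0, abs_zero, abs_nonpos_iff, ← hmod] at h4
      simp only [hd'] at h4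
      rw [hcR, show (c (y ^ k)).re = 1 by linarith, Complex.ofReal_one]
    have hsum : ∑ k ∈ Finset.range r, c (y ^ k * z) = (r : ℂ) - 1 := by
      rw [← Finset.add_sum_erase _ _ (Finset.mem_range.2 hr.pos), pow_zero, one_mul, hcz, zero_add,
        Finset.sum_congr rfl fun k hk => show c (y ^ k * z) = 1 by
          rw [Finset.mem_erase, Finset.mem_range] at hk
          have hk' : ¬ r ∣ k := fun hd => by have := Nat.le_of_dvd (by omega) hd; omega
          rw [← heq k hk', hzero k hk'],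
        Finset.sum_const, Finset.card_erase_of_mem (Finset.mem_range.2 hr.pos), Finset.card_range,
        nsmul_eq_mul, mul_one, Nat.cast_sub hr.one_le, Nat.cast_one]
    obtain ⟨g, hg⟩ : ∃ g : ℤ, ∑ k ∈ Finset.range r, c (y ^ k * z) = (r : ℂ) * (g : ℂ) := by
      refine ⟨∑ θ : IrrCharacter D, if (θ : D → ℂ) y = 1 then
        (if (θ : D → ℂ) z = 1 then (n θ : ℤ) else -(n θ : ℤ)) else 0, ?_⟩
      rw [Finset.sum_congr rfl fun k _ => hexp (y ^ k * z), Finset.sum_comm, Int.cast_sum, Finset.mul_sum]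
      refine Finset.sum_congr rfl fun θ _ => ?_
      rw [Finset.sum_congr rfl fun k _ => show (n θ : ℂ) * (θ : D → ℂ) (y ^ k * z) =
          (n θ : ℂ) * (θ : D → ℂ) z * (θ : D → ℂ) y ^ k by rw [hmul, hpow]; ring, ← Finset.mul_sum,
        root_sum (hyr θ)]
      split_ifs with e1 e2
      · rw [e2]; push_cast; ring
      · rw [(hzsq θ).resolve_left e2]; push_cast; ring
      · simp
    rw [hsum] at hg
    have hg' : (r : ℤ) - 1 = r * g := by
      apply Int.cast_injective (α := ℂ); push_cast; exact hg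
    have : (r : ℤ) ∣ 1 := ⟨1 - g, by linarith⟩
    exact hr.one_lt.ne' (by exact_mod_cast Int.eq_one_of_dvd_one (by positivity) this)

end cyclic

variable {G : Type u} [Group G] [Fintype G]

/-- The centralizer of the involution. -/
theorem value_eq_zero {p h : ℕ} (hp : p = 2 * h + 1) (hh : 3 ≤ h) {c : G → ℂ} (hc : IsCharacter G c)
    (hreal : ∀ g, conj (c g) = c g) (h1 : c 1 = 2 * (h : ℂ)) {z : G} (hz : orderOf z = 2) (hcz : c z = 0)
    (hreg : ∀ g, g * z = z * g → ¬ p ∣ orderOf g)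
    (hquad : ∀ g, ¬ p ∣ orderOf g → c (g * g) = c g ^ 2 - 2 * (h : ℂ) * c g + 2 * (h : ℂ))
    (hfaith : ∀ g, ¬ p ∣ orderOf g → c g = c 1 → g = 1) {g : G} (hg : g * z = z * g) (hg1 : g ≠ 1) :
    c g = 0 := by
  classical
  have hinvol : ∀ t : G, t * z = z * t → orderOf t = 2 → c t = 0 := by
    intro t htz ht
    have h2 := hquad t (hreg t htz)
    rw [← sq t, show t ^ 2 = 1 by rw [← ht]; exact pow_orderOf_eq_one t, h1] at h2
    have h3 : c t * (c t - 2 * (h : ℂ)) = 0 := by linear_combination -h2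
    refine (mul_eq_zero.1 h3).resolve_right fun h4 => ?_
    have h5 := hfaith t (hreg t htz) (by rw [h1]; exact sub_eq_zero.1 h4)
    rw [h5, orderOf_one] at ht
    exact absurd ht (by norm_num)
  have hcommpow : ∀ k : ℕ, g ^ k * z = z * g ^ k := fun k => (Commute.pow_left hg k).eq
  have hno4 : ∀ t : G, t * z = z * t → orderOf t ≠ 4 := by
    intro t htz ht
    have h2 := hquad t (hreg t htz)
    have hsq : orderOf (t * t) = 2 := by
      rw [← sq, orderOf_pow, ht]; decide
    rw [hinvol (t * t) ((Commute.mul_left htz htz).eq) hsq] at h2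
    obtain ⟨x, hx⟩ := rational_int_of_invariant hc t fun m hm => by
      have hm2 : ¬ 2 ∣ m := fun hd => by
        have : 2 ∣ Nat.gcd m (Nat.card G) := Nat.dvd_gcd hd (hz ▸ orderOf_dvd_natCard z)
        rw [hm] at this
        omega
      rw [show t ^ m = t ^ (m % orderOf t) from (pow_mod_orderOf t m).symm, ht]
      rcases (show m % 4 = 1 ∨ m % 4 = 3 by omega) with e | e <;> rw [e]
      · rw [pow_one]
      · rw [show t ^ 3 = t⁻¹ from eq_inv_of_mul_eq_one_left (by rw [← pow_succ]; show t ^ 4 = 1; rw [← ht]; exact pow_orderOf_eq_one t),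
          char_apply_inv hc, hreal]
    rw [hx] at h2
    have h3 : (x - (h : ℤ)) ^ 2 = (h : ℤ) ^ 2 - 2 * h := by
      have h4 : (0 : ℤ) = x ^ 2 - 2 * h * x + 2 * h := by
        apply Int.cast_injective (α := ℂ); push_cast; exact h2
      linear_combination -h4
    have hh' : (3 : ℤ) ≤ h := by exact_mod_cast hh
    rcases le_or_gt (|x - (h : ℤ)|) ((h : ℤ) - 2) with h5 | h5
    · have h6 : (x - (h : ℤ)) ^ 2 ≤ ((h : ℤ) - 2) ^ 2 := by
        rw [← sq_abs]; exact pow_le_pow_left₀ (abs_nonneg _) h5 2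
      nlinarith
    · have h6 : ((h : ℤ) - 1) ^ 2 ≤ (x - (h : ℤ)) ^ 2 := by
        rw [← sq_abs (x - (h : ℤ))]; exact pow_le_pow_left₀ (by linarith) (by omega) 2
      nlinarith
  have hnoodd : ∀ t : G, t * z = z * t → ∀ r : ℕ, r.Prime → r ≠ 2 → orderOf t ≠ r := by
    intro t htz r hr hr2 ht
    set g' := t * z
    let D : Subgroup G := Subgroup.zpowers g'
    haveI : Fintype D := Fintype.ofFinite _
    have hzr : z ^ r = z := by
      obtain ⟨m, hm⟩ := hr.odd_of_ne_two hr2
      rw [hm, pow_succ, pow_mul, ← hz, pow_orderOf_eq_one, one_pow, one_mul]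
    have htr : t ^ r = 1 := ht ▸ pow_orderOf_eq_one t
    have hzD : z ∈ D := by
      have e : g' ^ r = z := by rw [(show Commute t z from htz).mul_pow, htr, hzr, one_mul]
      rw [← e]; exact Subgroup.npow_mem_zpowers _ _
    have htD : t ∈ D := by
      have e : g' * z⁻¹ = t := mul_inv_cancel_right t z
      rw [← e]; exact mul_mem (Subgroup.mem_zpowers _) (inv_mem hzD)
    have hcz' : ∀ d : G, d ∈ D → d * z = z * d := by
      intro d hd
      obtain ⟨k, rfl⟩ := Subgroup.mem_zpowers_iff.1 hd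
      exact (((show Commute t z from htz).mul_left (Commute.refl z)).zpow_left k).eq
    refine cyclic_false (D := D) (c := fun d => c d) (fun a b => ?_)
      (isCharacter_restrict hc D) (fun d => hreal d) hh (by show c ((1 : D) : G) = _; rw [Subgroup.coe_one, h1])
      (fun d => hquad d (hreg d (hcz' d d.2))) hr hr2 (y := ⟨t, htD⟩) (z := ⟨z, hzD⟩)
      (by rw [← Subgroup.orderOf_coe]; exact ht) (Subtype.ext (show z * z = 1 by
        rw [← sq, ← hz, pow_orderOf_eq_one])) hcz (fun d => ?_) (fun e => ?_)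
    · obtain ⟨i, hi⟩ := Subgroup.mem_zpowers_iff.1 a.2
      obtain ⟨j, hj⟩ := Subgroup.mem_zpowers_iff.1 b.2
      exact Subtype.ext (show (a : G) * b = b * a by rw [← hi, ← hj, ← zpow_add, ← zpow_add, add_comm])
    · obtain ⟨k, hk⟩ := Submonoid.mem_powers_iff _ _ |>.1 (mem_powers_iff_mem_zpowers.2 d.2)
      refine ⟨k, ?_⟩
      rw [(show Commute t z from htz).mul_pow] at hk
      rcases Nat.even_or_odd k with ⟨m, hm⟩ | ⟨m, hm⟩
      · refine Or.inl (Subtype.ext ?_)
        rw [← hk, hm, ← two_mul, pow_mul z 2 m, ← hz, pow_orderOf_eq_one, one_pow, mul_one]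
        simp [two_mul]
      · refine Or.inr (Subtype.ext ?_)
        rw [← hk, hm, pow_succ z (2 * m), pow_mul z 2 m, ← hz, pow_orderOf_eq_one, one_pow, one_mul]
        simp
    · have := hfaith t (hreg t htz) e
      rw [this, orderOf_one] at ht
      exact hr.one_lt.ne ht
  refine hinvol g hg ?_
  have hn1 : orderOf g ≠ 1 := fun e => hg1 (orderOf_eq_one_iff.1 e)
  have hpowo : ∀ m, m ∣ orderOf g → orderOf (g ^ (orderOf g / m)) = m := fun m hm =>
    (orderOf_pow_of_dvd (Nat.div_pos (Nat.le_of_dvd (orderOf_pos g) hm)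
      (Nat.pos_of_dvd_of_pos hm (orderOf_pos g))).ne' (Nat.div_dvd_of_dvd hm)).trans
      (Nat.div_div_self hm (orderOf_pos g).ne')
  obtain ⟨k, hk⟩ : ∃ k, orderOf g = 2 ^ k := by
    refine ⟨(orderOf g).factorization 2, ?_⟩
    refine Nat.eq_of_factorization_eq (orderOf_pos g).ne' (by positivity) fun r => ?_
    rw [Nat.Prime.factorization_pow Nat.prime_two]
    rcases eq_or_ne r 2 with rfl | hr2
    · simp
    · rw [Finsupp.single_eq_of_ne hr2]
      by_contra hne
      have hmem : r ∈ (orderOf g).primeFactors := by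
        rw [← Nat.support_factorization, Finsupp.mem_support_iff]; exact hne
      rw [Nat.mem_primeFactors] at hmem
      exact hnoodd _ (hcommpow _) r hmem.1 hr2 (hpowo r hmem.2.1)
  rcases k with _ | _ | k
  · exact absurd hk hn1
  · rw [hk]; norm_num
  · exact absurd (hpowo 4 ⟨2 ^ k, by rw [hk]; ring⟩) (hno4 _ (hcommpow _))

end CfsgLib.SmallSylow.PredTwo
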