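import Cfsg.Agent.Lib.SmallSylow.PredTwo.TwoBlock

/-!
# Inertial index two with central complement: the members of a block
-/

namespace CfsgLib.SmallSylow.PredTwo

open Cfsg CfsgLib.Blocks CfsgLib.Blocks.DefectOne CfsgLib.CharTheory CfsgLib.CharTheory.SmallDegree
open scoped ComplexConjugate

set_option linter.unusedVariables false
set_option linter.style.haveILetI false
set_option linter.unusedSectionVars false

universe u

noncomputable local instance normFintype'' {G : Type u} [Group G] [Fintype G] (P : Subgroup G) :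
    Fintype (Subgroup.normalizer (P : Set G)) :=
  Fintype.ofFinite _

variable {G : Type u} [Group G] [Fintype G] {p : ℕ} [Fact p.Prime] {P : Sylow p G} {H : Subgroup G}
  [Fintype (P : Subgroup G)] [Fintype (cen (P : Subgroup G))] [Fintype H]

theorem Ctx.comm_cen (K : Ctx p P H) (c c' : cen (P : Subgroup G)) : c * c' = c' * c := by
  obtain ⟨x, hx, y, hy, e⟩ := K.hH.prod _ c.2
  obtain ⟨x', hx', y', hy', e'⟩ := K.hH.prod _ c'.2
  refine Subtype.ext ?_
  show (c : G) * c' = c' * c
  rw [e, e']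
  calc x * y * (x' * y') = x * (y * x') * y' := by group
    _ = x * x' * (y * y') := by rw [← K.commH hy x']; group
    _ = x' * x * (y' * y) := by rw [K.setup.comm hx hx', ← K.commH hy y']
    _ = x' * (x * y') * y := by group
    _ = x' * y' * (x * y) := by rw [K.commH hy' x]; group

variable {M : Ideal AlgInt} {B : Set (IrrCharacter G)} {θ : IrrCharacter (cen (P : Subgroup G))}

theorem Ctx.theta_one (K : Ctx p P H) (θ : IrrCharacter (cen (P : Subgroup G))) :
    (θ : cen (P : Subgroup G) → ℂ) 1 = 1 :=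
  degree_one_of_commutative K.comm_cen θ.2

theorem Ctx.resH_cConj (K : Ctx p P H) (θ : IrrCharacter (cen (P : Subgroup G))) {g : G}
    (hg : g ∈ Subgroup.normalizer ((P : Subgroup G) : Set G)) (y : H) :
    resH K.hH (cConj hg θ) y = resH K.hH θ y :=
  congrArg (θ : cen (P : Subgroup G) → ℂ) (Subtype.ext (show g * (y : G) * g⁻¹ = y by
    rw [K.commH y.2 g, mul_inv_cancel_right]))

theorem Ctx.stab_eq (K : Ctx p P H) (hθ : SmallDegree.lam K.setup θ = fun _ => 1) :
    stab θ = Subgroup.normalizer ((P : Subgroup G) : Set G) :=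
  le_antisymm (stab_le _) fun g hg => ⟨hg, ext_char K.setup K.hH
    (((cConj_mk K.setup K.hH K.hP hθ hg (oneP _)).1).trans hθ.symm)
    (funext fun y => K.resH_cConj θ hg y)⟩

/-- The members of a block with a root, and the vanishing of all others over its central
character. -/
theorem Ctx.exists_pair (K : Ctx p P H) (hM : IsPModular p M) (hr : Root hM K.setup K.hH B θ)
    {z : G} (hz : orderOf z = 2) (hzN : z ∈ Subgroup.normalizer ((P : Subgroup G) : Set G))
    (hzC : z ∉ Subgroup.centralizer ((P : Subgroup G) : Set G))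
    (hinv : ∀ x ∈ (P : Subgroup G), z * x * z⁻¹ = x⁻¹) :
    ∃ a b Y δa δb σ, Pair K (resH K.hH θ) a b Y δa δb σ ∧ ∀ χ ∈ B, χ = a ∨ χ = b ∨ χ ∈ Y := by
  classical
  have hp : p.Prime := Fact.out
  have h := K.setup
  obtain ⟨X, Y, ε, av, τ, S⟩ := exists_shape hM h K.hH hr
  have hstab := K.stab_eq (θ := θ) hr.ker
  have he : (cen (P : Subgroup G)).relIndex (stab θ) = 2 := by rw [hstab]; exact K.hq
  have hd : charDegree (θ : cen (P : Subgroup G) → ℂ) = 1 := by
    apply Nat.cast_injective (R := ℂ)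
    rw [irr_charDegree_cast, K.theta_one, Nat.cast_one]
  have hθ1 : resH K.hH θ 1 = 1 := K.theta_one θ
  have hqN : (cen (P : Subgroup G)).relIndex (Subgroup.normalizer ((P : Subgroup G) : Set G)) = 2 := K.hq
  obtain ⟨a, b, hab, hX⟩ := Finset.card_eq_two.1 (S.cardX.trans he)
  have haX : a ∈ X := by rw [hX]; simp
  have hbX : b ∈ X := by rw [hX]; simp
  have hmem : ∀ χ ∈ B, χ = a ∨ χ = b ∨ χ ∈ Y := by
    intro χ hχ
    rw [← S.union] at hχ
    rcases hχ with h1 | h1
    · rw [Finset.mem_coe, hX, Finset.mem_insert, Finset.mem_singleton] at h1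
      tauto
    · exact Or.inr (Or.inr h1)
  have hNpos : (Nat.card (stab θ) : ℂ) ≠ 0 := Nat.cast_ne_zero.2 Nat.card_pos.ne'
  -- values
  have hval : ∀ χ ∈ B, ∀ x : (P : Subgroup G), (x : G) ≠ 1 → ∀ y : H,
      (χ : G → ℂ) ((x : G) * y) = resH K.hH θ y * (χ : G → ℂ) x := by
    intro χ hχ x hx y
    refine mul_left_cancel₀ hNpos ?_
    rw [mul_left_comm, value_nu hM h K.hH hr hχ x hx y]
    have h2 := value_nu hM h K.hH hr hχ x hx 1
    rw [Subgroup.coe_one, mul_one] at h2
    rw [h2, Finset.mul_sum]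
    refine Finset.sum_congr rfl fun n _ => ?_
    rw [Finset.mul_sum]
    refine Finset.sum_congr rfl fun ν _ => ?_
    rw [K.resH_cConj θ n.2, K.resH_cConj θ n.2, hθ1]
    ring
  have hvalX : ∀ χ ∈ X, ∀ x ∈ (P : Subgroup G), x ≠ 1 → (χ : G → ℂ) x = ((-av χ : ℤ) : ℂ) := by
    intro χ hχ x hx hx1
    have h1 := S.valueX hM hr hχ ⟨x, hx⟩ hx1 1
    rw [Subgroup.coe_one, mul_one] at h1
    refine mul_left_cancel₀ hNpos ?_
    simp only [resH_cConj_one K.hH θ, hd, Nat.cast_one, Finset.sum_const, Finset.card_univ,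
      ← Nat.card_eq_fintype_card, nsmul_eq_mul, mul_one] at h1
    rw [hstab] at h1 ⊢
    push_cast
    linear_combination h1
  set Sim' : IrrCharacter (P : Subgroup G) → Finset (IrrCharacter (P : Subgroup G)) := fun τ₀ =>
    Finset.univ.filter fun ν => Sim θ ν τ₀
  have hfib : ∀ F : IrrCharacter (P : Subgroup G) → ℂ, ∑ η ∈ Y, ∑ ν ∈ Sim' (τ η), F ν =
      ∑ ν ∈ Finset.univ.erase (oneP (P : Subgroup G)), F ν := by
    intro F
    rw [Finset.sum_congr rfl fun η hη => show ∑ ν ∈ Sim' (τ η), F ν =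
        ∑ ν ∈ Finset.univ.erase (oneP (P : Subgroup G)), if Sim θ ν (τ η) then F ν else 0 by
      rw [← Finset.sum_filter]
      refine Finset.sum_congr ?_ fun _ _ => rfl
      ext ν
      simp only [Sim', Finset.mem_filter, Finset.mem_erase, Finset.mem_univ, true_and, and_true]
      exact ⟨fun hs => ⟨sim_ne_one h hs (S.neY η hη), hs⟩, fun hs => hs.2⟩, Finset.sum_comm]
    refine Finset.sum_congr rfl fun ν hν => ?_
    obtain ⟨η₁, ⟨hη₁, hs⟩, huniq⟩ := S.hit ν (Finset.ne_of_mem_erase hν)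
    rw [Finset.sum_eq_single η₁, if_pos hs]
    · intro η hη hne
      rw [if_neg fun hs' => hne (huniq η ⟨hη, hs'⟩)]
    · exact fun h' => absurd hη₁ h'
  have hηval : ∀ η ∈ Y, ∀ x : (P : Subgroup G), (x : G) ≠ 1 →
      (η : G → ℂ) x = (ε : ℂ) * ∑ ν ∈ Sim' (τ η), (ν : ↥(P : Subgroup G) → ℂ) x := by
    intro η hη x hx
    refine mul_left_cancel₀ hNpos ?_
    have h2 := value_nu hM h K.hH hr (S.mem_Y hη) x hx 1
    rw [Subgroup.coe_one, mul_one] at h2
    rw [h2, Finset.sum_congr rfl fun n _ => show _ =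
        (ε : ℂ) * ∑ ν ∈ Sim' (τ η), (ν : ↥(P : Subgroup G) → ℂ) x by
      rw [← Finset.sum_subset (s₁ := Sim' (τ η))
          (fun ν hν => Finset.mem_erase.2 ⟨sim_ne_one h (Finset.mem_filter.1 hν).2 (S.neY η hη),
            Finset.mem_univ _⟩)
          (fun ν hν hn => by
            rw [(S.rowY η hη ν (Finset.ne_of_mem_erase hν)).2 fun hs =>
              hn (Finset.mem_filter.2 ⟨Finset.mem_univ _, hs⟩), Int.cast_zero, zero_mul]),
        Finset.mul_sum]
      have hns : (n : G) ∈ stab θ := hstab.ge n.2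
      refine Finset.sum_nbij (fun ν => nConj n.2 ν) (fun ν hν => ?_) (fun ν _ ν' _ e => ?_)
        (fun ν hν => ?_) fun ν hν => ?_
      · refine Finset.mem_filter.2 ⟨Finset.mem_univ _, ?_⟩
        exact sim_trans ⟨n, hns, rfl⟩ (Finset.mem_filter.1 hν).2
      · have := congrArg (nConj (Subgroup.inv_mem _ n.2)) e
        simp only at this
        rw [nConj_nConj, nConj_nConj, nConj_congr _ (Subgroup.one_mem _) (mul_inv_cancel (n : G)),
          nConj_congr _ (Subgroup.one_mem _) (mul_inv_cancel (n : G))] at this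
        have hone : ∀ μ : IrrCharacter (P : Subgroup G),
            nConj (Subgroup.one_mem (Subgroup.normalizer ((P : Subgroup G) : Set G))) μ = μ := fun μ =>
          Subtype.ext (funext fun c => congrArg (μ : ↥(P : Subgroup G) → ℂ) (Subtype.ext (by simp)))
        rwa [hone, hone] at this
      · refine ⟨nConj (Subgroup.inv_mem _ n.2) ν, Finset.mem_filter.2 ⟨Finset.mem_univ _, ?_⟩, ?_⟩
        · exact sim_trans ⟨(n : G)⁻¹, (stab θ).inv_mem hns, rfl⟩ (Finset.mem_filter.1 hν).2
        · simp only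
          rw [nConj_nConj, nConj_congr _ (Subgroup.one_mem _) (inv_mul_cancel (n : G))]
          exact Subtype.ext (funext fun c => congrArg (ν : ↥(P : Subgroup G) → ℂ) (Subtype.ext (by simp)))
      · rw [(S.rowY η hη ν (sim_ne_one h (Finset.mem_filter.1 hν).2 (S.neY η hη))).1
          (Finset.mem_filter.1 hν).2, K.resH_cConj θ n.2, hθ1, mul_one],
      Finset.sum_const, Finset.card_univ, ← Nat.card_eq_fintype_card, hstab, nsmul_eq_mul]
  have hsumY : ∀ x ∈ (P : Subgroup G), x ≠ 1 → ∑ η ∈ Y, (η : G → ℂ) x = ((-ε : ℤ) : ℂ) := by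
    intro x hx hx1
    rw [Finset.sum_congr rfl fun η hη => hηval η hη ⟨x, hx⟩ hx1, ← Finset.mul_sum, hfib,
      sum_nontriv h (x := ⟨x, hx⟩) hx1]
    push_cast
    ring
  obtain ⟨η₀, hη₀⟩ := S.nonempty_Y K.hP
  obtain ⟨x₀, hx₀, hx₀1⟩ := exists_mem_ne P K.hP
  have hom : ∀ χ ∈ B, (χ : G → ℂ) x₀ ≠ 0 → omega χ = resH K.hH θ := by
    intro χ hχ hne
    funext w
    have h1 := hval χ hχ ⟨x₀, hx₀⟩ hx₀1 w
    rw [K.apply_mul] at h1
    exact mul_right_cancel₀ hne h1
  have hregH : ∀ w : H, ¬ p ∣ orderOf (w : G) := fun w hd =>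
    compl_not_dvd h K.hH (hd.trans (Subgroup.orderOf_dvd_natCard H w.2))
  have hregone : ¬ p ∣ orderOf (1 : G) := by rw [orderOf_one]; exact hp.not_dvd_one
  have hεne : ((-ε : ℤ) : ℂ) ≠ 0 := by rcases S.hε with e | e <;> rw [e] <;> norm_num
  have hδne : ∀ χ ∈ X, ((-av χ : ℤ) : ℂ) ≠ 0 := fun χ hχ => by
    rcases S.ha χ hχ with e | e <;> rw [e] <;> norm_num
  have homY : ∀ η ∈ Y, omega η = resH K.hH θ := by
    intro η hη
    obtain ⟨η₁, hη₁, hne⟩ := Finset.exists_ne_zero_of_sum_ne_zero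
      (show ∑ η' ∈ Y, (η' : G → ℂ) x₀ ≠ 0 by rw [hsumY x₀ hx₀ hx₀1]; exact hεne)
    rw [← hom η₁ (S.mem_Y hη₁) hne]
    funext w
    rw [omega, omega, S.agree hM hr hη hη₁ (hregH w), S.agree hM hr hη hη₁ hregone]
  have homX : ∀ χ ∈ X, omega χ = resH K.hH θ := fun χ hχ =>
    hom χ (S.mem_X hχ) (by rw [hvalX χ hχ x₀ hx₀ hx₀1]; exact hδne χ hχ)
  have hdegX : ∀ χ ∈ X, (charDegree (χ : G → ℂ) : ℤ) ≡ -av χ [ZMOD p] := by
    intro χ hχ
    have h1 := S.degX hM hr hχ
    rw [he, hqN, hd, show (2 : ℕ) / 2 * 1 = 1 from rfl, Nat.cast_one, mul_one] at h1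
    exact h1
  have hdegY : ∀ η ∈ Y, (charDegree (η : G → ℂ) : ℤ) ≡ -(2 * -ε) [ZMOD p] := by
    intro η hη
    have h1 := S.degY hM hr hη
    rw [hqN, hd] at h1
    rwa [show -(2 * -ε) = ε * ((2 * 1 : ℕ) : ℤ) by push_cast; ring]
  have hnorm : ∀ x : (P : Subgroup G), (x : G) ≠ 1 →
      ∑ η ∈ Y, (η : G → ℂ) x * conj ((η : G → ℂ) x) = (p : ℂ) - 2 := by
    intro x hx
    have hx2 : ((x * x : (P : Subgroup G)) : G) ≠ 1 := fun e => by
      rw [Subgroup.coe_mul, ← sq] at e
      have h7 := orderOf_dvd_of_pow_eq_one e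
      rw [orderOf_mem P K.hP x.2 hx] at h7
      have := Nat.le_of_dvd two_pos h7
      have := K.hp5
      omega
    have key : ∀ η ∈ Y, (η : G → ℂ) x * conj ((η : G → ℂ) x) =
        (∑ ν ∈ Sim' (τ η), (ν : ↥(P : Subgroup G) → ℂ) (x * x)) + 2 := by
      intro η hη
      have hτ' : nConj hzN (τ η) ∈ Sim' (τ η) :=
        Finset.mem_filter.2 ⟨Finset.mem_univ _, z, hstab.ge hzN, rfl⟩
      have hne : τ η ≠ nConj hzN (τ η) := fun e => hzC (stab_of_fix h hzN (S.neY η hη) e.symm)
      have hset : Sim' (τ η) = {τ η, nConj hzN (τ η)} := by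
        symm
        refine Finset.eq_of_subset_of_card_le (fun ν hν => ?_) ?_
        · rw [Finset.mem_insert, Finset.mem_singleton] at hν
          rcases hν with rfl | rfl
          · exact Finset.mem_filter.2 ⟨Finset.mem_univ _, sim_refl θ _⟩
          · exact hτ'
        rw [Finset.card_pair hne, card_sim h (S.neY η hη), he]
      have hconj : ∀ y : (P : Subgroup G), (nConj hzN (τ η) : ↥(P : Subgroup G) → ℂ) y =
          conj ((τ η : ↥(P : Subgroup G) → ℂ) y) := by
        intro y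
        rw [← irr_inv]
        exact congrArg (τ η : ↥(P : Subgroup G) → ℂ) (Subtype.ext (hinv y y.2))
      obtain ⟨l, hl⟩ := exists_hom_of_degree_one (isCharacter_of_irr (τ η).2) (irrP_one h (τ η))
      have hunit : (τ η : ↥(P : Subgroup G) → ℂ) x * conj ((τ η : ↥(P : Subgroup G) → ℂ) x) = 1 := by
        rw [← irr_inv, hl]
        simp only
        rw [← Units.val_mul, ← map_mul, mul_inv_cancel, map_one, Units.val_one]
      have hsq : (τ η : ↥(P : Subgroup G) → ℂ) (x * x) =
          (τ η : ↥(P : Subgroup G) → ℂ) x * (τ η : ↥(P : Subgroup G) → ℂ) x := by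
        rw [hl]; simp only; rw [map_mul, Units.val_mul]
      rw [hηval η hη x hx, hset, Finset.sum_pair hne, Finset.sum_pair hne, hconj, hconj, hsq, map_mul,
        map_intCast, map_add, Complex.conj_conj, map_mul]
      have hε2 : (ε : ℂ) * ε = 1 := by rcases S.hε with e | e <;> rw [e] <;> norm_num
      linear_combination ((τ η : ↥(P : Subgroup G) → ℂ) x + conj ((τ η : ↥(P : Subgroup G) → ℂ) x)) ^ 2 *
        hε2 + 2 * hunit
    rw [Finset.sum_congr rfl key, Finset.sum_add_distrib, hfib, sum_nontriv h hx2, Finset.sum_const,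
      nsmul_eq_mul]
    have h1 : ((Y.card * 2 : ℕ) : ℂ) = ((p - 1 : ℕ) : ℂ) := by rw [← he]; exact congrArg _ S.cardY
    rw [Nat.cast_sub hp.one_le] at h1
    push_cast at h1
    linear_combination h1
  refine ⟨a, b, Y, -av a, -av b, -ε,
    { hab := hab
      haY := Finset.disjoint_left.1 S.disj haX
      hbY := Finset.disjoint_left.1 S.disj hbX
      cardY := by
        have := S.cardY
        rw [he] at this
        have := K.hp5
        omega
      hδa := by rcases S.ha a haX with e | e <;> simp [e]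
      hδb := by rcases S.ha b hbX with e | e <;> simp [e]
      hσ := by rcases S.hε with e | e <;> simp [e]
      omA := homX a haX
      omB := homX b hbX
      omY := homY
      degA := hdegX a haX
      degB := hdegX b hbX
      degY := hdegY
      valA := hvalX a haX
      valB := hvalX b hbX
      sumY := hsumY
      singY := fun η hη => ?_
      agree := fun η hη η' hη' g hg => S.agree hM hr hη hη' hg
      relation := fun η hη g hg => ?_
      vanish := fun χ hχ hχa hχb hχY x hx hx1 => ?_ }, hmem⟩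
  · have h1 := sum_singular hM h K.hH hr (S.mem_Y hη)
    have hsum : ∑ ν ∈ Finset.univ.erase (oneP (P : Subgroup G)), ddz h K.hH θ η ν = ε * 2 := by
      rw [← Finset.sum_subset (s₁ := Finset.univ.filter fun ν => Sim θ ν (τ η))
        (fun ν hν => Finset.mem_erase.2 ⟨sim_ne_one h (Finset.mem_filter.1 hν).2 (S.neY η hη), Finset.mem_univ _⟩)
        (fun ν hν hn => (S.rowY η hη ν (Finset.ne_of_mem_erase hν)).2 fun hs =>
          hn (Finset.mem_filter.2 ⟨Finset.mem_univ _, hs⟩)),
        Finset.sum_congr rfl fun ν hν => (S.rowY η hη ν (sim_ne_one h (Finset.mem_filter.1 hν).2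
          (S.neY η hη))).1 (Finset.mem_filter.1 hν).2, Finset.sum_const, card_sim h (S.neY η hη), he,
        nsmul_eq_mul, mul_comm]
      rfl
    rw [hsum, hstab, Subgroup.relIndex_self, hd, one_mul, Nat.cast_one] at h1
    have e : singSum P η = ∑ x ∈ Finset.univ.erase (1 : (P : Subgroup G)), (η : G → ℂ) x := by
      rw [singSum, ← Finset.filter_ne', Finset.sum_filter]
      refine Finset.sum_congr (by congr 1; exact Subsingleton.elim _ _) fun x _ => ?_
      split_ifs <;> first | rfl | contradiction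
    rw [e, h1]
    push_cast
    ring
  · have h1 := S.relation hM hr hη hg
    rw [hX, Finset.sum_pair hab] at h1
    push_cast
    linear_combination -h1
  · have h1 := K.sum_sq hx hx1 (μ := resH K.hH θ) (homX a haX ▸ K.omega_irr a) hθ1
    have hsub : insert a (insert b Y) ⊆ Finset.univ.filter fun χ : IrrCharacter G => omega χ = resH K.hH θ := by
      intro ψ hψ
      simp only [Finset.mem_insert] at hψ
      refine Finset.mem_filter.2 ⟨Finset.mem_univ _, ?_⟩
      rcases hψ with rfl | rfl | hψ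
      exacts [homX _ haX, homX _ hbX, homY _ hψ]
    have hanY : a ∉ insert b Y := by
      simp only [Finset.mem_insert, not_or]
      exact ⟨hab, Finset.disjoint_left.1 S.disj haX⟩
    rw [← Finset.sum_sdiff hsub, Finset.sum_insert hanY,
      Finset.sum_insert (Finset.disjoint_left.1 S.disj hbX), hvalX a haX x hx hx1, hvalX b hbX x hx hx1,
      hnorm ⟨x, hx⟩ hx1, map_intCast, map_intCast] at h1
    have hsq : ∀ ψ ∈ X, ((-av ψ : ℤ) : ℂ) * ((-av ψ : ℤ) : ℂ) = 1 := fun ψ hψ => by
      rcases S.ha ψ hψ with e | e <;> rw [e] <;> norm_num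
    rw [hsq a haX, hsq b hbX] at h1
    have h2 : ∑ ψ ∈ (Finset.univ.filter fun χ : IrrCharacter G => omega χ = resH K.hH θ) \ insert a (insert b Y),
        (ψ : G → ℂ) x * conj ((ψ : G → ℂ) x) = 0 := by linear_combination h1
    simp only [Complex.mul_conj', ← Complex.ofReal_pow] at h2
    rw [← Complex.ofReal_sum, Complex.ofReal_eq_zero] at h2
    have h3 := (Finset.sum_eq_zero_iff_of_nonneg fun ψ _ => sq_nonneg _).1 h2 χ (by
      simp [hχ, hχa, hχb, hχY])
    exact norm_eq_zero.1 (pow_eq_zero_iff two_ne_zero |>.1 h3)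

end CfsgLib.SmallSylow.PredTwo
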