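import Cfsg.Agent.Lib.SmallSylow.PredTwo.Quad
import Cfsg.Agent.Lib.SmallSylow.PredTwo.Dynamics
import Cfsg.Agent.Lib.SmallSylow.Apply

/-!
# A perfect group with a faithful irreducible character of degree `p - 2`
-/

namespace CfsgLib.SmallSylow.PredTwo

open Cfsg CfsgLib.Blocks CfsgLib.Blocks.DefectOne CfsgLib.CharTheory CfsgLib.CharTheory.SmallDegree
open scoped ComplexConjugate

set_option linter.unusedVariables false
set_option linter.style.haveILetI false
set_option linter.unusedSectionVars false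

universe u

variable {G : Type u} [Group G] [Fintype G] {p : ℕ} [Fact p.Prime] {P : Sylow p G}

theorem exists_rep_faithful {ζ : IrrCharacter G}
    (hfaith : ∀ g : G, (ζ : G → ℂ) g = (ζ : G → ℂ) 1 → g = 1)
    (hdeg : charDegree (ζ : G → ℂ) = p - 2) :
    ∃ R : Representation ℂ G (Fin (p - 2) → ℂ), Function.Injective R := by
  obtain ⟨n, R, hR, hRχ⟩ := ζ.2
  have hn : n = p - 2 := by
    rw [← hdeg]
    apply Nat.cast_injective (R := ℂ)
    rw [irr_charDegree_cast, ← hRχ, Representation.char_one, Module.finrank_fin_fun]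
  subst hn
  refine ⟨R, fun g g' hg => ?_⟩
  have h1 : (ζ : G → ℂ) (g⁻¹ * g') = (ζ : G → ℂ) 1 := by
    rw [← hRχ, Representation.character, Representation.character, map_mul, ← hg, ← map_mul,
      inv_mul_cancel]
  exact inv_mul_eq_one.1 (hfaith _ h1)

/-- The perfect case. -/
theorem Ctx.perfect_case {H : Subgroup G} (K : Ctx p P H) (hperf : commutator G = ⊤) {ζ : IrrCharacter G}
    (hfaith : ∀ g : G, (ζ : G → ℂ) g = (ζ : G → ℂ) 1 → g = 1)
    (hdeg : charDegree (ζ : G → ℂ) = p - 2) :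
    ∃ (m : ℕ) (F : Type) (_ : Field F) (_ : Fintype F), Fintype.card F = 2 ^ m ∧ p = 2 ^ m + 1 ∧
      Nonempty (G ≃* Matrix.SpecialLinearGroup (Fin 2) F) := by
  classical
  have hp : p.Prime := Fact.out
  have hp5 := K.hp5
  obtain rfl := K.H_eq_bot hperf hfaith hdeg
  obtain ⟨z, hz, hzN, hzC, hinv⟩ := K.exists_inverting
  obtain ⟨c, hc1, hreal, hcz, hζ, hquad, hcount⟩ := K.exists_char hperf hdeg hz hzN hzC hinv
  obtain ⟨h, hh⟩ := hp.odd_of_ne_two (by omega)
  have hh3 : 3 ≤ h := by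
    rcases Nat.lt_or_ge h 3 with h' | h'
    · omega
    · exact h'
  have hph : (p : ℂ) - 1 = 2 * (h : ℂ) := by rw [hh]; push_cast; ring
  have hcenP : Nat.card (Subgroup.centralizer ((P : Subgroup G) : Set G)) = p := by
    rw [K.card_cen, Subgroup.card_bot, mul_one]
  have hreg : ∀ g, g * z = z * g → ¬ p ∣ orderOf g := by
    intro g hg hd
    set y := g ^ (orderOf g / p)
    have hy : orderOf y = p :=
      (orderOf_pow_of_dvd (Nat.div_pos (Nat.le_of_dvd (orderOf_pos g) hd) hp.pos).ne'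
        (Nat.div_dvd_of_dvd hd)).trans (Nat.div_div_self hd (orderOf_pos g).ne')
    have hyz : Commute y z := Commute.pow_left hg _
    obtain ⟨Q, hQ⟩ := (IsPGroup.of_card (n := 1)
      (show Nat.card (Subgroup.zpowers y) = p ^ 1 by rw [Nat.card_zpowers, hy, pow_one])).exists_le_sylow
    obtain ⟨a, ha⟩ := MulAction.exists_smul_eq G Q P
    have hx : a * y * a⁻¹ ∈ (P : Subgroup G) := by
      rw [← ha, Sylow.coe_subgroup_smul]
      exact Subgroup.smul_mem_pointwise_smul _ (MulAut.conj a) _ (hQ (Subgroup.mem_zpowers y))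
    have hx1 : a * y * a⁻¹ ≠ 1 := fun e => by
      rw [mul_inv_eq_one, mul_eq_left] at e
      rw [e, orderOf_one] at hy
      exact hp.one_lt.ne hy
    have hw : a * z * a⁻¹ ∈ Subgroup.centralizer ((P : Subgroup G) : Set G) := by
      rw [← centralizer_eq P K.hP hx hx1, Subgroup.mem_centralizer_singleton_iff]
      calc a * z * a⁻¹ * (a * y * a⁻¹) = a * (z * y) * a⁻¹ := by group
        _ = a * (y * z) * a⁻¹ := by rw [hyz.eq]
        _ = a * y * a⁻¹ * (a * z * a⁻¹) := by group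
    have h2 := Subgroup.orderOf_dvd_natCard _ hw
    rw [hcenP, show a * z * a⁻¹ = MulAut.conj a z from rfl, MulEquiv.orderOf_eq, hz] at h2
    have := (Nat.prime_dvd_prime_iff_eq Nat.prime_two hp).1 h2
    omega
  have hfaith' : ∀ g, ¬ p ∣ orderOf g → (c : G → ℂ) g = (c : G → ℂ) 1 → g = 1 := fun g hg e =>
    hfaith g (by rw [hζ g hg, hζ 1 not_dvd_orderOf_one, e])
  have hquad' : ∀ g, ¬ p ∣ orderOf g → (c : G → ℂ) (g * g) =
      (c : G → ℂ) g ^ 2 - 2 * (h : ℂ) * (c : G → ℂ) g + 2 * (h : ℂ) := fun g hg => by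
    rw [hquad g hg, hph]
  set C := Subgroup.centralizer ({z} : Set G)
  have hvan : ∀ g ∈ C, g ≠ 1 → (c : G → ℂ) g = 0 := fun g hg hg1 =>
    value_eq_zero hh hh3 (isCharacter_of_irr c.2) hreal (hc1.trans hph) hz hcz hreg hquad' hfaith'
      (Subgroup.mem_centralizer_singleton_iff.1 hg) hg1
  -- the order of the centralizer
  obtain ⟨k, hk⟩ : ∃ k, p - 1 = Nat.card C * k := by
    haveI : Fintype C := Fintype.ofFinite _
    obtain ⟨k, hk⟩ := classInner_char_nat (isCharacter_restrict (isCharacter_of_irr c.2) C)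
      (isCharacter_one (G := C))
    simp only [classInner, map_one, mul_one] at hk
    rw [Finset.sum_eq_single (1 : C) (fun g _ hg1 => hvan g g.2 fun e => hg1 (Subtype.ext e))
        (fun h' => absurd (Finset.mem_univ _) h'),
      Subgroup.coe_one, hc1, inv_mul_eq_iff_eq_mul₀ (Nat.cast_ne_zero.2 Nat.card_pos.ne')] at hk
    refine ⟨k, ?_⟩
    apply Nat.cast_injective (R := ℂ)
    rw [Nat.cast_sub hp.one_le, Nat.cast_mul, Nat.cast_one, hk]
  have hcle : Nat.card C ≤ p - 1 := Nat.le_of_dvd (by omega) ⟨k, hk⟩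
  have hcountN : Nat.card G * (p - 1) = p * (p - 2) * Nat.card C ^ 2 := by
    apply Nat.cast_injective (R := ℂ)
    rw [Nat.cast_mul, Nat.cast_mul, Nat.cast_mul, Nat.cast_sub hp.one_le, Nat.cast_sub hp.two_le, Nat.cast_pow]
    simp only [Nat.cast_ofNat, Nat.cast_one]
    exact hcount
  obtain ⟨n, hn, hn0⟩ := exists_count P
  have hn1 : 1 ≤ n := Nat.one_le_iff_ne_zero.2 fun h0 => not_normal_of_perfect hperf P K.hP (hn0 h0)
  have hG : Nat.card G = p * 2 * (n * p + 1) := by
    rw [card_eq_mul P, hn, hcenP, K.hq]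
  have h2n : 2 * n ≤ p + 1 := by
    obtain ⟨q, hq⟩ : ∃ q, p = q + 2 := ⟨p - 2, by omega⟩
    rw [show p - 1 = q + 1 by omega] at hcle hcountN
    rw [show p - 2 = q by omega] at hcountN
    have h1 : Nat.card G * (q + 1) ≤ p * q * (q + 1) * (q + 1) := by
      rw [hcountN]
      calc p * q * Nat.card C ^ 2 ≤ p * q * (q + 1) ^ 2 :=
            Nat.mul_le_mul_left _ (Nat.pow_le_pow_left hcle 2)
        _ = _ := by ring
    have h2 := Nat.le_of_mul_le_mul_right h1 (Nat.succ_pos q)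
    rw [hG, mul_assoc p 2, mul_assoc p q] at h2
    have h3 := Nat.le_of_mul_le_mul_left (by linarith : p * (2 * (n * p + 1)) ≤ p * (q * (q + 1))) hp.pos
    by_contra hlt
    push Not at hlt
    have h4 : (p + 2) * p ≤ 2 * n * p := Nat.mul_le_mul_right _ (by omega)
    subst hq
    nlinarith
  obtain ⟨R, hR⟩ := exists_rep_faithful hfaith hdeg
  have hcore : ∀ L : Subgroup G, L.Normal → ¬ p ∣ Nat.card L → L = ⊥ := by
    intro L hL hLp
    obtain ⟨x₀, hx₀, hx₀1⟩ := exists_mem_ne P K.hP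
    have hcomm := SmallRep.commute_of_small hR (K.pow_card hx₀) (by omega) _ L rfl hLp
      (fun l hl => hL.conj_mem l hl x₀)
    have hle : L ≤ Subgroup.centralizer ((P : Subgroup G) : Set G) := fun l hl => by
      rw [← centralizer_eq P K.hP hx₀ hx₀1, Subgroup.mem_centralizer_singleton_iff]
      exact (hcomm l hl).symm
    have h1 := Subgroup.card_dvd_of_le hle
    rw [hcenP] at h1
    rcases (Nat.dvd_prime hp).1 h1 with h2 | h2
    · exact Subgroup.eq_bot_of_card_eq _ h2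
    · exact absurd (h2 ▸ dvd_refl p) hLp
  obtain ⟨-, h'⟩ := brauer_small_sylow_number hperf P K.hP hn hn1 (Arith.notForm_of_le h2n) hcore
  refine h'.resolve_left ?_
  rintro ⟨e⟩
  haveI : NeZero p := ⟨hp.ne_zero⟩
  have h5 := SLCard.gcd_mul_card_PSL (F := ZMod p) (n := 2) (by norm_num)
  rw [SLCard.card_SL_two, ZMod.card, ← Nat.card_congr e.toEquiv,
    show Nat.gcd 2 (p - 1) = 2 from Nat.gcd_eq_left ⟨h, by omega⟩] at h5
  have hdvd : (p : ℤ) - 2 ∣ 3 := by
    have hZ : (Nat.card G : ℤ) * ((p : ℤ) - 1) = (p : ℤ) * ((p : ℤ) - 2) * (Nat.card C : ℤ) ^ 2 := by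
      have := congrArg (fun t : ℕ => (t : ℤ)) hcountN
      push_cast [Nat.cast_sub hp.one_le, Nat.cast_sub hp.two_le] at this
      exact this
    have h5' : 2 * (Nat.card G : ℤ) = (p : ℤ) * ((p : ℤ) ^ 2 - 1) := by
      have := congrArg (fun t : ℕ => (t : ℤ)) h5
      push_cast [Nat.cast_sub (Nat.one_le_pow 2 p hp.pos)] at this
      exact this
    have h6 : ((p : ℤ) ^ 2 - 1) * ((p : ℤ) - 1) = 2 * ((p : ℤ) - 2) * (Nat.card C : ℤ) ^ 2 := by
      refine mul_left_cancel₀ (show (p : ℤ) ≠ 0 by exact_mod_cast hp.ne_zero) ?_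
      linear_combination 2 * hZ - ((p : ℤ) - 1) * h5'
    exact ⟨2 * (Nat.card C : ℤ) ^ 2 - ((p : ℤ) ^ 2 + p + 1), by linear_combination h6⟩
  have := Int.le_of_dvd (by norm_num) hdvd
  omega

end CfsgLib.SmallSylow.PredTwo
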