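import Cfsg.Agent.Lib.SmallSylow.PredTwo.Central
import Cfsg.Agent.Lib.CharTheory.AltSquare
import Cfsg.Agent.Lib.CharTheory.Clifford

/-!
# The quadratic identity of the character of degree `p - 1`
-/

namespace CfsgLib.SmallSylow.PredTwo

open Cfsg CfsgLib.Blocks CfsgLib.Blocks.DefectOne CfsgLib.CharTheory CfsgLib.CharTheory.SmallDegree
open scoped ComplexConjugate

set_option linter.unusedVariables false
set_option linter.style.haveILetI false
set_option linter.unusedSectionVars false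

universe u

variable {G : Type u} [Group G] [Fintype G] {p : ℕ} [Fact p.Prime] {P : Sylow p G}

theorem not_dvd_orderOf_mul_self {g : G} (hg : ¬ p ∣ orderOf g) : ¬ p ∣ orderOf (g * g) := fun h =>
  hg (h.trans (by rw [← sq]; exact orderOf_pow_dvd 2))

/-- The character of degree `p - 1`. -/
theorem Ctx.exists_char (K : Ctx p P (⊥ : Subgroup G)) (hperf : commutator G = ⊤) {ζ : IrrCharacter G}
    (hdeg : charDegree (ζ : G → ℂ) = p - 2) {z : G} (hz : orderOf z = 2)
    (hzN : z ∈ Subgroup.normalizer ((P : Subgroup G) : Set G))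
    (hzC : z ∉ Subgroup.centralizer ((P : Subgroup G) : Set G))
    (hinv : ∀ x ∈ (P : Subgroup G), z * x * z⁻¹ = x⁻¹) :
    ∃ c : IrrCharacter G, (c : G → ℂ) 1 = (p : ℂ) - 1 ∧ (∀ g, conj ((c : G → ℂ) g) = (c : G → ℂ) g) ∧
      (c : G → ℂ) z = 0 ∧ (∀ g, ¬ p ∣ orderOf g → (ζ : G → ℂ) g = (c : G → ℂ) g - 1) ∧
      (∀ g, ¬ p ∣ orderOf g → (c : G → ℂ) (g * g) =
        (c : G → ℂ) g ^ 2 - ((p : ℂ) - 1) * (c : G → ℂ) g + ((p : ℂ) - 1)) ∧
      (Nat.card G : ℂ) * ((p : ℂ) - 1) =
        (p : ℂ) * ((p : ℂ) - 2) * (Nat.card (Subgroup.centralizer ({z} : Set G)) : ℂ) ^ 2 := by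
  classical
  have hp : p.Prime := Fact.out
  have hp5 := K.hp5
  haveI : Fintype (⊥ : Subgroup G) := Fintype.ofFinite _
  haveI : Fintype (P : Subgroup G) := Fintype.ofFinite _
  have homega : ∀ χ : IrrCharacter G, omega (H := (⊥ : Subgroup G)) χ = fun _ => 1 := by
    intro χ
    funext w
    rw [Subsingleton.elim w 1]
    exact omega_one χ
  let one' : IrrCharacter G := ⟨fun _ => 1, isIrrCharacter_one⟩
  have hone : charDegree (one' : G → ℂ) = 1 := by
    apply Nat.cast_injective (R := ℂ)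
    rw [irr_charDegree_cast, Nat.cast_one]
  obtain ⟨a, b, Y, ea, eb, σ, hP0, hmem0⟩ := K.exists_pair_of hz hzN hzC hinv one' (by
    rw [hone]; exact hp.not_dvd_one)
  have hp2 : ((p - 2 : ℕ) : ℤ) = (p : ℤ) - 2 := by omega
  have hone0 : one' = a := by
    refine hmem0.resolve_right fun h => ?_
    have h1 := hP0.degY one' h
    rw [hone] at h1
    obtain ⟨k, hk⟩ := h1.dvd
    rcases hP0.hσ with e1 | e1 <;> rw [e1] at hk <;> push_cast at hk
    · have : (p : ℤ) ∣ 3 := ⟨-k, by linarith⟩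
      have := Int.le_of_dvd (by norm_num) this
      omega
    · have : (p : ℤ) ∣ 1 := ⟨k, by linarith⟩
      have := Int.le_of_dvd (by norm_num) this
      omega
  have hea : ea = 1 := by
    refine hP0.hδa.resolve_right fun e => ?_
    have h1 := hP0.degA
    rw [← hone0, hone, e] at h1
    obtain ⟨k, hk⟩ := h1.dvd
    push_cast at hk
    have : (p : ℤ) ∣ 2 := ⟨-k, by linarith⟩
    have := Int.le_of_dvd (by norm_num) this
    omega
  subst hea
  subst hone0
  obtain ⟨x₀, hx₀, hx₀1⟩ := exists_mem_ne P K.hP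
  have hmem : ∀ χ : IrrCharacter G, (∃ x ∈ (P : Subgroup G), x ≠ 1 ∧ (χ : G → ℂ) x ≠ 0) →
      χ = one' ∨ χ = b ∨ χ ∈ Y := by
    rintro χ ⟨x, hx, hx1, hne⟩
    by_contra hcon
    push Not at hcon
    exact hne (hP0.vanish χ ((homega χ).trans (homega one').symm) hcon.1 hcon.2.1 hcon.2.2 x hx hx1)
  have hζ' : ∃ x ∈ (P : Subgroup G), x ≠ 1 ∧ (ζ : G → ℂ) x ≠ 0 := by
    by_contra hcon
    push Not at hcon
    obtain ⟨m, hm⟩ := classInner_char_nat (isCharacter_restrict (isCharacter_of_irr ζ.2) (P : Subgroup G))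
      (isCharacter_one (G := (P : Subgroup G)))
    simp only [classInner, map_one, mul_one] at hm
    rw [← Finset.add_sum_erase _ _ (Finset.mem_univ (1 : (P : Subgroup G))),
      Finset.sum_eq_zero fun (x : (P : Subgroup G)) hx => hcon x x.2 fun e => Finset.ne_of_mem_erase hx (Subtype.ext e),
      add_zero, Subgroup.coe_one, ← irr_charDegree_cast, hdeg,
      show Nat.card (P : Subgroup G) = p from K.hP, inv_mul_eq_iff_eq_mul₀ (Nat.cast_ne_zero.2 hp.ne_zero),
      ← Nat.cast_mul, Nat.cast_inj] at hm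
    have := Nat.le_of_dvd (by omega) (Dvd.intro m hm.symm)
    omega
  have hζY : ζ ∈ Y := by
    rcases hmem ζ hζ' with e | e | e
    · exfalso; rw [e, hone] at hdeg; omega
    · exfalso
      have h1 := hP0.degB
      rw [← e, hdeg, hp2] at h1
      obtain ⟨k, hk⟩ := h1.dvd
      rcases hP0.hδb with e1 | e1 <;> rw [e1] at hk
      · have : (p : ℤ) ∣ 3 := ⟨k + 1, by linarith⟩
        have := Int.le_of_dvd (by norm_num) this
        omega
      · have : (p : ℤ) ∣ 1 := ⟨k + 1, by linarith⟩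
        have := Int.le_of_dvd (by norm_num) this
        omega
    · exact e
  have hσ : σ = 1 := by
    refine hP0.hσ.resolve_right fun e => ?_
    have h1 := hP0.degY ζ hζY
    rw [e, hdeg, hp2] at h1
    obtain ⟨k, hk⟩ := h1.dvd
    have : (p : ℤ) ∣ 4 := ⟨k + 1, by linarith⟩
    have := Int.le_of_dvd (by norm_num) this
    omega
  subst hσ
  have hrel := hP0.degree_rel hζY
  rw [hone, hdeg, hp2] at hrel
  push_cast at hrel
  have heb : eb = -1 := hP0.hδb.resolve_left fun e => by rw [e] at hrel; omega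
  subst heb
  have hfb : (charDegree (b : G → ℂ) : ℤ) = (p : ℤ) - 1 := by linarith
  have hb1 : (b : G → ℂ) 1 = (p : ℂ) - 1 := by
    rw [← irr_charDegree_cast]
    exact_mod_cast hfb
  have hζreg : ∀ g, ¬ p ∣ orderOf g → (ζ : G → ℂ) g = (b : G → ℂ) g - 1 := by
    intro g hg
    have h1 := hP0.relation ζ hζY g hg
    rw [show (one' : G → ℂ) g = 1 from rfl] at h1
    push_cast at h1
    linear_combination h1
  have hY : ∀ η ∈ Y, ∀ g, ¬ p ∣ orderOf g → (η : G → ℂ) g = (b : G → ℂ) g - 1 := fun η hη g hg => by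
    rw [hP0.agree η hη ζ hζY g hg, hζreg g hg]
  -- `b` is real
  have hreal : ∀ g, conj ((b : G → ℂ) g) = (b : G → ℂ) g := by
    let b' : IrrCharacter G := ⟨_, isIrrCharacter_conjChar b.2⟩
    have h1 : (b' : G → ℂ) x₀ ≠ 0 := by
      show conj ((b : G → ℂ) x₀) ≠ 0
      rw [hP0.valB x₀ hx₀ hx₀1, map_intCast]
      norm_num
    have h2 : (b' : G → ℂ) 1 = (p : ℂ) - 1 := by
      show conj ((b : G → ℂ) 1) = _
      rw [hb1, map_sub, map_natCast, map_one]
    rcases hmem b' ⟨x₀, hx₀, hx₀1, h1⟩ with e | e | e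
    · rw [e] at h2
      have h3 : ((2 : ℕ) : ℂ) = (p : ℂ) := by push_cast; change (1 : ℂ) = _ at h2; linear_combination h2
      rw [Nat.cast_inj] at h3
      omega
    · exact fun g => congrArg (fun χ : IrrCharacter G => (χ : G → ℂ) g) e
    · rw [hY _ e 1 not_dvd_orderOf_one, hb1] at h2
      exact absurd h2 (by intro h; exact one_ne_zero (by linear_combination -h : (1 : ℂ) = 0))
  -- `b` at the involution
  obtain ⟨g₀, hg₀⟩ := involution_value (isCharacter_of_irr b.2) hz
  have hbsym : singSum P b = (((-1) * ((p : ℤ) - 1) : ℤ) : ℂ) :=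
    (show Pair K (omega (H := (⊥ : Subgroup G)) one') b one' Y (-1) 1 1 from
      { hab := hP0.hab.symm, haY := hP0.hbY, hbY := hP0.haY, cardY := hP0.cardY,
        hδa := hP0.hδb, hδb := hP0.hδa, hσ := hP0.hσ, omA := hP0.omB, omB := hP0.omA,
        omY := hP0.omY, degA := hP0.degB, degB := hP0.degA, degY := hP0.degY,
        valA := hP0.valB, valB := hP0.valA, sumY := hP0.sumY, singY := hP0.singY,
        agree := hP0.agree,
        relation := fun η hη g hg => by linear_combination hP0.relation η hη g hg,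
        vanish := fun ψ h1 h2 h3 h4 => hP0.vanish ψ h1 h3 h2 h4 }).singA
  have hbz : (b : G → ℂ) z = 0 := by
    have h1 := K.value_bound hz hinv b hbsym hg₀
    rw [hfb] at h1
    have h2 : (p : ℤ) * |g₀| ≤ p * 0 := by linarith
    have h3 := le_of_mul_le_mul_left h2 (by omega)
    rw [abs_nonpos_iff] at h3
    rw [hg₀, h3, Int.cast_zero]
  -- the class sum
  have hsum := K.sum_class hz hzN hzC hinv hx₀ hx₀1 (K.omega_irr one') (omega_one one')
  rw [hP0.class_sum hz hζY hx₀ hx₀1, hbz, hζreg z (not_dvd_orderOf_two hp5 hz), hbz,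
    hζreg 1 not_dvd_orderOf_one, hb1, show (one' : G → ℂ) z = 1 from rfl] at hsum
  have hp20 : (p : ℂ) - 1 - 1 ≠ 0 := by
    rw [sub_sub, sub_ne_zero, one_add_one_eq_two]
    exact_mod_cast (show p ≠ 2 by omega)
  have hcount : (Nat.card G : ℂ) * ((p : ℂ) - 1) =
      (p : ℂ) * ((p : ℂ) - 2) * (Nat.card (Subgroup.centralizer ({z} : Set G)) : ℂ) ^ 2 := by
    rw [Subgroup.card_bot] at hsum
    push_cast at hsum
    field_simp at hsum
    linear_combination hsum
  refine ⟨b, hb1, hreal, hbz, hζreg, ?_, hcount⟩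
  -- the alternating square
  set Λ : G → ℂ := fun g => ((b : G → ℂ) g ^ 2 - (b : G → ℂ) (g * g)) / 2 with hΛdef
  have hΛ : IsCharacter G Λ := isCharacter_altSq (isCharacter_of_irr b.2)
  obtain ⟨-, hcoef⟩ := isCharacter_iff_coeff_nat.1 hΛ
  choose n hn using fun χ : IrrCharacter G => hcoef χ χ.2
  have hexp : ∀ g, Λ g = ∑ χ : IrrCharacter G, (n χ : ℂ) * (χ : G → ℂ) g := by
    intro g
    conv_lhs => rw [eq_sum_irr (isClassFunction_char hΛ)]
    rw [Finset.sum_apply]
    exact Finset.sum_congr rfl fun χ _ => by rw [Pi.smul_apply, smul_eq_mul, hn]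
  have hΛP : ∀ x ∈ (P : Subgroup G), x ≠ 1 → Λ x = 1 := by
    intro x hx hx1
    have hx2 : x * x ≠ 1 := fun e => by
      rw [← sq] at e
      have h7 := orderOf_dvd_of_pow_eq_one e
      rw [orderOf_mem P K.hP hx hx1] at h7
      have := Nat.le_of_dvd two_pos h7
      omega
    simp only [hΛdef]
    rw [hP0.valB x hx hx1, hP0.valB _ (mul_mem hx hx) hx2]
    norm_num
  have hΛ1 : Λ 1 = ((p : ℂ) - 1) * ((p : ℂ) - 2) / 2 := by
    simp only [hΛdef, mul_one, hb1]; ring
  have hΛz : Λ z = -(((p : ℂ) - 1) / 2) := by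
    simp only [hΛdef]
    rw [hbz, show z * z = 1 by rw [← sq]; exact hz ▸ pow_orderOf_eq_one z, hb1]
    ring
  -- the trivial character does not occur
  have hPsum : ∀ F : G → ℂ, ∑ x : (P : Subgroup G), F x =
      F 1 + ∑ x ∈ Finset.univ.erase (1 : (P : Subgroup G)), F x := fun F => by
    rw [← Finset.add_sum_erase _ _ (Finset.mem_univ (1 : (P : Subgroup G))), Subgroup.coe_one]
  have hPcard : ((Finset.univ.erase (1 : (P : Subgroup G))).card : ℂ) = (p : ℂ) - 1 := by
    rw [Finset.card_erase_of_mem (Finset.mem_univ _), Finset.card_univ, ← Nat.card_eq_fintype_card,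
      show Nat.card (P : Subgroup G) = p from K.hP, Nat.cast_sub hp.one_le, Nat.cast_one]
  choose m hm using fun χ : IrrCharacter G => (K.dihedral_sum hz hinv (isCharacter_of_irr χ.2)).1
  have hn1 : n one' = 0 := by
    have h1 : (∑ x : (P : Subgroup G), Λ x) + (p : ℂ) * Λ z = 0 := by
      rw [hPsum, Finset.sum_congr rfl fun (x : (P : Subgroup G)) hx =>
        hΛP x x.2 fun e => Finset.ne_of_mem_erase hx (Subtype.ext e), Finset.sum_const, nsmul_eq_mul,
        hPcard, hΛ1, hΛz]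
      ring
    rw [Finset.sum_congr rfl fun (x : (P : Subgroup G)) _ => hexp x, hexp z, Finset.sum_comm, Finset.mul_sum,
      ← Finset.sum_add_distrib, Finset.sum_congr rfl fun χ _ => show _ = ((n χ * (2 * p * m χ) : ℕ) : ℂ) by
        rw [← Finset.mul_sum, Nat.cast_mul, ← hm χ]; ring, ← Nat.cast_sum, Nat.cast_eq_zero,
      Finset.sum_eq_zero_iff] at h1
    have h2 := h1 one' (Finset.mem_univ _)
    have hm1 : m one' ≠ 0 := by
      intro h0
      have h3 := hm one'
      rw [h0, mul_zero, Nat.cast_zero, show (one' : G → ℂ) z = 1 from rfl, Finset.sum_congr rfl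
        fun (x : (P : Subgroup G)) _ => show (one' : G → ℂ) x = 1 from rfl, Finset.sum_const,
        Finset.card_univ, ← Nat.card_eq_fintype_card, nsmul_eq_mul, mul_one, mul_one,
        show Nat.card (P : Subgroup G) = p from K.hP, ← Nat.cast_add, Nat.cast_eq_zero] at h3
      omega
    exact (mul_eq_zero.1 h2).resolve_right (Nat.mul_ne_zero (Nat.mul_ne_zero two_ne_zero hp.ne_zero) hm1)
  -- the other coefficients
  have hbY : b ∉ Y := hP0.hbY
  have hsplit : ∀ x ∈ (P : Subgroup G), x ≠ 1 → Λ x = -(n b : ℂ) + ∑ η ∈ Y, (n η : ℂ) * (η : G → ℂ) x := by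
    intro x hx hx1
    rw [hexp, ← Finset.sum_subset (Finset.subset_univ (insert b Y)), Finset.sum_insert hbY,
      hP0.valB x hx hx1]
    · push_cast; ring
    · intro χ _ hχ
      by_cases h1 : χ = one'
      · rw [h1, hn1, Nat.cast_zero, zero_mul]
      · simp only [Finset.mem_insert, not_or] at hχ
        rw [hP0.vanish χ ((homega χ).trans (homega one').symm) h1 hχ.1 hχ.2 x hx hx1, mul_zero]
  have hNY : ((∑ η ∈ Y, n η : ℕ) : ℂ) * 2 = ((p : ℂ) - 1) * (1 + (n b : ℂ)) := by
    have h1 : ∑ x ∈ Finset.univ.erase (1 : (P : Subgroup G)), Λ x = (p : ℂ) - 1 := by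
      rw [Finset.sum_congr rfl fun (x : (P : Subgroup G)) hx =>
        hΛP x x.2 fun e => Finset.ne_of_mem_erase hx (Subtype.ext e), Finset.sum_const, nsmul_eq_mul,
        hPcard, mul_one]
    have hs : ∀ η ∈ Y, ∑ x ∈ Finset.univ.erase (1 : (P : Subgroup G)), (η : G → ℂ) x = 2 := by
      intro η hη
      have h2 := sum_eq_add_singSum (P := P) η
      rw [hPsum, hP0.singY η hη, add_right_inj] at h2
      rw [h2]; norm_num
    rw [Finset.sum_congr rfl fun (x : (P : Subgroup G)) hx =>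
        hsplit x x.2 fun e => Finset.ne_of_mem_erase hx (Subtype.ext e), Finset.sum_add_distrib,
      Finset.sum_const, nsmul_eq_mul, hPcard, Finset.sum_comm,
      Finset.sum_congr rfl fun η hη => show _ = (n η : ℂ) * 2 by rw [← Finset.mul_sum, hs η hη],
      ← Finset.sum_mul] at h1
    push_cast
    linear_combination h1
  set T : Finset (IrrCharacter G) := (insert b Y)ᶜ
  have hdegΛ : ((p : ℂ) - 1) * ((p : ℂ) - 2) / 2 = (n b : ℂ) * ((p : ℂ) - 1) +
      ((∑ η ∈ Y, n η : ℕ) : ℂ) * ((p : ℂ) - 2) + ((∑ χ ∈ T, n χ * charDegree (χ : G → ℂ) : ℕ) : ℂ) := by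
    rw [← hΛ1, hexp, ← Finset.sum_add_sum_compl (insert b Y), Finset.sum_insert hbY, hb1,
      Finset.sum_congr (s₁ := Y) rfl fun η hη => show _ = (n η : ℂ) * ((p : ℂ) - 2) by
        rw [hY η hη 1 not_dvd_orderOf_one, hb1]; ring,
      ← Finset.sum_mul, Nat.cast_sum, Nat.cast_sum]
    congr 1
    exact Finset.sum_congr rfl fun χ _ => by rw [Nat.cast_mul, irr_charDegree_cast]
  have hzero : (n b : ℂ) * (((p : ℂ) - 1) + ((p : ℂ) - 1) * ((p : ℂ) - 2) / 2) +
      ((∑ χ ∈ T, n χ * charDegree (χ : G → ℂ) : ℕ) : ℂ) = 0 := by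
    linear_combination -hdegΛ - ((p : ℂ) - 2) / 2 * hNY
  have hzero' : ((n b * ((p - 1) * p) + 2 * ∑ χ ∈ T, n χ * charDegree (χ : G → ℂ) : ℕ) : ℂ) = 0 := by
    rw [Nat.cast_add, Nat.cast_mul, Nat.cast_mul, Nat.cast_mul, Nat.cast_sub hp.one_le]
    push_cast at hzero ⊢
    linear_combination 2 * hzero
  rw [Nat.cast_eq_zero, add_eq_zero] at hzero'
  have hnb : n b = 0 := (mul_eq_zero.1 hzero'.1).resolve_right
    (Nat.mul_pos (by omega) hp.pos).ne'
  have hT : ∀ χ ∈ T, n χ = 0 := fun χ hχ => by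
    have h1 := Finset.sum_eq_zero_iff.1 (show ∑ χ ∈ T, n χ * charDegree (χ : G → ℂ) = 0 by omega) χ hχ
    exact (mul_eq_zero.1 h1).resolve_right fun h0 => irr_one_ne_zero χ (by
      rw [← irr_charDegree_cast, h0, Nat.cast_zero])
  intro g hg
  have hg' : Λ g = ((p : ℂ) - 1) / 2 * ((b : G → ℂ) g - 1) := by
    rw [hexp, ← Finset.sum_add_sum_compl (insert b Y), Finset.sum_insert hbY, hnb,
      Finset.sum_eq_zero (s := (insert b Y)ᶜ) fun χ hχ => by rw [hT χ hχ, Nat.cast_zero, zero_mul],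
      Finset.sum_congr (s₁ := Y) rfl fun η hη => show _ = (n η : ℂ) * ((b : G → ℂ) g - 1) by
        rw [hY η hη g hg], ← Finset.sum_mul, ← Nat.cast_sum]
    rw [hnb, Nat.cast_zero] at hNY
    push_cast at hNY ⊢
    linear_combination ((b : G → ℂ) g - 1) / 2 * hNY
  simp only [hΛdef] at hg'
  linear_combination -2 * hg'

end CfsgLib.SmallSylow.PredTwo
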