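import Cfsg.Agent.Lib.SmallSylow.PredTwo.Local
import Cfsg.Agent.Lib.Blocks.DefectZeroCount

/-!
# Inertial index two with central complement: the blocks of full defect
-/

namespace CfsgLib.SmallSylow.PredTwo

open Cfsg CfsgLib.Blocks CfsgLib.Blocks.DefectOne CfsgLib.CharTheory CfsgLib.CharTheory.SmallDegree
open scoped ComplexConjugate

set_option linter.unusedVariables false
set_option linter.style.haveILetI false
set_option linter.unusedSectionVars false

universe u

noncomputable local instance normFintype' {G : Type u} [Group G] [Fintype G] (P : Subgroup G) :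
    Fintype (Subgroup.normalizer (P : Set G)) :=
  Fintype.ofFinite _

/-- The standing hypotheses. -/
structure Ctx {G : Type u} [Group G] [Fintype G] (p : ℕ) [Fact p.Prime] (P : Sylow p G)
    (H : Subgroup G) : Prop where
  hp5 : 5 < p
  hP : Nat.card P = p
  hH : Compl (P : Subgroup G) H
  hZ : H ≤ Subgroup.center G
  hq : inIdx P = 2
  hodd : Odd (Nat.card H)

variable {G : Type u} [Group G] [Fintype G] {p : ℕ} [Fact p.Prime] {P : Sylow p G} {H : Subgroup G}

theorem Ctx.setup (K : Ctx p P H) : Setup p (P : Subgroup G) := setup_sylow P K.hP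

theorem Ctx.card_cen (K : Ctx p P H) :
    Nat.card (Subgroup.centralizer ((P : Subgroup G) : Set G)) = p * Nat.card H := by
  have h := K.hH.card
  rw [show Nat.card (P : Subgroup G) = p from K.hP] at h
  exact h.symm

theorem Ctx.eq_one_of_sq (K : Ctx p P H) {w : G} (hw : w ∈ H) (h : w * w = 1) : w = 1 := by
  have h1 : orderOf w ∣ Nat.card H := Subgroup.orderOf_dvd_natCard H hw
  have h2 : orderOf w ∣ 2 := orderOf_dvd_of_pow_eq_one (by rw [sq, h])
  rcases (Nat.dvd_prime Nat.prime_two).1 h2 with h3 | h3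
  · exact orderOf_eq_one_iff.1 h3
  · exact absurd K.hodd (Nat.not_odd_iff_even.2 (even_iff_two_dvd.2 (h3 ▸ h1)))

theorem Ctx.commH (K : Ctx p P H) {w : G} (hw : w ∈ H) (g : G) : g * w = w * g :=
  Subgroup.mem_center_iff.1 (K.hZ hw) g

theorem Ctx.pow_card (K : Ctx p P H) {x : G} (hx : x ∈ (P : Subgroup G)) : x ^ p = 1 := by
  have := pow_card_eq_one' (G := (P : Subgroup G)) (x := ⟨x, hx⟩)
  rw [show Nat.card (P : Subgroup G) = p from K.hP] at this
  exact congrArg Subtype.val this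

theorem Ctx.exists_inverting (K : Ctx p P H) :
    ∃ z : G, orderOf z = 2 ∧ z ∈ Subgroup.normalizer ((P : Subgroup G) : Set G) ∧
      z ∉ Subgroup.centralizer ((P : Subgroup G) : Set G) ∧
      ∀ x ∈ (P : Subgroup G), z * x * z⁻¹ = x⁻¹ := by
  have hp : p.Prime := Fact.out
  set C := Subgroup.centralizer ((P : Subgroup G) : Set G)
  set N := Subgroup.normalizer ((P : Subgroup G) : Set G)
  have hCN : C ≤ N := Subgroup.centralizer_le_normalizer _
  have hN : Nat.card N = p * Nat.card H * 2 := by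
    have h1 := Subgroup.card_mul_index (C.subgroupOf N)
    rw [Nat.card_congr (Subgroup.subgroupOfEquivOfLe hCN).toEquiv, K.card_cen] at h1
    rw [← h1]
    exact congrArg _ K.hq
  haveI : Fact (Nat.Prime 2) := ⟨Nat.prime_two⟩
  obtain ⟨⟨z, hz⟩, hzo⟩ := exists_prime_orderOf_dvd_card' (G := N) 2 (hN ▸ dvd_mul_left 2 _)
  rw [← Subgroup.orderOf_coe] at hzo
  have hzC : z ∉ C := fun hzC => by
    have h1 : 2 ∣ p * Nat.card H := by
      rw [← K.card_cen, ← hzo]
      exact Subgroup.orderOf_dvd_natCard C hzC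
    rcases Nat.prime_two.dvd_mul.1 h1 with h2 | h2
    · have := (Nat.prime_dvd_prime_iff_eq Nat.prime_two hp).1 h2
      have := K.hp5
      omega
    · exact absurd K.hodd (Nat.not_odd_iff_even.2 (even_iff_two_dvd.2 h2))
  refine ⟨z, hzo, hz, hzC, fun x hx => ?_⟩
  have hz2 : z * z = 1 := by
    rw [← sq]
    exact hzo ▸ pow_orderOf_eq_one z
  have hzi : z⁻¹ = z := inv_eq_of_mul_eq_one_right hz2
  have hzx : z * x * z⁻¹ ∈ (P : Subgroup G) := (Subgroup.mem_normalizer_iff.1 hz x).1 hx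
  by_contra hne
  set m := x * (z * x * z⁻¹) with hm
  have hm1 : m ≠ 1 := fun e => hne (eq_inv_of_mul_eq_one_right e)
  have hfix : z * m * z⁻¹ = m := by
    have h2 : z * (z * x * z⁻¹) * z⁻¹ = x := by
      rw [hzi, show z * (z * x * z) * z = (z * z) * x * (z * z) by group, hz2, one_mul, mul_one]
    rw [hm, show z * (x * (z * x * z⁻¹)) * z⁻¹ = (z * x * z⁻¹) * (z * (z * x * z⁻¹) * z⁻¹) by group, h2]
    exact K.setup.comm hzx hx
  exact hzC (K.setup.free (mul_mem hx hzx) hm1 hfix)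

/-- The involutions of the normalizer outside the centralizer. -/
theorem Ctx.reflection (K : Ctx p P H) {z : G} (hz : orderOf z = 2)
    (hzN : z ∈ Subgroup.normalizer ((P : Subgroup G) : Set G))
    (hzC : z ∉ Subgroup.centralizer ((P : Subgroup G) : Set G))
    (hinv : ∀ x ∈ (P : Subgroup G), z * x * z⁻¹ = x⁻¹) {a : G}
    (haN : a ∈ Subgroup.normalizer ((P : Subgroup G) : Set G))
    (haC : a ∉ Subgroup.centralizer ((P : Subgroup G) : Set G)) (ha2 : a * a = 1) :
    z⁻¹ * a ∈ (P : Subgroup G) := by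
  set C := Subgroup.centralizer ((P : Subgroup G) : Set G)
  set N := Subgroup.normalizer ((P : Subgroup G) : Set G)
  have hidx : (C.subgroupOf N).index = 2 := K.hq
  have hc : z⁻¹ * a ∈ C := by
    have h1 : (⟨z, hzN⟩ : N)⁻¹ * ⟨a, haN⟩ ∈ C.subgroupOf N := by
      rw [Subgroup.mul_mem_iff_of_index_two hidx, inv_mem_iff, Subgroup.mem_subgroupOf,
        Subgroup.mem_subgroupOf]
      exact iff_of_false hzC haC
    exact h1
  obtain ⟨x, hx, w, hw, e⟩ := K.hH.prod _ hc
  have hz2 : z * z = 1 := by rw [← sq]; exact hz ▸ pow_orderOf_eq_one z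
  have hzi : z⁻¹ = z := inv_eq_of_mul_eq_one_right hz2
  have ea : a = z * x * w := by rw [mul_assoc, ← e, mul_inv_cancel_left]
  have hzx : z * x * (z * x) = 1 := by
    have h2 := hinv x hx
    rw [hzi] at h2
    rw [← mul_assoc, h2, inv_mul_cancel]
  have hw1 : w * w = 1 := by
    rw [ea] at ha2
    rwa [show z * x * w * (z * x * w) = z * x * (w * (z * x)) * w by group,
      ← K.commH hw (z * x), ← mul_assoc (z * x), hzx, one_mul] at ha2
  rw [e, K.eq_one_of_sq hw hw1, mul_one]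
  exact hx

theorem Ctx.isConj_reflection (K : Ctx p P H) {z : G}
    (hinv : ∀ x ∈ (P : Subgroup G), z * x * z⁻¹ = x⁻¹) {x : G} (hx : x ∈ (P : Subgroup G)) :
    IsConj z (z * x) := by
  obtain ⟨m, hm⟩ := (Fact.out : p.Prime).odd_of_ne_two (by have := K.hp5; omega)
  set y := x ^ (m + 1) with hy
  have hyy : y * y = x := by
    rw [hy, ← pow_add, show m + 1 + (m + 1) = p + 1 by omega, pow_succ, K.pow_card hx, one_mul]
  have h2 := hinv y (pow_mem hx _)
  have h3 : y⁻¹ * z = z * y := by rw [← h2]; group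
  refine isConj_iff.2 ⟨y⁻¹, ?_⟩
  rw [inv_inv, h3, mul_assoc, hyy]

/-- The number of ways of writing singular elements as products of two conjugates of `z`. -/
theorem Ctx.pairCount_eq (K : Ctx p P H) {z : G} (hz : orderOf z = 2)
    (hzN : z ∈ Subgroup.normalizer ((P : Subgroup G) : Set G))
    (hzC : z ∉ Subgroup.centralizer ((P : Subgroup G) : Set G))
    (hinv : ∀ x ∈ (P : Subgroup G), z * x * z⁻¹ = x⁻¹) {x : G} (hx : x ∈ (P : Subgroup G))
    (hx1 : x ≠ 1) {w : G} (hw : w ∈ H) :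
    (w = 1 → (pairCount z z (x * w) : ℂ) = (p : ℂ)) ∧ (w ≠ 1 → (pairCount z z (x * w) : ℂ) = 0) := by
  classical
  have hp : p.Prime := Fact.out
  have hz2 : z * z = 1 := by rw [← sq]; exact hz ▸ pow_orderOf_eq_one z
  have hzi : z⁻¹ = z := inv_eq_of_mul_eq_one_right hz2
  have hsq : ∀ a : G, IsConj z a → a * a = 1 := fun a ha => by
    obtain ⟨c, rfl⟩ := isConj_iff.1 ha
    rw [show c * z * c⁻¹ * (c * z * c⁻¹) = c * (z * z) * c⁻¹ by group, hz2]
    group
  have key : ∀ a : G, IsConj z a → IsConj z (a⁻¹ * (x * w)) →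
      z⁻¹ * a ∈ (P : Subgroup G) ∧ w = 1 := by
    intro a ha hb
    have h1 := hsq a ha
    have hai : a⁻¹ = a := inv_eq_of_mul_eq_one_right h1
    have h2 := hsq _ hb
    rw [hai] at h2
    have h3 : a * (x * w) * a = (x * w)⁻¹ := by
      refine eq_inv_of_mul_eq_one_left ?_
      rw [← h2]; group
    have h4 : (a * x * a) * w = x⁻¹ * w⁻¹ := by
      have e1 : a * (x * w) * a = (a * x * a) * w := by
        rw [← mul_assoc, mul_assoc (a * x) w a, ← K.commH hw a]; group
      rw [← e1, h3, mul_inv_rev, K.commH (inv_mem hw) x⁻¹]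
    -- the `p`-parts agree
    obtain ⟨m, hm⟩ : ∃ m, m * Nat.card H ≡ 1 [MOD p] := by
      have hcop : Nat.Coprime (Nat.card H) p := by
        refine (hp.coprime_iff_not_dvd.2 fun hd => ?_).symm
        exact compl_not_dvd K.setup K.hH hd
      obtain ⟨m, -, hm⟩ := Nat.exists_mul_mod_eq_one_of_coprime hcop hp.one_lt
      exact ⟨m, by rw [Nat.ModEq, mul_comm, hm, Nat.mod_eq_of_lt hp.one_lt]⟩
    have hw' : w ^ (m * Nat.card H) = 1 := by
      have := pow_card_eq_one' (G := H) (x := ⟨w, hw⟩)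
      rw [pow_mul', show w ^ Nat.card H = 1 from congrArg Subtype.val this, one_pow]
    have hxpow : x ^ (m * Nat.card H) = x := by
      rw [pow_eq_pow_mod _ (K.pow_card hx), hm, Nat.mod_eq_of_lt hp.one_lt, pow_one]
    have haxa : a * x * a = x⁻¹ := by
      have h5 : ((a * x * a) * w) ^ (m * Nat.card H) = (x⁻¹ * w⁻¹) ^ (m * Nat.card H) := by rw [h4]
      rw [(show Commute (a * x * a) w from K.commH hw _).mul_pow, hw', mul_one,
        (show Commute x⁻¹ w⁻¹ from K.commH (inv_mem hw) _).mul_pow, inv_pow, inv_pow, hw', inv_one, mul_one,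
        hxpow] at h5
      nth_rewrite 2 [← hai] at h5
      rw [conj_pow, hxpow, hai] at h5
      exact h5
    have hw1 : w = 1 := by
      rw [haxa, mul_right_inj] at h4
      exact K.eq_one_of_sq hw (by nth_rewrite 2 [h4]; exact mul_inv_cancel w)
    refine ⟨K.reflection hz hzN hzC hinv ?_ ?_ h1, hw1⟩
    · refine K.setup.norm_eq hx hx1 ?_
      rw [hai, haxa]
      exact inv_mem hx
    · intro haC
      have h5 : a * x = x * a := (Subgroup.mem_centralizer_iff.1 haC x hx).symm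
      rw [h5, mul_assoc, h1, mul_one] at haxa
      have h6 : x ^ 2 = 1 := by rw [sq]; nth_rewrite 2 [haxa]; exact mul_inv_cancel x
      have h7 := orderOf_dvd_of_pow_eq_one h6
      rw [orderOf_mem P K.hP hx hx1] at h7
      have := Nat.le_of_dvd two_pos h7
      have := K.hp5
      omega
  refine ⟨fun hw1 => ?_, fun hw1 => ?_⟩
  · subst hw1
    rw [mul_one, Nat.cast_inj, pairCount, ← K.hP]
    refine Nat.card_congr
      { toFun := fun a => ⟨z⁻¹ * a.1, (key a.1 a.2.1 (by rw [mul_one]; exact a.2.2)).1⟩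
        invFun := fun y => ⟨z * y.1, K.isConj_reflection hinv y.2, ?_⟩
        left_inv := fun a => Subtype.ext (mul_inv_cancel_left _ _)
        right_inv := fun y => Subtype.ext (inv_mul_cancel_left _ _) }
    have h2 : (z * (y : G))⁻¹ * x = z * ((y : G) * x) := by
      have h3 : (z * (y : G))⁻¹ = z * (y : G) := by
        rw [mul_inv_rev, ← hinv y y.2, mul_assoc (z * (y : G)), ← mul_inv_rev, hz2, inv_one, mul_one]
      rw [h3, mul_assoc]
    rw [h2]
    exact K.isConj_reflection hinv (mul_mem y.2 hx)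
  · rw [Nat.cast_eq_zero, pairCount, Nat.card_eq_zero]
    exact Or.inl ⟨fun a => hw1 (key a.1 a.2.1 a.2.2).2⟩

/-- The central character. -/
noncomputable def omega (χ : IrrCharacter G) (w : H) : ℂ := (χ : G → ℂ) (w : G) / (χ : G → ℂ) 1

theorem Ctx.apply_mul (K : Ctx p P H) (χ : IrrCharacter G) (g : G) (w : H) :
    (χ : G → ℂ) (g * w) = omega χ w * (χ : G → ℂ) g := by
  obtain ⟨n, R, hR, hRχ⟩ := χ.2
  obtain ⟨c, hc⟩ := exists_scalar_of_mem_center R (K.hZ w.2)
  have h : ∀ g, (χ : G → ℂ) (g * w) = c * (χ : G → ℂ) g := fun g => by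
    rw [← hRχ, Representation.character, Representation.character, map_mul, hc]
    show LinearMap.trace ℂ _ ((R g).comp (c • LinearMap.id)) = _
    rw [LinearMap.comp_smul, LinearMap.comp_id, map_smul, smul_eq_mul]
  have h1 := h 1
  rw [one_mul] at h1
  rw [h g, omega, h1, mul_div_cancel_right₀ _ (irr_one_ne_zero χ)]

theorem Ctx.omega_mul (K : Ctx p P H) (χ : IrrCharacter G) (a b : H) :
    omega χ (a * b) = omega χ a * omega χ b := by
  simp only [omega, Subgroup.coe_mul]
  rw [K.apply_mul χ a b, omega, mul_div_assoc, mul_comm]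

theorem omega_one (χ : IrrCharacter G) : omega χ (1 : H) = 1 := div_self (irr_one_ne_zero χ)

theorem Ctx.omega_irr (K : Ctx p P H) (χ : IrrCharacter G) :
    IsIrrCharacter H (omega (H := H) χ) :=
  let φ : H →* ℂ := { toFun := omega χ, map_one' := omega_one χ, map_mul' := K.omega_mul χ }
  isIrrCharacter_linear φ.toHomUnits

theorem Ctx.omega_orth (K : Ctx p P H) [Fintype H] (χ : IrrCharacter G) {μ : H → ℂ}
    (hμ : IsIrrCharacter H μ) [Decidable (omega χ = μ)] :
    ∑ w : H, μ w * conj (omega χ w) = if omega χ = μ then (Nat.card H : ℂ) else 0 := by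
  have h0 : (Nat.card H : ℂ) ≠ 0 := Nat.cast_ne_zero.2 Nat.card_pos.ne'
  have e : ∑ w : H, μ w * conj (omega χ w) = (Nat.card H : ℂ) * classInner μ (omega χ) := by
    rw [classInner, mul_inv_cancel_left₀ h0]
  rw [e]
  split_ifs with hl
  · rw [hl, classInner_irr_self hμ, mul_one]
  · rw [classInner_irr_ne hμ (K.omega_irr χ) (Ne.symm hl), mul_zero]

theorem Ctx.not_isConj (K : Ctx p P H) {x : G} (hx : x ∈ (P : Subgroup G)) {w : H} (hw : w ≠ 1) :
    ¬ IsConj x (x * (w : G)) := by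
  intro hc
  obtain ⟨c, hc⟩ := isConj_iff.1 hc
  have h1 : (c * x * c⁻¹) ^ p = 1 := by rw [conj_pow, K.pow_card hx]; group
  rw [hc, (show Commute x (w : G) from K.commH w.2 x).mul_pow, K.pow_card hx, one_mul] at h1
  have h2 : orderOf (w : G) ∣ p := orderOf_dvd_of_pow_eq_one h1
  rcases (Nat.dvd_prime (Fact.out : p.Prime)).1 h2 with h3 | h3
  · exact hw (Subtype.ext (orderOf_eq_one_iff.1 h3))
  · exact compl_not_dvd K.setup K.hH (h3 ▸ Subgroup.orderOf_dvd_natCard H w.2)

/-- The squares over one central character. -/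
theorem Ctx.sum_sq (K : Ctx p P H) [Fintype H] {x : G} (hx : x ∈ (P : Subgroup G)) (hx1 : x ≠ 1)
    {μ : H → ℂ} (hμ : IsIrrCharacter H μ) (hμ1 : μ 1 = 1)
    [DecidablePred fun χ : IrrCharacter G => omega χ = μ] :
    ∑ χ ∈ Finset.univ.filter (fun χ : IrrCharacter G => omega χ = μ),
      (χ : G → ℂ) x * conj ((χ : G → ℂ) x) = (p : ℂ) := by
  classical
  have hc : Nat.card (Subgroup.centralizer ({x} : Set G)) = p * Nat.card H := by
    rw [centralizer_eq P K.hP hx hx1, K.card_cen]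
  have h : ∑ w : H, μ w * ∑ χ : IrrCharacter G, (χ : G → ℂ) x * conj ((χ : G → ℂ) (x * w)) =
      ((p * Nat.card H : ℕ) : ℂ) := by
    rw [Finset.sum_eq_single (1 : H)]
    · rw [Subgroup.coe_one, mul_one, sum_irr_mul_conj, if_pos (IsConj.refl _), hc, hμ1, one_mul]
    · intro w _ hw
      rw [sum_irr_mul_conj, if_neg (fun hcj => K.not_isConj hx hw (by first | exact hcj | exact hcj.symm)), mul_zero]
    · exact fun h' => absurd (Finset.mem_univ _) h'
  simp only [Finset.mul_sum] at h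
  rw [Finset.sum_comm, Finset.sum_congr rfl fun (χ : IrrCharacter G) _ => show
      ∑ w : H, μ w * ((χ : G → ℂ) x * conj ((χ : G → ℂ) (x * w))) =
        if omega χ = μ then (Nat.card H : ℂ) * ((χ : G → ℂ) x * conj ((χ : G → ℂ) x)) else 0 by
    rw [Finset.sum_congr rfl fun w _ => show μ w * ((χ : G → ℂ) x * conj ((χ : G → ℂ) (x * w))) =
        μ w * conj (omega χ w) * ((χ : G → ℂ) x * conj ((χ : G → ℂ) x)) by
      rw [K.apply_mul, map_mul]; ring, ← Finset.sum_mul, K.omega_orth χ hμ, ite_mul, zero_mul],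
    ← Finset.sum_filter, ← Finset.mul_sum, Nat.cast_mul, mul_comm (p : ℂ)] at h
  exact mul_left_cancel₀ (Nat.cast_ne_zero.2 Nat.card_pos.ne') h

/-- The class sums over one central character. -/
theorem Ctx.sum_class (K : Ctx p P H) [Fintype H] {z : G} (hz : orderOf z = 2)
    (hzN : z ∈ Subgroup.normalizer ((P : Subgroup G) : Set G))
    (hzC : z ∉ Subgroup.centralizer ((P : Subgroup G) : Set G))
    (hinv : ∀ x ∈ (P : Subgroup G), z * x * z⁻¹ = x⁻¹) {x : G} (hx : x ∈ (P : Subgroup G))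
    (hx1 : x ≠ 1) {μ : H → ℂ} (hμ : IsIrrCharacter H μ) (hμ1 : μ 1 = 1)
    [DecidablePred fun χ : IrrCharacter G => omega χ = μ] :
    (Nat.card G : ℂ) * (Nat.card H : ℂ) *
      ∑ χ ∈ Finset.univ.filter (fun χ : IrrCharacter G => omega χ = μ),
        (χ : G → ℂ) z ^ 2 * conj ((χ : G → ℂ) x) / (χ : G → ℂ) 1 =
      (p : ℂ) * (Nat.card (Subgroup.centralizer ({z} : Set G)) : ℂ) ^ 2 := by
  classical
  set c := Nat.card (Subgroup.centralizer ({z} : Set G))
  have hGc : (Nat.card G : ℂ) = (c : ℂ) * ((Subgroup.centralizer ({z} : Set G)).index : ℂ) := by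
    rw [← Nat.cast_mul, Subgroup.card_mul_index]
  have h : ∑ w : H, μ w * ((pairCount z z (x * w) : ℂ) * (c : ℂ)) = (p : ℂ) * c := by
    rw [Finset.sum_eq_single (1 : H)]
    · rw [(K.pairCount_eq hz hzN hzC hinv hx hx1 (1 : H).2).1 rfl, hμ1, one_mul]
    · intro w _ hw
      rw [(K.pairCount_eq hz hzN hzC hinv hx hx1 w.2).2 fun e => hw (Subtype.ext e), zero_mul, mul_zero]
    · exact fun h' => absurd (Finset.mem_univ _) h'
  simp only [c, pairCount_mul, Finset.mul_sum] at h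
  rw [Finset.sum_comm, Finset.sum_congr rfl fun (χ : IrrCharacter G) _ => show
      ∑ w : H, μ w * (clv z χ * ((χ : G → ℂ) z * conj ((χ : G → ℂ) (x * w)))) =
        if omega χ = μ then (Nat.card H : ℂ) * (clv z χ * ((χ : G → ℂ) z * conj ((χ : G → ℂ) x))) else 0 by
    rw [Finset.sum_congr rfl fun w _ => show μ w * (clv z χ * ((χ : G → ℂ) z * conj ((χ : G → ℂ) (x * w)))) =
        μ w * conj (omega χ w) * (clv z χ * ((χ : G → ℂ) z * conj ((χ : G → ℂ) x))) by
      rw [K.apply_mul, map_mul]; ring, ← Finset.sum_mul, K.omega_orth χ hμ, ite_mul, zero_mul],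
    ← Finset.sum_filter, ← Finset.mul_sum] at h
  calc _ = (c : ℂ) * ((Nat.card H : ℂ) *
        ∑ χ ∈ Finset.univ.filter (fun χ : IrrCharacter G => omega χ = μ),
          clv z χ * ((χ : G → ℂ) z * conj ((χ : G → ℂ) x))) := by
        rw [hGc, Finset.mul_sum, Finset.mul_sum, Finset.mul_sum]
        refine Finset.sum_congr rfl fun χ _ => ?_
        rw [clv, centralChar]
        ring
    _ = _ := by rw [h]; ring

open Classical in
/-- The sum over the nontrivial elements of the Sylow subgroup. -/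
noncomputable def singSum (P : Sylow p G) (χ : IrrCharacter G) : ℂ :=
  ∑ x : (P : Subgroup G), if x = 1 then 0 else (χ : G → ℂ) x

/-- The data of a block of full defect. -/
structure Pair (K : Ctx p P H) (μ : H → ℂ) (a b : IrrCharacter G) (Y : Finset (IrrCharacter G))
    (δa δb σ : ℤ) : Prop where
  hab : a ≠ b
  haY : a ∉ Y
  hbY : b ∉ Y
  cardY : 2 * Y.card + 1 = p
  hδa : δa = 1 ∨ δa = -1
  hδb : δb = 1 ∨ δb = -1
  hσ : σ = 1 ∨ σ = -1
  omA : omega a = μ
  omB : omega b = μ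
  omY : ∀ η ∈ Y, omega η = μ
  degA : (charDegree (a : G → ℂ) : ℤ) ≡ δa [ZMOD p]
  degB : (charDegree (b : G → ℂ) : ℤ) ≡ δb [ZMOD p]
  degY : ∀ η ∈ Y, (charDegree (η : G → ℂ) : ℤ) ≡ -(2 * σ) [ZMOD p]
  valA : ∀ x ∈ (P : Subgroup G), x ≠ 1 → (a : G → ℂ) x = δa
  valB : ∀ x ∈ (P : Subgroup G), x ≠ 1 → (b : G → ℂ) x = δb
  sumY : ∀ x ∈ (P : Subgroup G), x ≠ 1 → ∑ η ∈ Y, (η : G → ℂ) x = σ
  singY : ∀ η ∈ Y, singSum P η = (2 * σ : ℤ)
  agree : ∀ η ∈ Y, ∀ η' ∈ Y, ∀ g : G, ¬ p ∣ orderOf g → (η : G → ℂ) g = (η' : G → ℂ) g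
  relation : ∀ η ∈ Y, ∀ g : G, ¬ p ∣ orderOf g →
    (δa : ℂ) * (a : G → ℂ) g + (δb : ℂ) * (b : G → ℂ) g + (σ : ℂ) * (η : G → ℂ) g = 0
  vanish : ∀ χ : IrrCharacter G, omega χ = μ → χ ≠ a → χ ≠ b → χ ∉ Y →
    ∀ x ∈ (P : Subgroup G), x ≠ 1 → (χ : G → ℂ) x = 0

end CfsgLib.SmallSylow.PredTwo
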