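import Cfsg.Agent.Lib.SmallSylow.PredTwo.Main
import Cfsg.Agent.Lib.Perm.WielandtTwoP
import Cfsg.Agent.Lib.Perm.NormalTrans
import Cfsg.Agent.Lib.CharTheory.SmallPartitionChars
import Cfsg.Agent.S0494

/-!
# Primitive groups of degree `2p` whose Sylow normalizer has order `2p`
-/

namespace CfsgLib.SmallSylow.PredTwo

open Cfsg CfsgLib.Blocks CfsgLib.Blocks.DefectOne CfsgLib.CharTheory CfsgLib.CharTheory.SmallDegree
open MulAction
open scoped ComplexConjugate Pointwise

set_option linter.unusedVariables false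
set_option linter.style.haveILetI false
set_option linter.unusedSectionVars false

universe u v

variable {G : Type u} [Group G] [Fintype G] {p : ℕ} [Fact p.Prime] {P : Sylow p G}
variable {α : Type v} [Fintype α] [MulAction G α] [FaithfulSMul G α]

/-- The first facts. -/
theorem twoP_basic (hp : 3 < p) (hα : Fintype.card α = 2 * p) (hprim : IsPreprimitive G α)
    (hN : Nat.card (Subgroup.normalizer ((P : Subgroup G) : Set G)) = 2 * p) :
    Nat.card P = p ∧ Nat.card (Subgroup.centralizer ((P : Subgroup G) : Set G)) = p ∧ inIdx P = 2 ∧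
      (∀ N : Subgroup G, N.Normal → N = ⊥ ∨ N = ⊤) := by
  classical
  have hpp : p.Prime := Fact.out
  haveI := hprim
  obtain ⟨a₀⟩ : Nonempty α := Fintype.card_pos_iff.1 (by omega)
  have hdvd : p ∣ Nat.card G := by
    refine dvd_trans ?_ (Subgroup.index_dvd_card (stabilizer G a₀))
    rw [index_stabilizer_of_transitive, Nat.card_eq_fintype_card, hα]
    exact dvd_mul_left p 2
  have hP : Nat.card P = p := by
    obtain ⟨k, hk⟩ := IsPGroup.iff_card.1 P.isPGroup'
    have h1 : p ^ k ∣ 2 * p := hk ▸ hN ▸ Subgroup.card_dvd_of_le Subgroup.le_normalizer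
    have hk1 : k ≠ 0 := fun h0 => P.not_dvd_index (by
      have h := (P : Subgroup G).card_mul_index
      rw [hk, h0, pow_zero, one_mul] at h
      rwa [h])
    have hk2 : k ≤ 1 := by
      by_contra hlt
      have h2 : p ^ 2 ∣ 2 * p := dvd_trans (pow_dvd_pow p (by omega)) h1
      rw [sq] at h2
      have := Nat.le_of_dvd two_pos (Nat.dvd_of_mul_dvd_mul_right hpp.pos h2)
      omega
    have hk3 : k = 1 := by omega
    rw [hk, hk3, pow_one]
  have hs := setup_sylow P hP
  have hsmall : ∀ K : Subgroup G, K.Normal → K ≠ ⊥ → 2 * p ∣ Nat.card K := by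
    intro K hK hne
    haveI := hK
    haveI := CfsgLib.PermNormal.pretransitive_of_normal (X := α) hprim K hne
    refine dvd_trans ?_ (Subgroup.index_dvd_card (stabilizer K a₀))
    rw [index_stabilizer_of_transitive, Nat.card_eq_fintype_card, hα]
  have hnn : ¬ (P : Subgroup G).Normal := fun hn => by
    have h1 := Nat.le_of_dvd (by omega) (hP ▸ hsmall _ hn (fun e => by
      have h := congrArg (fun K : Subgroup G => Nat.card K) e
      simp only [Subgroup.card_bot] at h
      rw [show Nat.card (P : Subgroup G) = p from hP] at h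
      omega))
    omega
  -- a normal `p'`-subgroup is trivial
  have hp' : ∀ K : Subgroup G, K.Normal → ¬ p ∣ Nat.card K → K = ⊥ := fun K hK hKp => by
    by_contra hne
    exact hKp ((dvd_mul_left p 2).trans (hsmall K hK hne))
  set C := Subgroup.centralizer ((P : Subgroup G) : Set G)
  set N := Subgroup.normalizer ((P : Subgroup G) : Set G)
  have hCN : C ≤ N := Subgroup.centralizer_le_normalizer _
  have hq : Nat.card C * inIdx P = 2 * p := by
    have h1 := Subgroup.card_mul_index (C.subgroupOf N)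
    rw [Nat.card_congr (Subgroup.subgroupOfEquivOfLe hCN).toEquiv, hN] at h1
    exact h1
  have hne1 : inIdx P ≠ 1 := by
    intro h1
    have hNC : N ≤ C := Subgroup.relIndex_eq_one.1 h1
    haveI : IsCyclic (P : Subgroup G) := isCyclic_of_prime_card (show Nat.card (P : Subgroup G) = p from hP)
    have hc := MonoidHom.ker_transferSylow_isComplement' P hNC
    set K := (MonoidHom.transferSylow P hNC).ker
    have hKc : Nat.card K * p = Nat.card G := by rw [← hP]; exact hc.card_mul_card
    have hKp : ¬ p ∣ Nat.card K := fun hd0 => by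
      refine sq_not_dvd hs hP ?_
      rw [sq, ← hKc]
      exact Nat.mul_dvd_mul_right hd0 p
    have hK : Nat.card K = 1 := by rw [hp' K inferInstance hKp, Subgroup.card_bot]
    rw [hK, one_mul] at hKc
    have htr := Subgroup.index_dvd_card (stabilizer G a₀)
    rw [index_stabilizer_of_transitive, Nat.card_eq_fintype_card, hα, ← hKc] at htr
    have := Nat.le_of_dvd hpp.pos htr
    omega
  obtain ⟨c, hc⟩ : p ∣ Nat.card C := hP ▸ Subgroup.card_dvd_of_le hs.le_cent
  have hc1 : c * inIdx P = 2 := by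
    rw [hc, mul_assoc, mul_comm 2 p] at hq
    exact Nat.eq_of_mul_eq_mul_left hpp.pos hq
  have hq2 : inIdx P = 2 := ((Nat.dvd_prime Nat.prime_two).1 ⟨c, by rw [mul_comm]; exact hc1.symm⟩).resolve_left hne1
  have hC : Nat.card C = p := by
    rw [hq2] at hc1
    rw [hc, show c = 1 by omega, mul_one]
  refine ⟨hP, hC, hq2, fun L hL => ?_⟩
  rcases eq_or_ne L ⊥ with rfl | hne
  · exact Or.inl rfl
  refine Or.inr ?_
  haveI := hL
  have hPL : (P : Subgroup G) ≤ L := by
    obtain ⟨x, hx⟩ := exists_prime_orderOf_dvd_card' (G := L) p ((dvd_mul_left p 2).trans (hsmall L hL hne))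
    have hx' : Nat.card (Subgroup.zpowers (x : G)) = p ^ 1 := by
      rw [Nat.card_zpowers, Subgroup.orderOf_coe, hx, pow_one]
    obtain ⟨Q, hQ⟩ := (IsPGroup.of_card hx').exists_le_sylow
    have hQc : Nat.card (Q : Subgroup G) = p := by
      rw [Sylow.card_eq_multiplicity, ← Sylow.card_eq_multiplicity P]
      exact hP
    have hQL : (Q : Subgroup G) ≤ L := by
      rw [← Subgroup.eq_of_le_of_card_ge hQ (by rw [hx', pow_one, hQc])]
      exact Subgroup.zpowers_le.2 x.2
    obtain ⟨g, hg⟩ := exists_smul_eq G Q P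
    rw [← hg, Sylow.coe_subgroup_smul]
    intro y hy
    obtain ⟨w, hw, rfl⟩ := hy
    exact hL.conj_mem w (hQL hw) g
  have hCL : C ≤ L :=
    (Subgroup.eq_of_le_of_card_ge hs.le_cent (by rw [hP]; exact hC.le)).ge.trans hPL
  have hNL : N ≤ L := by
    by_contra hcon
    let P' : Sylow p L := P.subtype hPL
    have hP' : Nat.card P' = p := (Nat.card_congr (Subgroup.subgroupOfEquivOfLe hPL).toEquiv).trans hP
    have hNC' : Subgroup.normalizer ((P' : Subgroup L) : Set L) ≤
        Subgroup.centralizer ((P' : Subgroup L) : Set L) := by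
      intro g hg
      have hgN : (g : G) ∈ N := by
        rw [Subgroup.mem_normalizer_iff]
        intro x
        by_cases hxL : x ∈ L
        · exact (Subgroup.mem_normalizer_iff.1 hg ⟨x, hxL⟩)
        · refine iff_of_false (fun h' => hxL (hPL h')) fun h' => hxL ?_
          have h2 := mul_mem (mul_mem (inv_mem g.2) (hPL h')) g.2
          rwa [show (g : G)⁻¹ * ((g : G) * x * (g : G)⁻¹) * g = x by group] at h2
      have hgC : (g : G) ∈ C := by
        by_contra hgC
        refine hcon fun n hn => ?_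
        by_cases hnC : n ∈ C
        · exact hCL hnC
        · have h1 : (⟨(g : G), hgN⟩ : N)⁻¹ * ⟨n, hn⟩ ∈ C.subgroupOf N := by
            rw [Subgroup.mul_mem_iff_of_index_two (show (C.subgroupOf N).index = 2 from hq2), inv_mem_iff,
              Subgroup.mem_subgroupOf, Subgroup.mem_subgroupOf]
            exact iff_of_false hgC hnC
          have h2 : (g : G) * ((g : G)⁻¹ * n) ∈ L := mul_mem g.2 (hCL h1)
          rwa [mul_inv_cancel_left] at h2
      rw [Subgroup.mem_centralizer_iff]
      intro x hx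
      exact Subtype.ext (Subgroup.mem_centralizer_iff.1 hgC x.1 hx)
    haveI : IsCyclic (P' : Subgroup L) := isCyclic_of_prime_card (show Nat.card (P' : Subgroup L) = p from hP')
    have hc' := MonoidHom.ker_transferSylow_isComplement' P' hNC'
    set f := MonoidHom.transferSylow P' hNC'
    have hKc : Nat.card f.ker * p = Nat.card L := (congrArg (Nat.card f.ker * ·) hP'.symm).trans hc'.card_mul_card
    have hKp : ¬ p ∣ Nat.card f.ker := fun hd0 => by
      refine sq_not_dvd (setup_sylow P' hP') hP' ?_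
      rw [sq, ← hKc]
      exact Nat.mul_dvd_mul_right hd0 p
    have hn : (f.ker.map L.subtype).Normal := ⟨fun x hx g => by
      obtain ⟨k, hk, rfl⟩ := hx
      refine ⟨⟨g * (k : G) * g⁻¹, hL.conj_mem _ k.2 g⟩, ?_, rfl⟩
      show f _ = 1
      rw [← orderOf_eq_one_iff]
      have h1 : orderOf (f ⟨g * (k : G) * g⁻¹, hL.conj_mem _ k.2 g⟩) ∣ Nat.card f.ker := by
        refine (orderOf_map_dvd f _).trans ?_
        rw [← Subgroup.orderOf_coe]
        show orderOf (MulAut.conj g (k : G)) ∣ _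
        rw [MulEquiv.orderOf_eq, Subgroup.orderOf_coe]
        exact Subgroup.orderOf_dvd_natCard f.ker hk
      have h2 : orderOf (f ⟨g * (k : G) * g⁻¹, hL.conj_mem _ k.2 g⟩) ∣ p := (orderOf_dvd_natCard _).trans hP'.dvd
      refine ((Nat.dvd_prime hpp).1 h2).resolve_right fun e => hKp ?_
      rwa [e] at h1⟩
    have hbot := hp' _ hn (by rwa [Subgroup.card_map_of_injective L.subtype_injective])
    have hK : Nat.card f.ker = 1 := by
      rw [← Subgroup.card_map_of_injective L.subtype_injective, hbot, Subgroup.card_bot]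
    rw [hK, one_mul] at hKc
    have h4 := hsmall L hL hne
    rw [← hKc] at h4
    have h3 := Nat.le_of_dvd hpp.pos h4
    omega
  have h1 := Sylow.normalizer_sup_eq_top' P hPL
  exact (sup_eq_right.2 hNL).symm.trans h1

theorem twoP_perfect (hp : 3 < p) (hα : Fintype.card α = 2 * p) (hprim : IsPreprimitive G α)
    (hN : Nat.card (Subgroup.normalizer ((P : Subgroup G) : Set G)) = 2 * p) :
    commutator G = ⊤ ∧ ¬ (P : Subgroup G).Normal ∧ Subgroup.center G = ⊥ := by
  obtain ⟨hP, hC, hq, hsimple⟩ := twoP_basic (P := P) hp hα hprim hN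
  have hnn : ¬ (P : Subgroup G).Normal := fun hn => by
    rcases hsimple _ hn with e | e
    · have h := congrArg (fun K : Subgroup G => Nat.card K) e
      simp only [Subgroup.card_bot] at h
      rw [show Nat.card (P : Subgroup G) = p from hP] at h
      omega
    · obtain ⟨a₀⟩ : Nonempty α := Fintype.card_pos_iff.1 (by omega)
      haveI := hprim
      have hd := Subgroup.index_dvd_card (stabilizer G a₀)
      rw [index_stabilizer_of_transitive, Nat.card_eq_fintype_card, hα, ← Subgroup.card_top (G := G), ← e,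
        show Nat.card (P : Subgroup G) = p from hP] at hd
      have := Nat.le_of_dvd (by omega) hd
      omega
  have hab : ¬ ∀ a b : G, a * b = b * a := fun hab => hnn ⟨fun x hx g => by
    rwa [hab g x, mul_inv_cancel_right]⟩
  refine ⟨(hsimple _ inferInstance).resolve_left fun e => hab fun a b => ?_, hnn,
    (hsimple _ inferInstance).resolve_right fun e => hab fun a b => ?_⟩
  · have h := Subgroup.commutator_mem_commutator (Subgroup.mem_top a) (Subgroup.mem_top b)
    rw [← commutator_def, e, Subgroup.mem_bot] at h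
    exact commutatorElement_eq_one_iff_mul_comm.1 h
  · exact Subgroup.mem_center_iff.1 (e.symm ▸ Subgroup.mem_top b) a

theorem rank_pairs [IsPretransitive G α] (a₀ : α) :
    Nat.card (orbitRel.Quotient (stabilizer G a₀) α) = Nat.card (orbitRel.Quotient G (α × α)) := by
  let f : orbitRel.Quotient (stabilizer G a₀) α → orbitRel.Quotient G (α × α) :=
    Quotient.lift (fun b => Quotient.mk'' (a₀, b)) fun b b' hb => by
      obtain ⟨u, rfl⟩ := orbitRel_apply.1 hb
      exact Quotient.sound' (orbitRel_apply.2 ⟨(u : G), Prod.ext u.2 rfl⟩)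
  refine Nat.card_congr (Equiv.ofBijective f ⟨fun q q' h => ?_, fun q => ?_⟩)
  · induction q using Quotient.inductionOn' with
    | _ b =>
      induction q' using Quotient.inductionOn' with
      | _ b' =>
        obtain ⟨g, hg⟩ := orbitRel_apply.1 (Quotient.exact' h)
        exact Quotient.sound' (orbitRel_apply.2 ⟨⟨g, congrArg Prod.fst hg⟩, congrArg Prod.snd hg⟩)
  · induction q using Quotient.inductionOn' with
    | _ x =>
      obtain ⟨g, hg⟩ := exists_smul_eq G x.1 a₀
      exact ⟨Quotient.mk'' (g • x.2), Quotient.sound' (orbitRel_apply.2 ⟨g, Prod.ext hg rfl⟩)⟩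

/-- There is an irreducible character of degree `p - 2`. -/
theorem exists_degree_pred_two (hp5 : 5 < p) (hperf : commutator G = ⊤) (hP : Nat.card P = p)
    (hC : Nat.card (Subgroup.centralizer ((P : Subgroup G) : Set G)) = p) (hq : inIdx P = 2)
    {π : G → ℂ} (hπ : IsCharacter G π) (hπ1 : π 1 = 2 * (p : ℂ))
    (hπP : ∀ x ∈ (P : Subgroup G), x ≠ 1 → π x = 0)
    (hπ0 : classInner π (fun _ => 1) = 1) (hπ2 : classInner π π = 3) :
    ∃ ζ : IrrCharacter G, charDegree (ζ : G → ℂ) = p - 2 := by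
  classical
  have hpp : p.Prime := Fact.out
  have hp7 : 7 ≤ p := by
    rcases Nat.lt_or_ge p 7 with h | h
    · interval_cases p; norm_num at hpp
    · exact h
  have hs := setup_sylow P hP
  have hcP : Compl (P : Subgroup G) (⊥ : Subgroup G) := by
    refine ⟨bot_le, inf_bot_eq _, by rw [Subgroup.card_bot, mul_one]; exact hP.trans hC.symm, fun c hc => ?_⟩
    have e := Subgroup.eq_of_le_of_card_ge hs.le_cent (by rw [hC, hP])
    exact ⟨c, (e ▸ hc : c ∈ (P : Subgroup G)), 1, Subgroup.mem_bot.2 rfl, (mul_one c).symm⟩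
  have K : Ctx p P (⊥ : Subgroup G) := ⟨hp5, hP, hcP, bot_le, hq, by rw [Subgroup.card_bot]; exact odd_one⟩
  obtain ⟨z, hz, hzN, hzC, hinv⟩ := K.exists_inverting
  haveI : Fintype (⊥ : Subgroup G) := Fintype.ofFinite _
  haveI : Fintype (P : Subgroup G) := Fintype.ofFinite _
  have homega : ∀ χ : IrrCharacter G, omega (H := (⊥ : Subgroup G)) χ = fun _ => 1 := by
    intro χ
    funext w
    rw [Subsingleton.elim w 1]
    exact omega_one χ
  let one' : IrrCharacter G := ⟨fun _ => 1, isIrrCharacter_one⟩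
  have hone : charDegree (one' : G → ℂ) = 1 := by
    apply Nat.cast_injective (R := ℂ)
    rw [irr_charDegree_cast, Nat.cast_one]
  obtain ⟨a, b, Y, ea, eb, σ, hP0, hmem0⟩ := K.exists_pair_of hz hzN hzC hinv one' (by
    rw [hone]; exact hpp.not_dvd_one)
  have hone0 : one' = a := by
    refine hmem0.resolve_right fun h => ?_
    have h1 := hP0.degY one' h
    rw [hone] at h1
    obtain ⟨k, hk⟩ := h1.dvd
    rcases hP0.hσ with e1 | e1 <;> rw [e1] at hk <;> push_cast at hk
    · have : (p : ℤ) ∣ 3 := ⟨-k, by linarith⟩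
      have := Int.le_of_dvd (by norm_num) this
      omega
    · have : (p : ℤ) ∣ 1 := ⟨k, by linarith⟩
      have := Int.le_of_dvd (by norm_num) this
      omega
  have hea : ea = 1 := by
    refine hP0.hδa.resolve_right fun e => ?_
    have h1 := hP0.degA
    rw [← hone0, hone, e] at h1
    obtain ⟨k, hk⟩ := h1.dvd
    push_cast at hk
    have : (p : ℤ) ∣ 2 := ⟨-k, by linarith⟩
    have := Int.le_of_dvd (by norm_num) this
    omega
  subst hea
  subst hone0
  obtain ⟨η, hη⟩ := hP0.exists_mem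
  have hrel := hP0.degree_rel hη
  rw [hone] at hrel
  push_cast at hrel
  obtain ⟨hcls, hcoef⟩ := isCharacter_iff_coeff_nat.1 hπ
  choose n hn using fun χ : IrrCharacter G => hcoef χ χ.2
  have hexp : ∀ g, π g = ∑ χ : IrrCharacter G, (n χ : ℂ) * (χ : G → ℂ) g := by
    intro g
    conv_lhs => rw [eq_sum_irr hcls]
    rw [Finset.sum_apply]
    exact Finset.sum_congr rfl fun χ _ => by rw [Pi.smul_apply, smul_eq_mul, hn]
  have hn1 : n one' = 1 := by
    apply Nat.cast_injective (R := ℂ)
    rw [← hn, Nat.cast_one]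
    exact hπ0
  have hpos : ∀ χ : IrrCharacter G, 1 ≤ charDegree (χ : G → ℂ) := fun χ => Nat.one_le_iff_ne_zero.2 fun h0 =>
    irr_one_ne_zero χ (by rw [← irr_charDegree_cast, h0, Nat.cast_zero])
  have hfY : ∀ η' ∈ Y, charDegree (η' : G → ℂ) = charDegree (η : G → ℂ) := fun η' hη' => by
    apply Nat.cast_injective (R := ℂ)
    rw [irr_charDegree_cast, irr_charDegree_cast, hP0.agree η' hη' η hη 1 not_dvd_orderOf_one]
  -- the values on the Sylow subgroup
  have hsumP : ((p : ℤ) - 1) * (1 + eb * (n b : ℤ)) + 2 * σ * ((∑ χ ∈ Y, n χ : ℕ) : ℤ) = 0 := by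
    have h1 : ∀ x ∈ (P : Subgroup G), x ≠ 1 →
        0 = (1 : ℂ) + (eb : ℂ) * (n b : ℂ) + ∑ χ ∈ Y, (n χ : ℂ) * (χ : G → ℂ) x := by
      intro x hx hx1
      rw [← hπP x hx hx1, hexp, ← Finset.sum_subset (Finset.subset_univ (insert one' (insert b Y))),
        Finset.sum_insert (by simp only [Finset.mem_insert, not_or]; exact ⟨hP0.hab, hP0.haY⟩),
        Finset.sum_insert hP0.hbY, hn1, hP0.valA x hx hx1, hP0.valB x hx hx1]
      · push_cast; ring
      · intro χ _ hχ
        simp only [Finset.mem_insert, not_or] at hχ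
        rw [hP0.vanish χ ((homega χ).trans (homega one').symm) hχ.1 hχ.2.1 hχ.2.2 x hx hx1, mul_zero]
    have hPcard : ((Finset.univ.erase (1 : (P : Subgroup G))).card : ℂ) = (p : ℂ) - 1 := by
      rw [Finset.card_erase_of_mem (Finset.mem_univ _), Finset.card_univ, ← Nat.card_eq_fintype_card,
        show Nat.card (P : Subgroup G) = p from K.hP, Nat.cast_sub hpp.one_le, Nat.cast_one]
    have hs' : ∀ χ ∈ Y, ∑ x ∈ Finset.univ.erase (1 : (P : Subgroup G)), (χ : G → ℂ) x = 2 * (σ : ℂ) := by
      intro χ hχ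
      have h2 := sum_eq_add_singSum (P := P) χ
      rw [← Finset.add_sum_erase _ _ (Finset.mem_univ (1 : (P : Subgroup G))), Subgroup.coe_one, hP0.singY χ hχ,
        add_right_inj] at h2
      rw [h2]; push_cast; ring
    have h2 : ∑ x ∈ Finset.univ.erase (1 : (P : Subgroup G)), (0 : ℂ) =
        ∑ x ∈ Finset.univ.erase (1 : (P : Subgroup G)),
          ((1 : ℂ) + (eb : ℂ) * (n b : ℂ) + ∑ χ ∈ Y, (n χ : ℂ) * (χ : G → ℂ) (x : G)) :=
      Finset.sum_congr rfl fun x hx => h1 x x.2 fun e => Finset.ne_of_mem_erase hx (Subtype.ext e)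
    rw [Finset.sum_const_zero, Finset.sum_add_distrib, Finset.sum_const, nsmul_eq_mul, hPcard, Finset.sum_comm,
      Finset.sum_congr rfl fun χ hχ => show _ = (n χ : ℂ) * (2 * (σ : ℂ)) by rw [← Finset.mul_sum, hs' χ hχ],
      ← Finset.sum_mul] at h2
    apply Int.cast_injective (α := ℂ)
    push_cast
    linear_combination -h2
  -- the degree
  have hdegsum : 2 * p = 1 + n b * charDegree (b : G → ℂ) + (∑ χ ∈ Y, n χ) * charDegree (η : G → ℂ) +
      ∑ χ ∈ (insert one' (insert b Y))ᶜ, n χ * charDegree (χ : G → ℂ) := by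
    apply Nat.cast_injective (R := ℂ)
    rw [Nat.cast_mul, Nat.cast_ofNat, ← hπ1, hexp, ← Finset.sum_add_sum_compl (insert one' (insert b Y)),
      Finset.sum_insert (by simp only [Finset.mem_insert, not_or]; exact ⟨hP0.hab, hP0.haY⟩),
      Finset.sum_insert hP0.hbY, hn1,
      Finset.sum_congr (s₁ := Y) rfl fun χ hχ => show _ = (n χ : ℂ) * (charDegree (η : G → ℂ) : ℂ) by
        rw [← hfY χ hχ, irr_charDegree_cast], ← Finset.sum_mul]
    push_cast [irr_charDegree_cast]
    rw [show (one' : G → ℂ) 1 = 1 from rfl]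
    ring
  have hbne : charDegree (b : G → ℂ) ≠ 1 := fun e => hP0.hab
    ((SmallSylow.eq_one_of_degree_one hperf hone).trans (SmallSylow.eq_one_of_degree_one hperf e).symm)
  have hfb := hpos b
  have hfy := hpos η
  obtain ⟨k, hk⟩ := hP0.degB.dvd
  obtain ⟨h, hh⟩ := hpp.odd_of_ne_two (by omega)
  rcases hP0.hσ with e1 | e1
  · -- the sign `+`
    have e2 : eb = -1 := hP0.hδb.resolve_left fun e => by rw [e, e1] at hrel; omega
    rw [e1, e2] at hsumP hrel
    rw [e2] at hk
    have hk0 : k ≤ -1 := by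
      by_contra hk0
      push Not at hk0
      have : 0 ≤ (p : ℤ) * k := mul_nonneg (by positivity) (by omega)
      omega
    have hnb1 : 1 ≤ n b := by
      by_contra h0
      rw [show n b = 0 by omega] at hsumP
      push_cast at hsumP
      have h0' : (0 : ℤ) ≤ ((∑ χ ∈ Y, n χ : ℕ) : ℤ) := Nat.cast_nonneg _
      push_cast at h0'
      linarith [show (7 : ℤ) ≤ p by exact_mod_cast hp7]
    have hfb' : p ≤ charDegree (b : G → ℂ) + 1 := by
      have : (p : ℤ) * k ≤ (p : ℤ) * (-1) := mul_le_mul_of_nonneg_left hk0 (by positivity)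
      omega
    have hnb : n b = 1 := by
      by_contra hne
      have h2 : 2 ≤ n b := by omega
      have h3 : 2 * charDegree (b : G → ℂ) ≤ n b * charDegree (b : G → ℂ) := Nat.mul_le_mul_right _ h2
      have hN : h ≤ ∑ χ ∈ Y, n χ := by
        have h4 : ((p : ℤ) - 1) * ((n b : ℤ) - 1) = 2 * ((∑ χ ∈ Y, n χ : ℕ) : ℤ) := by linarith
        have h5 : ((p : ℤ) - 1) * 1 ≤ ((p : ℤ) - 1) * ((n b : ℤ) - 1) :=
          mul_le_mul_of_nonneg_left (by omega) (by omega)
        omega
      have h6 : h * charDegree (η : G → ℂ) ≤ (∑ χ ∈ Y, n χ) * charDegree (η : G → ℂ) := Nat.mul_le_mul_right _ hN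
      have h7 : 3 * charDegree (η : G → ℂ) ≤ h * charDegree (η : G → ℂ) := Nat.mul_le_mul_right _ (by omega)
      omega
    rw [hnb, one_mul] at hdegsum
    rcases eq_or_ne k (-1) with rfl | hk1
    · exact ⟨η, by omega⟩
    · exfalso
      have hk2 : (p : ℤ) * k ≤ (p : ℤ) * (-2) := mul_le_mul_of_nonneg_left (by omega) (by positivity)
      have hrest : ∑ χ ∈ (insert one' (insert b Y))ᶜ, n χ * charDegree (χ : G → ℂ) = 0 := by omega
      have hYz : ∑ χ ∈ Y, n χ = 0 := by
        rw [hnb] at hsumP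
        have h0' : ((∑ χ ∈ Y, n χ : ℕ) : ℤ) = 0 := by push_cast at hsumP ⊢; linarith
        exact_mod_cast h0'
      have h3 : classInner π π = ∑ χ : IrrCharacter G, ((n χ : ℂ) * (n χ : ℂ)) := by
        nth_rewrite 2 [eq_sum_irr hcls]
        rw [classInner_sum_right]
        refine Finset.sum_congr rfl fun χ _ => ?_
        rw [hn, classInner_smul_right, hn, map_natCast]
      rw [hπ2, ← Finset.sum_subset (Finset.subset_univ ({one', b} : Finset (IrrCharacter G))) (fun χ _ hχ => by
        simp only [Finset.mem_insert, Finset.mem_singleton, not_or] at hχ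
        have : n χ = 0 := by
          by_cases hY : χ ∈ Y
          · exact Finset.sum_eq_zero_iff.1 hYz χ hY
          · have h4 := Finset.sum_eq_zero_iff.1 hrest χ (by simp [hχ, hY])
            exact (mul_eq_zero.1 h4).resolve_right (by have := hpos χ; omega)
        rw [this, Nat.cast_zero, zero_mul]), Finset.sum_pair hP0.hab, hn1, hnb] at h3
      norm_num at h3
  · -- the sign `-`
    exfalso
    have e2 : eb = 1 := hP0.hδb.resolve_right fun e => by rw [e, e1] at hrel; omega
    rw [e1, e2] at hsumP hrel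
    rw [e2] at hk
    have hk0 : k ≤ -1 := by
      by_contra hk0
      push Not at hk0
      rcases eq_or_ne k 0 with rfl | hk1
      · simp at hk; omega
      · have : (p : ℤ) ≤ (p : ℤ) * k := le_mul_of_one_le_right (by positivity) (by omega)
        omega
    have hfy' : p + 2 ≤ charDegree (η : G → ℂ) := by
      have : (p : ℤ) * k ≤ (p : ℤ) * (-1) := mul_le_mul_of_nonneg_left hk0 (by positivity)
      omega
    have hN : h ≤ ∑ χ ∈ Y, n χ := by
      have h4 : ((p : ℤ) - 1) * ((n b : ℤ) + 1) = 2 * ((∑ χ ∈ Y, n χ : ℕ) : ℤ) := by linarith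
      have h5 : ((p : ℤ) - 1) * 1 ≤ ((p : ℤ) - 1) * ((n b : ℤ) + 1) :=
        mul_le_mul_of_nonneg_left (by omega) (by omega)
      omega
    have h6 : h * charDegree (η : G → ℂ) ≤ (∑ χ ∈ Y, n χ) * charDegree (η : G → ℂ) := Nat.mul_le_mul_right _ hN
    have h7 : 3 * charDegree (η : G → ℂ) ≤ h * charDegree (η : G → ℂ) := Nat.mul_le_mul_right _ (by omega)
    omega

/-- The case `5 < p` does not occur. -/
theorem twoP_false (hp5 : 5 < p) (hα : Fintype.card α = 2 * p) (hprim : IsPreprimitive G α)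
    (hN : Nat.card (Subgroup.normalizer ((P : Subgroup G) : Set G)) = 2 * p) (a₀ : α)
    (hrank : Nat.card (orbitRel.Quotient (stabilizer G a₀) α) = 3) {a : ℕ}
    (ha : p = 2 * a ^ 2 + 2 * a + 1) : False := by
  classical
  haveI := hprim
  obtain ⟨hP, hC, hq, hsimple⟩ := twoP_basic (P := P) (by omega) hα hprim hN
  obtain ⟨hperf, hnn, hZ⟩ := twoP_perfect (P := P) (by omega) hα hprim hN
  set π := SmallPartitionChars.fixChar G α
  have hπ1 : π 1 = 2 * (p : ℂ) := by
    show (Nat.card (fixedBy α (1 : G)) : ℂ) = _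
    rw [show fixedBy α (1 : G) = Set.univ from Set.eq_univ_of_forall fun x => one_smul G x, Nat.card_coe_set_eq,
      Set.ncard_univ, Nat.card_eq_fintype_card, hα]
    push_cast; ring
  have hπP : ∀ x ∈ (P : Subgroup G), x ≠ 1 → π x = 0 := by
    intro x hx hx1
    show (Nat.card (fixedBy α x) : ℂ) = 0
    rw [Nat.cast_eq_zero, Nat.card_eq_zero]
    refine Or.inl ⟨fun ⟨w, hw⟩ => ?_⟩
    have h1 := Subgroup.orderOf_dvd_natCard (stabilizer G w) hw
    rw [orderOf_mem P hP hx hx1] at h1
    refine sq_not_dvd (setup_sylow P hP) hP ?_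
    rw [← Subgroup.card_mul_index (stabilizer G w), sq, index_stabilizer_of_transitive, show Nat.card α = 2 * p by rw [Nat.card_eq_fintype_card, hα]]
    exact Nat.mul_dvd_mul h1 (dvd_mul_left p 2)
  have hπ2 : classInner π π = 3 := by
    rw [SmallPartitionChars.classInner_fixChar, ← rank_pairs a₀, hrank]; norm_num
  have hπ0 : classInner π (fun _ => 1) = 1 := by
    have h1 := SmallPartitionChars.classInner_fixChar (G := G) α Unit
    rw [SmallPartitionChars.fixChar_unit] at h1
    rw [h1]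
    have h2 : Nat.card (orbitRel.Quotient G (α × Unit)) = 1 := by
      refine Nat.card_eq_one_iff_unique.2 ⟨⟨fun q q' => ?_⟩, ⟨Quotient.mk'' (a₀, ())⟩⟩
      induction q using Quotient.inductionOn' with
      | _ x =>
        induction q' using Quotient.inductionOn' with
        | _ y =>
          obtain ⟨g, hg⟩ := exists_smul_eq G y.1 x.1
          exact Quotient.sound' (orbitRel_apply.2 ⟨g, Prod.ext hg rfl⟩)
    rw [h2, Nat.cast_one]
  obtain ⟨ζ, hζ⟩ := exists_degree_pred_two (P := P) hp5 hperf hP hC hq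
    (SmallPartitionChars.isCharacter_fixChar α) hπ1 hπP hπ0 hπ2
  have hfaith : ∀ g : G, (ζ : G → ℂ) g = (ζ : G → ℂ) 1 → g = 1 := by
    obtain ⟨n, R, hR, hRχ⟩ := ζ.2
    intro g hg
    rcases hsimple R.ker inferInstance with e | e
    · have := CharTheory.rep_apply_eq_one_of_char_eq R (g := g) (by rw [hRχ]; exact hg)
      exact (Subgroup.mem_bot.1 (e ▸ (MonoidHom.mem_ker.2 this : g ∈ R.ker)))
    · exfalso
      have hall : ∀ x : G, R x = 1 := fun x => MonoidHom.mem_ker.1 (e ▸ Subgroup.mem_top x)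
      have h1 : ∀ x, (ζ : G → ℂ) x = ((p - 2 : ℕ) : ℂ) := fun x => by
        rw [← hζ, irr_charDegree_cast, ← hRχ, Representation.character, Representation.character, hall, hall]
      have hne : (ζ : G → ℂ) ≠ fun _ => 1 := fun e0 => by
        have h2 := congrFun e0 1
        rw [h1, Nat.cast_eq_one] at h2
        omega
      have h2 := classInner_irr_ne ζ.2 (isIrrCharacter_one : IsIrrCharacter G fun _ => 1) hne
      simp only [classInner, h1, map_one, mul_one, Finset.sum_const, Finset.card_univ,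
        ← Nat.card_eq_fintype_card, nsmul_eq_mul, mul_eq_zero, inv_eq_zero, Nat.cast_eq_zero] at h2
      have := Nat.card_pos (α := G)
      omega
  obtain ⟨m, F, hF, hF', hpm, -, -⟩ := exists_sl hp5 P hP hnn hfaith hζ
  -- `a (a + 1)` is a power of two
  have h2 : 2 * (a * (a + 1)) = 2 ^ m := by
    rw [ha] at hpm
    nlinarith
  have hd : ∀ d, d ∣ a * (a + 1) → Odd d → d = 1 := by
    intro d hd hodd
    obtain ⟨i, -, rfl⟩ := (Nat.dvd_prime_pow Nat.prime_two).1 (h2 ▸ dvd_mul_of_dvd_right hd 2)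
    rcases Nat.eq_zero_or_pos i with rfl | hi
    · exact pow_zero 2
    · exact absurd hodd (Nat.not_odd_iff_even.2 (Nat.even_pow.2 ⟨even_two, hi.ne'⟩))
  rcases Nat.even_or_odd a with he | ho
  · have h3 := hd (a + 1) (dvd_mul_left _ _) he.add_one
    have h0 : a = 0 := by omega
    subst h0
    omega
  · have h1 := hd a (dvd_mul_right _ _) ho
    subst h1
    omega

/-- The case `p = 5`. -/
theorem twoP_five (hp : p = 5) (hα : Fintype.card α = 2 * p) (hprim : IsPreprimitive G α)
    (hN : Nat.card (Subgroup.normalizer ((P : Subgroup G) : Set G)) = 2 * p) (a₀ : α)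
    (hrank : Nat.card (orbitRel.Quotient (stabilizer G a₀) α) = 3)
    (hsize : ∀ b : α, b ≠ a₀ → Nat.card (orbit (stabilizer G a₀) b) = 3 ∨
      Nat.card (orbit (stabilizer G a₀) b) = 6) : Nat.card G = 60 ∧ IsSimpleGroup G := by
  classical
  haveI := hprim
  obtain ⟨hP, hC, hq, hsimple⟩ := twoP_basic (P := P) (by omega) hα hprim hN
  haveI : Nontrivial G := by
    rw [← Finite.one_lt_card_iff_nontrivial]
    have := Nat.le_of_dvd Nat.card_pos (Subgroup.card_subgroup_dvd_card (Subgroup.normalizer ((P : Subgroup G) : Set G)))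
    omega
  refine ⟨?_, ⟨hsimple⟩⟩
  set U := stabilizer G a₀
  have hG : Nat.card U * 10 = Nat.card G := by
    rw [← Subgroup.card_mul_index U, index_stabilizer_of_transitive, show Nat.card α = 2 * p by rw [Nat.card_eq_fintype_card, hα], hp]
  -- the orbits of the stabilizer
  haveI : Fintype (orbitRel.Quotient U α) := Fintype.ofFinite _
  have hcard3 : (Finset.univ : Finset (orbitRel.Quotient U α)).card = 3 := by
    rw [Finset.card_univ, ← Nat.card_eq_fintype_card, hrank]
  obtain ⟨Δ, hΔ, hΔ0, huniq⟩ : ∃ Δ : Set α, (∃ b, b ≠ a₀ ∧ Δ = orbit U b) ∧ Nat.card Δ = 3 ∧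
      ∀ b, Nat.card (orbit U b) = 3 → orbit U b = Δ := by
    have htot : ∑ q : orbitRel.Quotient U α, Nat.card (orbitRel.Quotient.orbit q) = 10 := by
      rw [← Nat.card_sigma, ← Nat.card_congr (selfEquivSigmaOrbits' U α), Nat.card_eq_fintype_card, hα, hp]
    have hq0 : Nat.card (orbitRel.Quotient.orbit (Quotient.mk'' a₀ : orbitRel.Quotient U α)) = 1 := by
      rw [orbitRel.Quotient.orbit_mk, Nat.card_coe_set_eq]
      refine Set.ncard_eq_one.2 ⟨a₀, Set.eq_singleton_iff_unique_mem.2 ⟨mem_orbit_self a₀, ?_⟩⟩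
      rintro x ⟨u, rfl⟩
      exact u.2
    rw [← Finset.add_sum_erase _ _ (Finset.mem_univ (Quotient.mk'' a₀ : orbitRel.Quotient U α)), hq0] at htot
    obtain ⟨q1, q2, h12, hset⟩ := Finset.card_eq_two.1 (show
      (Finset.univ.erase (Quotient.mk'' a₀ : orbitRel.Quotient U α)).card = 2 by
        rw [Finset.card_erase_of_mem (Finset.mem_univ _), hcard3])
    rw [hset, Finset.sum_pair h12] at htot
    have hsz : ∀ q ∈ ({q1, q2} : Finset (orbitRel.Quotient U α)),
        ∃ b, b ≠ a₀ ∧ (orbitRel.Quotient.orbit q) = orbit U b ∧ (Nat.card (orbitRel.Quotient.orbit q) = 3 ∨ Nat.card (orbitRel.Quotient.orbit q) = 6) := by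
      intro q hq'
      rw [← hset, Finset.mem_erase] at hq'
      obtain ⟨b, rfl⟩ := Quotient.mk''_surjective q
      have hb : b ≠ a₀ := fun e => hq'.1 (by rw [e])
      refine ⟨b, hb, orbitRel.Quotient.orbit_mk b, ?_⟩
      rw [orbitRel.Quotient.orbit_mk]
      exact hsize b hb
    obtain ⟨b1, hb1, e1, c1⟩ := hsz q1 (by simp)
    obtain ⟨b2, hb2, e2, c2⟩ := hsz q2 (by simp)
    have hcase : (Nat.card (orbitRel.Quotient.orbit q1) = 3 ∧ Nat.card (orbitRel.Quotient.orbit q2) = 6) ∨ (Nat.card (orbitRel.Quotient.orbit q2) = 3 ∧ Nat.card (orbitRel.Quotient.orbit q1) = 6) := by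
      rcases c1 with c1 | c1 <;> rcases c2 with c2 | c2 <;> omega
    have hother : ∀ b, Nat.card (orbit U b) = 3 → orbit U b = (orbitRel.Quotient.orbit q1) ∨ orbit U b = (orbitRel.Quotient.orbit q2) := by
      intro b hb
      have hmem : (Quotient.mk'' b : orbitRel.Quotient U α) ∈
          Finset.univ.erase (Quotient.mk'' a₀ : orbitRel.Quotient U α) := by
        refine Finset.mem_erase.2 ⟨fun e => ?_, Finset.mem_univ _⟩
        have h1 := congrArg (fun q : orbitRel.Quotient U α => Nat.card (orbitRel.Quotient.orbit q)) e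
        simp only [hq0] at h1
        rw [orbitRel.Quotient.orbit_mk, hb] at h1
        omega
      rw [hset, Finset.mem_insert, Finset.mem_singleton] at hmem
      rcases hmem with e | e <;> rw [← e, orbitRel.Quotient.orbit_mk] <;> tauto
    rcases hcase with ⟨c, c'⟩ | ⟨c, c'⟩
    · refine ⟨(orbitRel.Quotient.orbit q1), ⟨b1, hb1, e1⟩, c, fun b hb => (hother b hb).resolve_right fun e => ?_⟩
      rw [e, c'] at hb; omega
    · refine ⟨(orbitRel.Quotient.orbit q2), ⟨b2, hb2, e2⟩, c, fun b hb => (hother b hb).resolve_left fun e => ?_⟩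
      rw [e, c'] at hb; omega
  obtain ⟨b₀, hb₀, hΔb⟩ := hΔ
  have hUΔ : ∀ u ∈ U, ∀ w ∈ Δ, u • w ∈ Δ := by
    intro u hu w hw
    rw [hΔb] at hw ⊢
    obtain ⟨v, rfl⟩ := hw
    exact ⟨⟨u, hu⟩ * v, mul_smul u (v : G) b₀⟩
  -- the orbit is self-paired
  have hpair : ∀ g : G, g • a₀ ∈ Δ → g⁻¹ • a₀ ∈ Δ := by
    intro g hg
    have hc : Nat.card (orbit U (g • a₀)) = 3 := by
      have e : orbit U (g • a₀) = Δ := by
        rw [hΔb] at hg ⊢
        exact orbit_eq_iff.2 hg
      rw [e, hΔ0]
    have h1 := Nat.card_congr (orbitProdStabilizerEquivGroup U (g • a₀))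
    have h2 := Nat.card_congr (orbitProdStabilizerEquivGroup U (g⁻¹ • a₀))
    rw [Nat.card_prod] at h1 h2
    have h3 : Nat.card (stabilizer U (g • a₀)) = Nat.card (stabilizer U (g⁻¹ • a₀)) := by
      refine Nat.card_congr
        { toFun := fun v => ⟨⟨g⁻¹ * (v.1 : G) * g, ?_⟩, ?_⟩
          invFun := fun v => ⟨⟨g * (v.1 : G) * g⁻¹, ?_⟩, ?_⟩
          left_inv := fun v => Subtype.ext (Subtype.ext (by show g * (g⁻¹ * (v.1 : G) * g) * g⁻¹ = v.1; group))
          right_inv := fun v => Subtype.ext (Subtype.ext (by show g⁻¹ * (g * (v.1 : G) * g⁻¹) * g = v.1; group)) }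
      · have hv : (v.1 : G) • g • a₀ = g • a₀ := v.2
        show (g⁻¹ * (v.1 : G) * g) • a₀ = a₀
        rw [mul_smul, mul_smul, hv, inv_smul_smul]
      · show (g⁻¹ * (v.1 : G) * g) • g⁻¹ • a₀ = g⁻¹ • a₀
        have hv : (v.1 : G) • a₀ = a₀ := v.1.2
        rw [← mul_smul, mul_inv_cancel_right, mul_smul, hv]
      · have hv : (v.1 : G) • g⁻¹ • a₀ = g⁻¹ • a₀ := v.2
        show (g * (v.1 : G) * g⁻¹) • a₀ = a₀
        rw [mul_smul, mul_smul, hv, smul_inv_smul]
      · show (g * (v.1 : G) * g⁻¹) • g • a₀ = g • a₀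
        have hv : (v.1 : G) • a₀ = a₀ := v.1.2
        rw [← mul_smul, inv_mul_cancel_right, mul_smul, hv]
    have h4 : Nat.card (orbit U (g⁻¹ • a₀)) = 3 := by
      rw [h3, ← h2] at h1
      rw [← hc]
      exact (Nat.eq_of_mul_eq_mul_right Nat.card_pos h1).symm
    rw [← huniq _ h4]
    exact mem_orbit_self _
  choose gd hgd using fun d : Δ => exists_smul_eq G a₀ (d : α)
  have hback : ∀ d : Δ, ∃ w ∈ Δ, gd d • w = a₀ :=
    fun d => ⟨(gd d)⁻¹ • a₀, hpair _ (by rw [hgd]; exact d.2), smul_inv_smul _ _⟩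
  -- the action of the stabilizer on the orbit
  let ψ : U →* Equiv.Perm Δ :=
    { toFun := fun u =>
        { toFun := fun d => ⟨(u : G) • (d : α), hUΔ u u.2 d d.2⟩
          invFun := fun d => ⟨(u : G)⁻¹ • (d : α), hUΔ _ (inv_mem u.2) d d.2⟩
          left_inv := fun d => Subtype.ext (inv_smul_smul _ _)
          right_inv := fun d => Subtype.ext (smul_inv_smul _ _) }
      map_one' := Equiv.ext fun d => Subtype.ext (one_smul G _)
      map_mul' := fun u u' => Equiv.ext fun d => Subtype.ext (mul_smul _ _ _) }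
  choose w₀ hw₀ ew₀ using hback
  -- the neighbours of the neighbours cover
  have hcover : ∀ x : α, x = a₀ ∨ x ∈ Δ ∨ ∃ d : Δ, ∃ w ∈ Δ, gd d • w = x := by
    obtain ⟨d, w, hw, hout⟩ : ∃ d : Δ, ∃ w ∈ Δ, gd d • w ∉ Δ ∧ gd d • w ≠ a₀ := by
      by_contra hno
      push Not at hno
      set B : Set α := insert a₀ Δ
      have hB : ∀ b ∈ B, ∀ g : G, g • a₀ = b → ∀ w ∈ Δ, g • w ∈ B := by
        intro b hb g hg w hw
        rcases hb with rfl | hb
        · exact Or.inr (hUΔ g hg w hw)
        · have hu : (gd ⟨b, hb⟩)⁻¹ * g ∈ U := by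
            show ((gd ⟨b, hb⟩)⁻¹ * g) • a₀ = a₀
            rw [mul_smul, hg, inv_smul_eq_iff, hgd]
          have h7 : g • w = gd ⟨b, hb⟩ • (((gd ⟨b, hb⟩)⁻¹ * g) • w) := by rw [mul_smul, smul_inv_smul]
          by_cases hmem : g • w ∈ Δ
          · exact Or.inr hmem
          · left
            rw [h7] at hmem ⊢
            exact hno _ _ (hUΔ _ hu w hw) hmem
      have hBc : ∀ h : G, h • a₀ ∈ B → h • B ⊆ B := by
        intro h hh y hy
        obtain ⟨y', hy', rfl⟩ := hy
        rcases hy' with rfl | hy'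
        · exact hh
        · exact hB _ hh h rfl y' hy'
      have hBeq : ∀ h : G, h • a₀ ∈ B → h • B = B := fun h hh =>
        Set.eq_of_subset_of_ncard_le (hBc h hh) (by rw [Set.ncard_smul_set]) (Set.toFinite _)
      have hBblock : IsBlock G B := by
        rw [isBlock_iff_smul_eq_of_nonempty]
        intro g hg
        obtain ⟨x, hx1, hx2⟩ := hg
        obtain ⟨h, hh⟩ := exists_smul_eq G a₀ x
        obtain ⟨y, hy, hyx⟩ := hx1
        obtain ⟨h', hh'⟩ := exists_smul_eq G a₀ y
        have e1 : h • B = B := hBeq h (by rw [hh]; exact hx2)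
        have e2 : h' • B = B := hBeq h' (by rw [hh']; exact hy)
        have hu : (h⁻¹ * g * h') • a₀ = a₀ := by
          rw [mul_smul, mul_smul, hh', show g • y = x from hyx, ← hh, inv_smul_smul]
        have e3 : (h⁻¹ * g * h') • B = B := hBeq _ (Or.inl hu)
        rw [mul_smul, mul_smul, e2, inv_smul_eq_iff, e1] at e3
        exact e3
      rcases hBblock.subsingleton_or_eq_univ with hsub | huniv
      · have hbB : b₀ ∈ B := Or.inr (hΔb ▸ mem_orbit_self b₀)
        exact hb₀ (hsub hbB (Or.inl rfl))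
      · have h8 : B.ncard ≤ 4 := le_trans (Set.ncard_insert_le _ _) (by rw [← Nat.card_coe_set_eq, hΔ0])
        rw [huniv, Set.ncard_univ, Nat.card_eq_fintype_card, hα, hp] at h8
        omega
    intro x
    by_cases hx0 : x = a₀
    · exact Or.inl hx0
    by_cases hxΔ : x ∈ Δ
    · exact Or.inr (Or.inl hxΔ)
    refine Or.inr (Or.inr ?_)
    have horb : orbit U x = orbit U (gd d • w) := by
      have hne3 : ∀ y, y ≠ a₀ → y ∉ Δ → Nat.card (orbit U y) = 6 := fun y hy hyΔ =>
        (hsize y hy).resolve_left fun e => hyΔ (huniq y e ▸ mem_orbit_self y)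
      by_contra hne
      have h9 : Disjoint (orbit U x) (orbit U (gd d • w)) := (orbit.eq_or_disjoint x (gd d • w)).resolve_left hne
      have h10 := Set.ncard_union_eq h9 (Set.toFinite _) (Set.toFinite _)
      have h11 := Set.ncard_le_ncard (Set.subset_univ (orbit U x ∪ orbit U (gd d • w))) (Set.toFinite _)
      rw [h10, ← Nat.card_coe_set_eq, ← Nat.card_coe_set_eq, hne3 x hx0 hxΔ, hne3 _ hout.2 hout.1,
        Set.ncard_univ, Nat.card_eq_fintype_card, hα, hp] at h11
      omega
    obtain ⟨v, hv⟩ := (horb ▸ mem_orbit_self x : x ∈ orbit U (gd d • w))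
    have hv' : (v : G) • gd d • w = x := hv
    set d' : Δ := ⟨(v : G) • (d : α), hUΔ v v.2 d d.2⟩
    have hu : (gd d')⁻¹ * (v : G) * gd d ∈ U := by
      show ((gd d')⁻¹ * (v : G) * gd d) • a₀ = a₀
      rw [mul_smul, mul_smul, hgd d, inv_smul_eq_iff, hgd d']
    exact ⟨d', _, hUΔ _ hu w hw, by rw [mul_smul, mul_smul, smul_inv_smul, hv']⟩
  have hkΔ : ∀ k : ψ.ker, ∀ d ∈ Δ, ((k : U) : G) • d = d := fun k d hd =>
    congrArg Subtype.val (Equiv.congr_fun (MonoidHom.mem_ker.1 k.2) ⟨d, hd⟩)
  have hmem : ∀ (k : ψ.ker) (d : Δ), (gd d)⁻¹ * ((k : U) : G) * gd d ∈ U := fun k d => by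
    show ((gd d)⁻¹ * ((k : U) : G) * gd d) • a₀ = a₀
    rw [mul_smul, mul_smul, hgd, hkΔ k d d.2, ← hgd d, inv_smul_smul]
  have hfix0 : ∀ (k : ψ.ker) (d : Δ), ψ ⟨_, hmem k d⟩ ∈ stabilizer (Equiv.Perm Δ) (⟨w₀ d, hw₀ d⟩ : Δ) := by
    intro k d
    refine Subtype.ext ?_
    show ((gd d)⁻¹ * ((k : U) : G) * gd d) • w₀ d = w₀ d
    rw [mul_smul, mul_smul, ew₀ d, show ((k : U) : G) • a₀ = a₀ from (k : U).2, ← ew₀ d, inv_smul_smul]
  let Φ : ψ.ker →* ((d : Δ) → stabilizer (Equiv.Perm Δ) (⟨w₀ d, hw₀ d⟩ : Δ)) :=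
    { toFun := fun k d => ⟨ψ ⟨_, hmem k d⟩, hfix0 k d⟩
      map_one' := funext fun d => Subtype.ext (Equiv.ext fun w => Subtype.ext (by
        show ((gd d)⁻¹ * (((1 : ψ.ker) : U) : G) * gd d) • (w : α) = w
        simp))
      map_mul' := fun k k' => funext fun d => Subtype.ext (Equiv.ext fun w => Subtype.ext (by
        show ((gd d)⁻¹ * (((k * k' : ψ.ker) : U) : G) * gd d) • (w : α) =
          ((gd d)⁻¹ * ((k : U) : G) * gd d) • ((gd d)⁻¹ * ((k' : U) : G) * gd d) • (w : α)
        rw [← mul_smul]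
        congr 1
        push_cast
        group)) }
  have hΦ : Function.Injective Φ := by
    refine (injective_iff_map_eq_one Φ).2 fun k hk => Subtype.ext (Subtype.ext (eq_of_smul_eq_smul (α := α) fun x => ?_))
    show ((k : U) : G) • x = (1 : G) • x
    rw [one_smul]
    rcases hcover x with rfl | hx | ⟨d, w, hw, rfl⟩
    · exact (k : U).2
    · exact hkΔ k x hx
    · have h1 := congrArg Subtype.val (Equiv.congr_fun (congrArg Subtype.val (congrFun hk d)) ⟨w, hw⟩)
      have h2 : ((gd d)⁻¹ * ((k : U) : G) * gd d) • w = w := h1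
      rw [mul_smul, mul_smul, inv_smul_eq_iff] at h2
      exact h2
  have hker8 : Nat.card ψ.ker ∣ 8 := by
    refine (Subgroup.card_dvd_of_injective Φ hΦ).trans ?_
    rw [Nat.card_pi, Finset.prod_congr rfl fun d _ => show Nat.card (stabilizer (Equiv.Perm Δ) (⟨w₀ d, hw₀ d⟩ : Δ)) = 2 by
      have h1 := Subgroup.card_mul_index (stabilizer (Equiv.Perm Δ) (⟨w₀ d, hw₀ d⟩ : Δ))
      rw [index_stabilizer_of_transitive, Nat.card_perm, hΔ0] at h1
      rw [show Nat.factorial 3 = 6 from rfl] at h1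
      omega, Finset.prod_const, Finset.card_univ, ← Nat.card_eq_fintype_card, hΔ0]
    norm_num
  -- counting
  obtain ⟨n, hn, -⟩ := SmallSylow.exists_count P
  have h1 := card_eq_mul P
  rw [hn, hC, hq, hp] at h1
  have hU : Nat.card U = n * 5 + 1 := by omega
  have hdvd : Nat.card U ∣ 48 := by
    rw [← Subgroup.card_mul_index ψ.ker, Subgroup.index_ker, show (48 : ℕ) = 8 * 6 from rfl]
    refine Nat.mul_dvd_mul hker8 ((Subgroup.card_subgroup_dvd_card ψ.range).trans ?_)
    rw [Nat.card_perm, hΔ0]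
    rfl
  have h3 : 3 ∣ Nat.card U := by
    rw [← Nat.card_congr (orbitProdStabilizerEquivGroup U b₀), Nat.card_prod, ← hΔb, hΔ0]
    exact dvd_mul_right _ _
  have hle := Nat.le_of_dvd (by norm_num) hdvd
  interval_cases hU' : Nat.card U <;> first | omega | norm_num at hdvd

end CfsgLib.SmallSylow.PredTwo
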